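import Cfsg.Agent.MinSimple.Basic
import Cfsg.Agent.Lib.SylowNormalInf

/-!
# THEOREM 2F4: Sylow 2-subgroups of subgroups, elementwise tools

`Syl2 Q L` : `Q` is a Sylow 2-subgroup of the subgroup `L`.
-/

set_option autoImplicit false
set_option linter.unusedSectionVars false

namespace Cfsg.Agent.Omega.TwoFFour

open Subgroup Cfsg.Agent.MinSimple.VModule

variable {G : Type*} [Group G]

instance : Fact (Nat.Prime 2) := ⟨Nat.prime_two⟩

/-- `Q` is a Sylow 2-subgroup of `L` -/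
structure Syl2 (Q L : Subgroup G) : Prop where
  le : Q ≤ L
  two : IsPGroup 2 Q
  odd : ¬ 2 ∣ Q.relIndex L

namespace Syl2

variable [Finite G] {Q Q' L L' K R : Subgroup G}

theorem of_sylow (S : Sylow 2 G) (h : (S : Subgroup G) ≤ L) : Syl2 (S : Subgroup G) L :=
  ⟨h, S.isPGroup', Cfsg.Agent.MinSimple.Basic.not_dvd_relIndex S h⟩

theorem mono (h : Syl2 Q L) (hQ : Q ≤ L') (hL : L' ≤ L) : Syl2 Q L' := by
  refine ⟨hQ, h.two, fun h2 => h.odd ?_⟩
  rw [← relIndex_mul_relIndex Q L' L hQ hL]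
  exact h2.mul_right _

/-- the Sylow 2-subgroup of the group `L` -/
def syl (h : Syl2 Q L) : Sylow 2 L :=
  (h.two.comap_of_injective _ L.subtype_injective : IsPGroup 2 (Q.subgroupOf L)).toSylow h.odd

theorem coe_syl (h : Syl2 Q L) : (h.syl : Subgroup L) = Q.subgroupOf L := rfl

/-- the intersection with a normal subgroup -/
theorem inf (h : Syl2 Q L) (hK : K ≤ L) (hn : L ≤ normalizer (K : Set G)) : Syl2 (Q ⊓ K) K := by
  refine ⟨inf_le_right, h.two.to_le inf_le_left, ?_⟩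
  have h1 : (K.subgroupOf L).Normal := normal_subgroupOf_of_le_normalizer hn
  have h2 := Lib.SylowNormalInf.not_dvd_relIndex h.syl (K.subgroupOf L)
  rw [coe_syl, relIndex_subgroupOf hK] at h2
  rwa [inf_relIndex_right]

/-- a normal 2-subgroup lies in every Sylow 2-subgroup -/
theorem le_of_normal (h : Syl2 Q L) (hR : R ≤ L) (hn : L ≤ normalizer (R : Set G)) (h2 : IsPGroup 2 R) : R ≤ Q :=
  (le_o2 hR h2 hn).trans (o2_le_of_sylow h.two h.odd)

/-- every 2-subgroup of `L` is conjugate to a subgroup of `Q` -/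
theorem exists_conj_le (h : Syl2 Q L) (hR : R ≤ L) (h2 : IsPGroup 2 R) :
    ∃ x ∈ L, ∀ r ∈ R, x * r * x⁻¹ ∈ Q := by
  obtain ⟨P, hP⟩ := (h2.comap_of_injective _ L.subtype_injective : IsPGroup 2 (R.subgroupOf L)).exists_le_sylow
  obtain ⟨x, hx⟩ := MulAction.exists_smul_eq L P h.syl
  refine ⟨x, x.2, fun r hr => ?_⟩
  have h3 : (⟨r, hR hr⟩ : L) ∈ P := hP (mem_subgroupOf.2 hr)
  have h4 : x * ⟨r, hR hr⟩ * x⁻¹ ∈ (h.syl : Subgroup L) := by
    rw [← hx]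
    have : x * ⟨r, hR hr⟩ * x⁻¹ = MulAut.conj x • (⟨r, hR hr⟩ : L) := rfl
    rw [this, Sylow.coe_subgroup_smul]
    exact smul_mem_pointwise_smul _ _ _ h3
  exact mem_subgroupOf.1 h4

/-- Sylow's theorem -/
theorem exists_conj (h : Syl2 Q L) (h' : Syl2 Q' L) :
    ∃ x ∈ L, (∀ g, g ∈ Q → x * g * x⁻¹ ∈ Q') ∧ ∀ g, g ∈ Q' → x⁻¹ * g * x ∈ Q := by
  obtain ⟨x, hx⟩ := MulAction.exists_smul_eq L h.syl h'.syl
  have key : ∀ g : L, g ∈ h.syl ↔ x * g * x⁻¹ ∈ h'.syl := by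
    intro g
    rw [← hx]
    have : x * g * x⁻¹ = MulAut.conj x • g := rfl
    rw [this]
    show g ∈ (h.syl : Subgroup L) ↔ MulAut.conj x • g ∈ ((x • h.syl : Sylow 2 L) : Subgroup L)
    rw [Sylow.coe_subgroup_smul]
    exact (smul_mem_pointwise_smul_iff).symm
  refine ⟨x, x.2, fun g hg => ?_, fun g hg => ?_⟩
  · have h1 := (key ⟨g, h.le hg⟩).1 (mem_subgroupOf.2 hg)
    exact mem_subgroupOf.1 h1
  · have h1 : x * (x⁻¹ * ⟨g, h'.le hg⟩ * x) * x⁻¹ ∈ h'.syl := by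
      have e : x * (x⁻¹ * ⟨g, h'.le hg⟩ * x) * x⁻¹ = ⟨g, h'.le hg⟩ := by group
      rw [e]
      exact mem_subgroupOf.2 hg
    have h2 := (key _).2 h1
    exact mem_subgroupOf.1 h2

/-- a Sylow 2-subgroup covers every quotient that is a 2-group -/
theorem cover (h : Syl2 Q L) (hK : K ≤ L) (hn : L ≤ normalizer (K : Set G))
    (hq : ∀ g ∈ L, ∃ n : ℕ, g ^ 2 ^ n ∈ K) {g : G} (hg : g ∈ L) : ∃ s ∈ Q, s⁻¹ * g ∈ K := by
  have h1 : (K.subgroupOf L).Normal := normal_subgroupOf_of_le_normalizer hn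
  have h2 := Lib.SylowNormalInf.le_sup_inf h.syl ⊤ (K.subgroupOf L) (fun x _ => by
    obtain ⟨n, hn⟩ := hq x x.2
    exact ⟨n, mem_subgroupOf.2 hn⟩)
  have h3 : (⟨g, hg⟩ : L) ∈ K.subgroupOf L ⊔ ((h.syl : Subgroup L) ⊓ ⊤) := h2 (mem_top _)
  rw [inf_top_eq, sup_comm] at h3
  obtain ⟨s, hs, k, hk, e⟩ := (mem_sup_of_normal_right (t := K.subgroupOf L)).1 h3
  refine ⟨s, mem_subgroupOf.1 hs, ?_⟩
  have e' : (s : G) * k = g := congrArg Subtype.val e
  rw [← e', inv_mul_cancel_left]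
  exact mem_subgroupOf.1 hk

end Syl2

end Cfsg.Agent.Omega.TwoFFour
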