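import Cfsg.Agent.Omega.TwoFFour.SzNatE

/-!
# Quadratic sections of `Sz(q)`: from `IsoSuzuki`

* `exists_coord` : coordinates of `J ≅ Sz(q)` in which a given Sylow 2-subgroup is `{U a b}`;
* `of_sq`, `omega_of_norm`, `omega_of_card` : elementary abelian subgroups of the Sylow 2-subgroup;
* `exists_szAct` : `SzAct` from a homomorphism of `L` onto `J`.
-/

set_option autoImplicit false
set_option linter.unusedSectionVars false

namespace Cfsg.Agent.Omega.TwoFFour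

open Subgroup
open Cfsg.Agent.LieRecognition.SzMatrix Cfsg.Agent.ThreePrime.SzRel

section coord

variable {J : Type*} [Group J]

/-- **coordinates adapted to a Sylow 2-subgroup** -/
theorem exists_coord [Finite J] (h : Cfsg.Lie.IsoSuzuki J) (P : Sylow 2 J) :
    ∃ (F : Type) (_ : Field F) (_ : Fintype F) (m : ℕ) (hF : Fintype.card F = 2 ^ (2 * m + 1)), 1 ≤ m ∧
      ∃ f : J ≃* LS F (2 ^ (m + 1)), ∀ x, x ∈ (P : Subgroup J) ↔ ∃ a b, f x = (good hF).u a b := by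
  have : Fact (Nat.Prime 2) := ⟨Nat.prime_two⟩
  obtain ⟨F, iF, iF', m, hm, hF, ⟨f₀⟩⟩ := h
  refine ⟨F, iF, iF', m, hF, hm, ?_⟩
  let R₀ : Cfsg.Agent.ThreePrime.SzRel.Rel J F := (ofGood (good hF)).map f₀.symm
  obtain ⟨P₀, hP₀⟩ := R₀.exists_sylow_eq hm hF
  obtain ⟨g, hg⟩ := MulAction.exists_smul_eq J P P₀
  refine ⟨(MulAut.conj g).trans f₀, fun x => ?_⟩
  have h1 : x ∈ (P : Subgroup J) ↔ MulAut.conj g x ∈ (P₀ : Subgroup J) := by
    rw [← hg, Sylow.coe_subgroup_smul, Subgroup.mem_pointwise_smul_iff_inv_smul_mem]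
    have h2 : (MulAut.conj g)⁻¹ • (MulAut.conj g x) = x := by
      show (MulAut.conj g)⁻¹ (MulAut.conj g x) = x
      rw [MulAut.inv_apply_self]
    have h3 : (g • P : Sylow 2 J) = (g • P : Sylow 2 J) := rfl
    show _ ↔ (MulAut.conj g)⁻¹ • (MulAut.conj g x) ∈ (P : Subgroup J)
    rw [h2]
  rw [h1, hP₀]
  constructor
  · rintro ⟨a, b, hab⟩
    refine ⟨a, b, ?_⟩
    show f₀ (MulAut.conj g x) = _
    rw [hab]
    exact MulEquiv.apply_symm_apply f₀ _
  · rintro ⟨a, b, hab⟩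
    refine ⟨a, b, ?_⟩
    show MulAut.conj g x = f₀.symm ((good hF).u a b)
    rw [← hab]
    exact (MulEquiv.symm_apply_apply f₀ _).symm

variable {F : Type*} [Field F] {θ : F →+* F} {e : ℕ} (H : Good F θ e)

theorem u_sq (a b : F) : H.u a b * H.u a b = H.u 0 (a * θ a) := by
  rw [H.u_mul]
  have := H.two
  congr 1
  · linear_combination a * this
  · linear_combination b * this

/-- involutions of the Sylow subgroup -/
theorem of_sq {a b : F} (h : H.u a b * H.u a b = 1) : a = 0 := by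
  rw [u_sq, ← H.u_zero] at h
  have h1 := (H.u_inj h).2
  rcases mul_eq_zero.1 h1 with h2 | h2
  · exact h2
  · exact (map_eq_zero θ).1 h2

theorem d_conj_u (k : Fˣ) (b : F) : H.d k * H.u 0 b * (H.d k)⁻¹ = H.u 0 (b * θ k) := by
  rw [H.d_mul_u, mul_inv_cancel_right]
  congr 1
  ring

/-- a nontrivial subgroup of `Ω₁(P)` normalised by the torus is `Ω₁(P)` -/
theorem omega_of_norm [Finite F] {E : Subgroup (LS F e)} (hE : ∀ x ∈ E, ∃ b, x = H.u 0 b) (hne : E ≠ ⊥)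
    (hd : ∀ k, ∀ x ∈ E, H.d k * x * (H.d k)⁻¹ ∈ E) (b : F) : H.u 0 b ∈ E := by
  obtain ⟨x, hx, hx1⟩ : ∃ x ∈ E, x ≠ 1 := by
    by_contra hcon
    push Not at hcon
    exact hne ((Subgroup.eq_bot_iff_forall E).2 hcon)
  by_cases hb : b = 0
  · rw [hb, H.u_zero]
    exact one_mem _
  obtain ⟨c, hc⟩ := hE _ hx
  have hc0 : c ≠ 0 := by
    rintro rfl
    rw [H.u_zero] at hc
    exact hx1 hc
  obtain ⟨k, hk⟩ : ∃ k, θ k = b * c⁻¹ := Finite.surjective_of_injective θ.injective _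
  have hk0 : k ≠ 0 := by
    rintro rfl
    rw [map_zero] at hk
    exact mul_ne_zero hb (inv_ne_zero hc0) hk.symm
  have h1 := hd (Units.mk0 k hk0) _ hx
  rw [hc, d_conj_u, Units.val_mk0, hk] at h1
  have e1 : c * (b * c⁻¹) = b := by field_simp
  rwa [e1] at h1

/-- a subgroup of `Ω₁(P)` of order `q` is `Ω₁(P)` -/
theorem omega_of_card [Finite F] {E : Subgroup (LS F e)} (hE : ∀ x ∈ E, ∃ b, x = H.u 0 b)
    (hc : Nat.card F ≤ Nat.card E) (b : F) : H.u 0 b ∈ E := by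
  choose f hf using hE
  have hinj : Function.Injective (fun x : E => f x x.2) := by
    intro x y hxy
    have hxy : f x x.2 = f y y.2 := hxy
    have h1 := hf x x.2
    rw [hxy, ← hf y y.2] at h1
    exact Subtype.ext h1
  have hbij := hinj.bijective_of_nat_card_le hc
  obtain ⟨x, hx⟩ := hbij.2 b
  have hx : f x x.2 = b := hx
  rw [← hx, ← hf x x.2]
  exact x.2

end coord

universe u

variable {G : Type u} [Group G]

/-- **`SzAct` from a homomorphism of `L` onto a Suzuki group** -/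
theorem exists_szAct {L W Z : Subgroup G} {J : Type*} [Group J] [Finite J] (hJ : Cfsg.Lie.IsoSuzuki J)
    (P : Sylow 2 J) (ρ : L →* J) (hρ : Function.Surjective ρ) (hZW : Z ≤ W)
    (hLW : ∀ g ∈ L, ∀ x ∈ W, g * x * g⁻¹ ∈ W) (hLZ : ∀ g ∈ L, ∀ x ∈ Z, g * x * g⁻¹ ∈ Z)
    (hWZ : ∀ x ∈ W, ∀ z ∈ Z, x * z * x⁻¹ ∈ Z) (hsq : ∀ x ∈ W, x * x ∈ Z)
    (hker : ∀ l : L, ρ l = 1 → ∀ x ∈ W, (l : G) * x * (l : G)⁻¹ * x⁻¹ ∈ Z)
    (hquad : ∀ l l' : L, ρ l ∈ (P : Subgroup J) → ρ l * ρ l = 1 → ρ l' ∈ (P : Subgroup J) → ρ l' * ρ l' = 1 →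
      ∀ x ∈ W, (l : G) * ((l' : G) * x * (l' : G)⁻¹ * x⁻¹) * (l : G)⁻¹ * ((l' : G) * x * (l' : G)⁻¹ * x⁻¹)⁻¹ ∈ Z) :
    ∃ (F : Type) (_ : Field F) (_ : Fintype F) (m : ℕ) (hF : Fintype.card F = 2 ^ (2 * m + 1)), 1 ≤ m ∧
      ∃ f : J ≃* LS F (2 ^ (m + 1)), (∀ x, x ∈ (P : Subgroup J) ↔ ∃ a b, f x = (good hF).u a b) ∧
        SzAct (good hF) L W Z (f.toMonoidHom.comp ρ) := by
  obtain ⟨F, iF, iF', m, hF, hm, f, hf⟩ := exists_coord hJ P
  have key : ∀ (b : F) (l : L), f (ρ l) = (good hF).u 0 b → ρ l ∈ (P : Subgroup J) ∧ ρ l * ρ l = 1 := by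
    intro b l hl
    refine ⟨(hf _).2 ⟨0, b, hl⟩, f.injective ?_⟩
    rw [map_mul, hl, u_sq, map_one, zero_mul, (good hF).u_zero]
  refine ⟨F, iF, iF', m, hF, hm, f, hf, ?_⟩
  exact
    { Z_le := hZW
      conjW := fun hg hx => hLW _ hg _ hx
      conjZ := fun hg hx => hLZ _ hg _ hx
      nZ := fun hx hz => hWZ _ hx _ hz
      sq := hsq
      surj := f.surjective.comp hρ
      ker := fun l hl x hx => hker l (f.injective (by rw [map_one]; exact hl)) x hx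
      quad := fun b c l l' hl hl' x hx =>
        hquad l l' (key b l hl).1 (key b l hl).2 (key c l' hl').1 (key c l' hl').2 x hx }

end Cfsg.Agent.Omega.TwoFFour
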