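import Cfsg.Agent.Omega.TwoFFour.Root
import Cfsg.Agent.Omega.Close.Base

/-!
# THEOREM 2F4: the exit

`Oct.bn2` : `⟨P₀, P₁⟩` has a split BN-pair of rank 2;
`Oct.known` : closing, if all members of `L(S)` normalise `⟨P₀, P₁⟩`;
`Oct.known_of_par` : closing, if `N_G(S)` and all minimal parabolic subgroups lie in `⟨P₀, P₁⟩`.
-/

set_option autoImplicit false

universe u

namespace Cfsg.Agent.Omega.TwoFFour

open Subgroup Cfsg.Agent.Omega.MinPar Cfsg.Agent.Omega.Frame
open Cfsg.Agent.Omega.Close.Base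

namespace Oct

variable {G : Type u} [Group G] [Finite G] {P Q : Bool → Subgroup G} {n : Bool → G}
  {B S H Z W O : Subgroup G} {N : ℕ} {θ : ZMod N} {x y : G → ZMod N}

theorem bn2 (h : Oct P Q n B S H Z W O θ x y) (hB : RootLemma.Bender.{u}) : BN2 (P false ⊔ P true : Subgroup G) := by
  obtain ⟨R, hr, hs, -, -⟩ := h.exists_split hB rfl
  exact ⟨R, by omega, hs⟩

/-- **closing** -/
theorem known (h : Oct P Q n B S H Z W O θ x y) (hB : RootLemma.Bender.{u}) (h44 : Exits.St1144.{u}) (hG : Ctx G)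
    {T : Sylow 2 G} (hF : Full (T : Subgroup G))
    (hL : ∀ L : Subgroup G, IsLoc (T : Subgroup G) L → L ≤ normalizer ((P false ⊔ P true : Subgroup G) : Set G)) :
    IsKnownSimple' G := known_of_bn2 h44 hG hF (h.bn2 hB) hL

/-- **closing**, in terms of the minimal parabolic subgroups -/
theorem known_of_par (h : Oct P Q n B S H Z W O θ x y) (hB : RootLemma.Bender.{u}) (h44 : Exits.St1144.{u}) (hG : Ctx G)
    {T : Sylow 2 G} (hF : Full (T : Subgroup G))
    (hN : normalizer ((T : Subgroup G) : Set G) ≤ P false ⊔ P true)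
    (hP : ∀ R : Subgroup G, IsPar (T : Subgroup G) R → R ≤ P false ⊔ P true) : IsKnownSimple' G := by
  have := hG.simple
  have h1 := h.bn2 hB
  refine known_of_eq_top hG.nonComm (eq_top_of_par hG hF h1.ne_bot (hN.trans le_normalizer)
    fun R hR => (hP R hR).trans le_normalizer) fun hs _ => ?_
  exact h1.known h44

end Oct

end Cfsg.Agent.Omega.TwoFFour
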