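import Cfsg.Agent.Omega.TwoFFour.Plug
import Cfsg.Agent.Omega.TwoFFour.Exit

/-!
# THEOREM 2F4: `Sit` gives the BN-pair and the exit
-/

set_option autoImplicit false

universe u

namespace Cfsg.Agent.Omega.TwoFFour

open Subgroup Cfsg.Agent.Omega.MinPar Cfsg.Agent.Omega.Frame
open Cfsg.Agent.ZN
open Cfsg.Agent.LieRecognition.SzMatrix (Good)
open Cfsg.Agent.Omega.Close.Base

namespace Sit

variable {G : Type u} [Group G] [Finite G] {F : Type*} [Field F] {θ : F →+* F} {e : ℕ} {H : Good F θ e}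
  {S : Sylow 2 G} {V Z W : Subgroup G}

/-- `⟨N(Z), N(V)⟩` has a split BN-pair of rank 2. -/
theorem bn2 (h : Sit F H S V Z W) (hB : RootLemma.Bender.{u})
    (hC2 : ∀ v ∈ Z, v ≠ 1 → centralizer ({v} : Set G) ⊓ centralizer (o2 (centralizer ({v} : Set G)) : Set G) ≤
      o2 (centralizer ({v} : Set G))) :
    BN2 (normalizer (Z : Set G) ⊔ normalizer (V : Set G) : Subgroup G) := by
  obtain ⟨n, Hh, N, t, x, y, ho⟩ := h.exists_oct hC2
  exact ho.bn2 hB

/-- **closing**: `N_G(S)` and all minimal parabolic subgroups lie in `⟨N(Z), N(V)⟩` -/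
theorem known_of_par (h : Sit F H S V Z W) (hB : RootLemma.Bender.{u}) (h44 : Exits.St1144.{u}) (hG : Ctx G)
    (hC2 : ∀ v ∈ Z, v ≠ 1 → centralizer ({v} : Set G) ⊓ centralizer (o2 (centralizer ({v} : Set G)) : Set G) ≤
      o2 (centralizer ({v} : Set G)))
    {T : Sylow 2 G} (hF : Full (T : Subgroup G))
    (hN : normalizer ((T : Subgroup G) : Set G) ≤ normalizer (Z : Set G) ⊔ normalizer (V : Set G))
    (hP : ∀ R : Subgroup G, IsPar (T : Subgroup G) R → R ≤ normalizer (Z : Set G) ⊔ normalizer (V : Set G)) :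
    IsKnownSimple' G := by
  obtain ⟨n, Hh, N, t, x, y, ho⟩ := h.exists_oct hC2
  exact ho.known_of_par hB h44 hG hF hN hP

end Sit

end Cfsg.Agent.Omega.TwoFFour
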