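import Cfsg.Agent.Omega.TwoFFour.FamOf
import Cfsg.Agent.Omega.FrameLE

/-!
# (F1) for `²F₄(q)` (text #13707, referee #14126): all minimal parabolic subgroups lie in `⟨N(V), N(Z)⟩`

`Sit.W_le_of` : `W` is generated by the conjugates of `V` under `N(Z)`;
`Sit.zl_le_cen` : `V_P ≤ C(W)` for all `P ∈ P*(S)` (cases `AllIn`, no mutual pair);
`Sit.zl_eq` : `V_P = V` for all `P ∈ P*(S)`;
`Sit.all_par` : all `R ∈ P(S)` and `N(S)` lie in `⟨N(V), N(Z)⟩`.
-/

set_option autoImplicit false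
set_option linter.unusedSectionVars false

namespace Cfsg.Agent.Omega.TwoFFour

open Subgroup Matrix
open Cfsg.Agent.ZN Cfsg.Agent.MinSimple.VModule Cfsg.Agent.Lib.SL2Mat
open Cfsg.Agent.LieRecognition.SzMatrix (Good)
open Cfsg.Agent.Omega.NatPair (NatMod ap ext2)
open Cfsg.Agent.Omega.MinPar Cfsg.Agent.Omega.FrameLE
open Cfsg.Agent.Omega.FrameNOFF (CZ)
open scoped Pointwise

universe u

namespace Sit

section gen

variable {G : Type*} [Group G]
variable {F : Type*} [Field F] {θ : F →+* F} {e : ℕ} {H : Good F θ e} {S : Sylow 2 G} {V Z W : Subgroup G}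
variable (h : Sit F H S V Z W)
include h

/-- `W` is generated by the conjugates of `V` under `N(Z)` -/
theorem W_le_of [Finite G] {D : Subgroup G} (hD : ∀ c ∈ normalizer (Z : Set G), ∀ v ∈ V, c * v * c⁻¹ ∈ D) : W ≤ D := by
  let X : AddSubgroup (Fin 4 → F) :=
    { carrier := {v | ∃ w ∈ W, h.P.f w = v ∧ w ∈ D}
      add_mem' := by
        rintro _ _ ⟨x, hx, rfl, hxq⟩ ⟨y, hy, rfl, hyq⟩
        exact ⟨x * y, mul_mem hx hy, h.f_mul hx hy, mul_mem hxq hyq⟩
      zero_mem' := ⟨1, one_mem _, h.f_one, one_mem _⟩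
      neg_mem' := by
        rintro _ ⟨x, hx, rfl, hxq⟩
        exact ⟨x⁻¹, inv_mem hx, h.P.f_inv hx, inv_mem hxq⟩ }
  have hX : X = ⊤ := by
    apply span_lines H
    intro A hA c
    obtain ⟨g, hg, hgA⟩ := h.P.exists_ind hA
    obtain ⟨v, hv, hvf⟩ := h.exists_V c
    refine ⟨g * v * g⁻¹, h.conjW hg (h.V_le_W hv), ?_, hD g hg v hv⟩
    rw [h.f_conj hg (h.V_le_W hv), hgA, hvf]
    congr 1
    apply ext4 <;> simp
  intro w hw
  have h1 : h.P.f w ∈ X := by rw [hX]; exact AddSubgroup.mem_top _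
  obtain ⟨w', hw', hf, hc⟩ := h1
  have h2 : w * w'⁻¹ ∈ Z := by
    rw [← h.P.f_ker (mul_mem hw (inv_mem hw')), h.f_mul hw (inv_mem hw'), h.f_inv hw', hf]
    exact funext fun i => H.add_self _
  have h3 := hD 1 (one_mem _) _ (h.Z_le_V h2)
  have e1 : w = 1 * (w * w'⁻¹) * 1⁻¹ * w' := by group
  rw [e1]
  exact mul_mem h3 hc

end gen

variable {G : Type u} [Group G] [Finite G]
variable {F : Type*} [Field F] {θ : F →+* F} {e : ℕ} {H : Good F θ e} {S : Sylow 2 G} {V Z W : Subgroup G}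
variable (h : Sit F H S V Z W)
include h

theorem o2C_le_S : o2 (centralizer (Z : Set G)) ≤ (S : Subgroup G) :=
  o2_le_of_sylow S.isPGroup' (Syl2.of_sylow S h.SZ).odd

/-- **(2)** `V_P ≤ C(W)` -/
theorem zl_le_cen (hZ : zc (S : Subgroup G) = Z) {P₀ : Subgroup G} (hP₀ : IsParS (S : Subgroup G) P₀)
    (hV : zl (S : Subgroup G) P₀ = V) (hin : AllIn (S : Subgroup G)) (hno : ¬ FF (S : Subgroup G)) {P : Subgroup G}
    (hP : IsParS (S : Subgroup G) P) : zl (S : Subgroup G) P ≤ centralizer (W : Set G) := by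
  have hin' : ∀ {Q : Subgroup G}, IsParS (S : Subgroup G) Q → zl (S : Subgroup G) Q ≤ o2 (centralizer (Z : Set G)) := by
    intro Q hQ
    have h1 := hin Q hQ
    unfold CZ at h1
    rwa [hZ] at h1
  apply le_centralizer_iff.1
  apply h.W_le_of
  intro c hc v hv
  have hcN := normalizer_o2 (mem_normalizer_cen hc)
  have hVo : V ≤ o2 (centralizer (Z : Set G)) := by rw [← hV]; exact hin' hP₀
  have hSP : (S : Subgroup G) ≤ normalizer (zl (S : Subgroup G) P : Set G) := hP.le.trans (le_normalizer_zl _ _)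
  have h1 := commute_of_not_FF hno hP hP₀ c ?_ ?_
  · rw [commutator_eq_bot_iff_le_centralizer, hV] at h1
    rw [mem_centralizer_iff]
    intro x hx
    have h2 := mem_centralizer_iff.1 (h1 hx) (c * v * c⁻¹)
      (show c * v * c⁻¹ ∈ MulAut.conj c • V from smul_mem_pointwise_smul v (MulAut.conj c) V hv)
    exact h2.symm
  · rw [hV]
    intro x hx
    have h2 : c⁻¹ * x * c ∈ normalizer (V : Set G) := by
      have h3 := (mem_normalizer_iff.1 (inv_mem hcN) x).1 (hin' hP hx)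
      rw [inv_inv] at h3
      exact h.SV (h.o2C_le_S h3)
    refine mem_normalizer_of_map_le ?_
    rintro _ ⟨y, hy, rfl⟩
    rw [SetLike.mem_coe, mem_pointwise_smul_iff_inv_smul_mem, ← map_inv, MulAut.smul_def, MulAut.conj_apply, inv_inv] at hy
    rw [mem_pointwise_smul_iff_inv_smul_mem, ← map_inv, MulAut.smul_def, MulAut.conj_apply, inv_inv]
    show c⁻¹ * (x * y * x⁻¹) * c ∈ V
    have h3 := h.conjV h2 hy
    have e : c⁻¹ * x * c * (c⁻¹ * y * c) * (c⁻¹ * x * c)⁻¹ = c⁻¹ * (x * y * x⁻¹) * c := by group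
    rwa [e] at h3
  · rw [hV]
    intro y hy
    rw [mem_pointwise_smul_iff_inv_smul_mem, ← map_inv, MulAut.smul_def, MulAut.conj_apply, inv_inv] at hy
    have h3 := (mem_normalizer_iff.1 hcN _).1 (hVo hy)
    have e : c * (c⁻¹ * y * c) * c⁻¹ = y := by group
    rw [e] at h3
    exact hSP (h.o2C_le_S h3)

/-- **(F1)** : `V_P = V` for all `P ∈ P*(S)` -/
theorem zl_eq (hFF : FFThm.Stmt.{u}) (hG : IsCharacteristicTwoType G) (hZ : zc (S : Subgroup G) = Z) {P₀ : Subgroup G}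
    (hP₀ : IsParS (S : Subgroup G) P₀) (hV : zl (S : Subgroup G) P₀ = V) (hin : AllIn (S : Subgroup G))
    (hno : ¬ FF (S : Subgroup G)) (hW : ∀ f ∈ centralizer (W : Set G), f * f = 1 → f ∈ W) {P : Subgroup G}
    (hP : IsParS (S : Subgroup G) P) : zl (S : Subgroup G) P = V := by
  have hc := hP.isLoc.char2 S hG
  have hU : zl (S : Subgroup G) P ≤ W := by
    intro x hx
    refine hW x (h.zl_le_cen hZ hP₀ hV hin hno hP hx) ?_
    rw [← pow_two]
    exact zl_sq hP.le S.isPGroup' (MinSimple.Basic.not_dvd_relIndex S hP.le) hc x hx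
  obtain ⟨Λ, hΛ⟩ := h.fam
  obtain ⟨h1, h2⟩ := Fam.zl_le hΛ hFF hP hc hZ hU
  refine Subgroup.eq_of_le_of_card_ge h1 ?_
  rwa [h.card_V, ← h.card_Z]

/-- **All minimal parabolic subgroups and `N(S)` lie in `⟨N(V), N(Z)⟩`.** -/
theorem all_par (hFF : FFThm.Stmt.{u}) (hG : IsCharacteristicTwoType G) (hZ : zc (S : Subgroup G) = Z)
    {P₀ : Subgroup G} (hP₀ : IsParS (S : Subgroup G) P₀) (hV : zl (S : Subgroup G) P₀ = V)
    (hin : AllIn (S : Subgroup G)) (hno : ¬ FF (S : Subgroup G))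
    (hW : ∀ f ∈ centralizer (W : Set G), f * f = 1 → f ∈ W) :
    (∀ R : Subgroup G, IsPar (S : Subgroup G) R → R ≤ normalizer (Z : Set G) ⊔ normalizer (V : Set G)) ∧
      normalizer ((S : Subgroup G) : Set G) ≤ normalizer (Z : Set G) ⊔ normalizer (V : Set G) := by
  constructor
  · intro R hR
    by_cases hRS : IsParS (S : Subgroup G) R
    · refine le_trans ?_ le_sup_right
      rw [← h.zl_eq hFF hG hZ hP₀ hV hin hno hW hRS]
      exact le_normalizer_zl _ _
    · refine le_trans ?_ le_sup_left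
      rw [← hZ]
      by_contra hcon
      exact hRS ⟨hR, hcon⟩
  · refine le_trans ?_ le_sup_left
    rw [← hZ]
    exact normalizer_le_normalizer_zc _

end Sit

end Cfsg.Agent.Omega.TwoFFour
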