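import Cfsg.Agent.Omega.TwoFFour.Cores

/-!
# THEOREM 2F4: the non-weight fields of `Oct` over `Sit`

`P false = N(Z)`, `P true = N(V)`, `B = N(V) ⊓ N(Z)`, `Q false = S ⊓ K`, `Q true = C(V)`.
`n₁ ∈ N(V) - N(Z)`, `n₀ ∈ N(Z) - N(V)` are arbitrary.
-/

set_option autoImplicit false
set_option linter.unusedSectionVars false

namespace Cfsg.Agent.Omega.TwoFFour

open Subgroup Matrix
open Cfsg.Agent.ZN Cfsg.Agent.MinSimple.VModule Cfsg.Agent.Lib.SL2Mat
open Cfsg.Agent.LieRecognition.SzMatrix (Good)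
open Cfsg.Agent.Omega.NatPair (NatMod ap ext2)

variable {G : Type*} [Group G]

namespace Sit

variable {F : Type*} [Field F] {θ : F →+* F} {e : ℕ} {H : Good F θ e} {S : Sylow 2 G} {V Z W : Subgroup G}
variable (h : Sit F H S V Z W)
include h

/-- the Borel subgroup contains `S` -/
theorem S_le_B : (S : Subgroup G) ≤ normalizer (V : Set G) ⊓ normalizer (Z : Set G) := le_inf h.SV h.S_le_C

/-- `|B : S|` is odd -/
theorem oddB [Finite G] {b : G} (hb : b ∈ normalizer (V : Set G) ⊓ normalizer (Z : Set G)) :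
    ∃ k, Odd k ∧ b ^ k ∈ S := by
  have hpos : 0 < orderOf b := orderOf_pos b
  obtain ⟨k, m, hm, e⟩ := Nat.exists_eq_two_pow_mul_odd hpos.ne'
  refine ⟨m, hm, ?_⟩
  have h1 : IsPGroup 2 (zpowers (b ^ m)) := by
    rintro ⟨x, hx⟩
    obtain ⟨j, rfl⟩ := mem_zpowers_iff.1 hx
    refine ⟨k, Subtype.ext ?_⟩
    show ((b ^ m) ^ j) ^ 2 ^ k = 1
    have h2 : (b ^ m) ^ 2 ^ k = 1 := by rw [← pow_mul, mul_comm, ← e, pow_orderOf_eq_one]
    rw [← zpow_natCast, ← _root_.zpow_mul, mul_comm j, _root_.zpow_mul, zpow_natCast, h2, _root_.one_zpow]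
  obtain ⟨x, hx, hxR⟩ := (Syl2.of_sylow S h.S_le_B).exists_conj_le
    ((zpowers_le (G := G)).2 (Subgroup.pow_mem _ hb m)) h1
  have h2 := hxR _ (mem_zpowers _)
  have h3 := h.S_normal (inv_mem hx) h2
  have e' : x⁻¹ * (x * b ^ m * x⁻¹) * x⁻¹⁻¹ = b ^ m := by group
  rwa [e'] at h3

/-! ### the panel of `x` : lines -/

/-- `w₀` acts on `W / Z` as the antidiagonal matrix -/
theorem exists_w : ∃ w ∈ normalizer (Z : Set G), h.P.Ind w (Cfsg.Agent.LieRecognition.SzMatrix.W F) :=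
  h.P.exists_ind H.W_mem

theorem mem_M_iff_act [Finite G] {g : G} (hg : g ∈ normalizer (Z : Set G)) :
    g ∈ normalizer (V : Set G) ↔ ∀ c : F, ∃ d : F, h.P.act g (Pi.single 0 c) = Pi.single 0 d := by
  constructor
  · intro hgM c
    obtain ⟨v, hv, hf⟩ := h.exists_V c
    obtain ⟨-, d, hd⟩ := (h.memV _).1 (h.conjV hgM hv)
    refine ⟨d, ?_⟩
    have h1 : (Pi.single 0 c : Fin 4 → F) = h.P.f v := by
      rw [hf]
      apply ext4 <;> simp
    rw [h1, h.P.act_f hg (h.V_le_W hv), hd]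
    apply ext4 <;> simp
  · intro hact
    refine mem_normalizer_of_map_le ?_
    rintro _ ⟨v, hv, rfl⟩
    obtain ⟨hvW, c, hc⟩ := (h.memV v).1 hv
    obtain ⟨d, hd⟩ := hact c
    refine (h.memV _).2 ⟨h.conjW hg hvW, d, ?_⟩
    show h.P.f (g * v * g⁻¹) = _
    have h1 : (![c, 0, 0, 0] : Fin 4 → F) = Pi.single 0 c := by
      apply ext4 <;> simp
    rw [h.f_conj hg hvW, hc, h1, hd]
    apply ext4 <;> simp

theorem w_notin [Finite G] {w : G} (hw : w ∈ normalizer (Z : Set G))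
    (hwI : h.P.Ind w (Cfsg.Agent.LieRecognition.SzMatrix.W F)) : w ∉ normalizer (V : Set G) := by
  intro hwM
  obtain ⟨d, hd⟩ := (h.mem_M_iff_act hw).1 hwM 1
  rw [hwI, mv_W] at hd
  have := congrFun hd 3
  simp at this

/-- `N(Z) = B ∪ S w B` -/
theorem decompC [Finite G] {w : G} (hw : w ∈ normalizer (Z : Set G))
    (hwI : h.P.Ind w (Cfsg.Agent.LieRecognition.SzMatrix.W F)) {g : G} (hg : g ∈ normalizer (Z : Set G))
    (hgM : g ∉ normalizer (V : Set G)) :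
    ∃ s ∈ S, ∃ b ∈ normalizer (V : Set G) ⊓ normalizer (Z : Set G), g = s * w * b := by
  have := h.finF
  have : Fintype F := Fintype.ofFinite F
  obtain ⟨μ, A, hA, σ, hact⟩ := h.P.exists_semi h.one_le (by rw [← Nat.card_eq_fintype_card, h.cardF]) hg
  rcases H.bruhat hA with ⟨a, b, k, rfl⟩ | ⟨a, b, c, d, k, rfl⟩
  · exfalso
    apply hgM
    rw [h.mem_M_iff_act hg]
    intro x
    refine ⟨μ * (k * σ x), ?_⟩
    rw [hact, mv_mul, mv_D, mv_U]
    apply ext4 <;> simp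
  · obtain ⟨s, hs, hsU⟩ := h.Ad.surj a b
    have hsC := h.S_le_C hs
    have hsw : (s * w)⁻¹ * g ∈ normalizer (Z : Set G) := mul_mem (inv_mem (mul_mem hsC hw)) hg
    refine ⟨s, hs, (s * w)⁻¹ * g, ⟨(h.mem_M_iff_act hsw).2 fun x => ?_, hsw⟩, by group⟩
    refine ⟨μ * (k * σ x), ?_⟩
    have h1 : h.P.act g (Pi.single 0 x) = h.P.act (s * w) (Pi.single 0 (μ * (k * σ x))) := by
      rw [hact, h.P.act_mul hsC hw, hwI, hsU, ← mv_mul]
      simp only [mv_mul]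
      rw [mv_D, mv_U H c d, ← mv_smul, ← mv_smul]
      congr 2
      apply ext4 <;> simp
    rw [h.P.act_mul (inv_mem (mul_mem hsC hw)) hg, h1, h.P.act_inv_act (mul_mem hsC hw)]

/-! ### the fields -/

/-- `memP true` for every `n₁ ∈ N(V) - N(Z)` -/
theorem memP_true [Finite G] {n₁ : G} (hn : n₁ ∈ normalizer (V : Set G)) (hn' : n₁ ∉ normalizer (Z : Set G)) {g : G} :
    g ∈ normalizer (V : Set G) ↔ g ∈ normalizer (V : Set G) ⊓ normalizer (Z : Set G) ∨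
      ∃ s ∈ S, ∃ c ∈ normalizer (V : Set G) ⊓ normalizer (Z : Set G), g = s * n₁ * c := by
  constructor
  · intro hg
    by_cases hgC : g ∈ normalizer (Z : Set G)
    · exact Or.inl ⟨hg, hgC⟩
    · right
      obtain ⟨n, hnn⟩ := h.exists_sw
      obtain ⟨s, hs, b, hb, e⟩ := h.decomp hnn hg hgC
      obtain ⟨s', hs', b', hb', e'⟩ := h.decomp hnn hn hn'
      refine ⟨s * s'⁻¹, mul_mem hs (inv_mem hs'), b'⁻¹ * b, mul_mem (inv_mem hb') hb, ?_⟩
      rw [e, e']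
      group
  · rintro (hg | ⟨s, hs, c, hc, rfl⟩)
    · exact hg.1
    · exact mul_mem (mul_mem (h.SV hs) hn) hc.1

/-- `memP false` for every `n₀ ∈ N(Z) - N(V)` -/
theorem memP_false [Finite G] {n₀ : G} (hn : n₀ ∈ normalizer (Z : Set G)) (hn' : n₀ ∉ normalizer (V : Set G)) {g : G} :
    g ∈ normalizer (Z : Set G) ↔ g ∈ normalizer (V : Set G) ⊓ normalizer (Z : Set G) ∨
      ∃ s ∈ S, ∃ c ∈ normalizer (V : Set G) ⊓ normalizer (Z : Set G), g = s * n₀ * c := by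
  constructor
  · intro hg
    by_cases hgC : g ∈ normalizer (V : Set G)
    · exact Or.inl ⟨hgC, hg⟩
    · right
      obtain ⟨w, hw, hwI⟩ := h.exists_w
      obtain ⟨s, hs, b, hb, e⟩ := h.decompC hw hwI hg hgC
      obtain ⟨s', hs', b', hb', e'⟩ := h.decompC hw hwI hn hn'
      refine ⟨s * s'⁻¹, mul_mem hs (inv_mem hs'), b'⁻¹ * b, mul_mem (inv_mem hb') hb, ?_⟩
      rw [e, e']
      group
  · rintro (hg | ⟨s, hs, c, hc, rfl⟩)
    · exact hg.2
    · exact mul_mem (mul_mem (h.S_le_C hs) hn) hc.2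

/-- an element of `S` fixing a second point of the line acts trivially on `V` -/
theorem Q_max_true [Finite G] {n₁ : G} (hn : n₁ ∈ normalizer (V : Set G)) (hn' : n₁ ∉ normalizer (Z : Set G)) {s : G}
    (hs : s ∈ S) (hB : n₁⁻¹ * s * n₁ ∈ normalizer (Z : Set G)) : s ∈ centralizer (V : Set G) := by
  obtain ⟨n, hnn⟩ := h.exists_sw
  obtain ⟨s', hs', b', hb', e'⟩ := h.decomp hnn hn hn'
  have hs2 : s'⁻¹ * s * s' ∈ S := mul_mem (mul_mem (inv_mem hs') hs) hs'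
  obtain ⟨a, ha⟩ := h.exists_up hs2
  have h1 : n⁻¹ * (s'⁻¹ * s * s') * n ∈ normalizer (Z : Set G) := by
    have h2 : b' * (n₁⁻¹ * s * n₁) * b'⁻¹ ∈ normalizer (Z : Set G) :=
      Subgroup.mul_mem _ (Subgroup.mul_mem _ hb'.2 hB) (inv_mem hb'.2)
    have e : b' * (n₁⁻¹ * s * n₁) * b'⁻¹ = n⁻¹ * (s'⁻¹ * s * s') * n := by rw [e']; group
    rwa [e] at h2
  have h2 := h.conjZ h1 ((h.e_memZ 1 0).2 rfl)
  have e1 : n⁻¹ * (s'⁻¹ * s * s') * n * h.N.e ![1, 0] * (n⁻¹ * (s'⁻¹ * s * s') * n)⁻¹ =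
      n⁻¹ * ((s'⁻¹ * s * s') * (n * h.N.e ![1, 0] * n⁻¹) * (s'⁻¹ * s * s')⁻¹) * n := by group
  have h3 := h.sw_inv hnn (0 + a * 1) 1
  rw [inv_inv] at h3
  rw [e1, hnn, ha, h3, h.e_memZ, mul_one, zero_add] at h2
  rw [h2] at ha
  have h4 := h.cen_of_up ha
  have h5 := h.conjC (h.SV hs') h4
  have e : s' * (s'⁻¹ * s * s') * s'⁻¹ = s := by group
  rwa [e] at h5

/-- an element of `S` fixing a second line on the point acts trivially on `W / Z` -/
theorem Q_max_false [Finite G] {n₀ : G} (hn : n₀ ∈ normalizer (Z : Set G)) (hn' : n₀ ∉ normalizer (V : Set G)) {s : G}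
    (hs : s ∈ S) (hB : n₀⁻¹ * s * n₀ ∈ normalizer (V : Set G)) : s ∈ h.P.K := by
  obtain ⟨w, hw, hwI⟩ := h.exists_w
  obtain ⟨s', hs', b', hb', e'⟩ := h.decompC hw hwI hn hn'
  have hs2 : s'⁻¹ * s * s' ∈ S := mul_mem (mul_mem (inv_mem hs') hs) hs'
  obtain ⟨a, b, hab⟩ := h.Ad.exists_U _ hs2
  have hC := h.S_le_C hs2
  have h1 : w⁻¹ * (s'⁻¹ * s * s') * w ∈ normalizer (V : Set G) := by
    have h2 : b' * (n₀⁻¹ * s * n₀) * b'⁻¹ ∈ normalizer (V : Set G) :=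
      Subgroup.mul_mem _ (Subgroup.mul_mem _ hb'.1 hB) (inv_mem hb'.1)
    have e : b' * (n₀⁻¹ * s * n₀) * b'⁻¹ = w⁻¹ * (s'⁻¹ * s * s') * w := by rw [e']; group
    rwa [e] at h2
  have hwC : w⁻¹ * (s'⁻¹ * s * s') * w ∈ normalizer (Z : Set G) := mul_mem (mul_mem (inv_mem hw) hC) hw
  obtain ⟨d, hd⟩ := (h.mem_M_iff_act hwC).1 h1 1
  have h2 : h.P.act (w * (w⁻¹ * (s'⁻¹ * s * s') * w)) (Pi.single 0 1) = h.P.act w (Pi.single 0 d) := by
    rw [h.P.act_mul hw hwC, hd]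
  have e1 : w * (w⁻¹ * (s'⁻¹ * s * s') * w) = s'⁻¹ * s * s' * w := by group
  rw [e1, h.P.act_mul hC hw, hwI, hwI, hab, mv_W, mv_W, mv_U] at h2
  have h3 := congrFun h2 2
  have h4 := congrFun h2 1
  simp at h3 h4
  rw [h3, map_zero, mul_zero, add_zero] at h4
  rw [h3, h4, H.U_zero] at hab
  have h5 := (h.P.ind_one_iff hC).1 hab
  have h6 := h.P.conj_mem_K (h.S_le_C hs') h5
  have e : s' * (s'⁻¹ * s * s') * s'⁻¹ = s := by group
  rwa [e] at h6

theorem Q_ne_true [Finite G] : ∃ s ∈ S, s ∉ centralizer (V : Set G) := by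
  obtain ⟨s, hs, hs1⟩ := h.exists_of_up 1
  refine ⟨s, hs, fun hc => ?_⟩
  exact one_ne_zero (h.up_inj hs1 (h.up_cen hc))

theorem Q_ne_false : ∃ s ∈ S, s ∉ (S : Subgroup G) ⊓ h.P.K := by
  obtain ⟨s, hs, hsU⟩ := h.Ad.surj 1 0
  refine ⟨s, hs, fun hc => ?_⟩
  have h1 := (h.P.ind_one_iff (h.S_le_C hs)).2 hc.2
  have h2 := hsU.unique h1
  rw [← H.U_zero] at h2
  exact one_ne_zero (H.U_inj h2).1

theorem Z_pair : ∃ a ∈ Z, ∃ b ∈ Z, a ≠ 1 ∧ b ≠ 1 ∧ a ≠ b := by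
  classical
  have := h.finF
  have : Fintype F := Fintype.ofFinite F
  have h3 : 2 < Fintype.card F := by
    rw [← Nat.card_eq_fintype_card, h.cardF]
    have : 2 ^ (2 * 1 + 1) ≤ 2 ^ (2 * h.mf + 1) := Nat.pow_le_pow_right (by norm_num) (by have := h.one_le; omega)
    omega
  obtain ⟨c, hc⟩ : ∃ c : F, c ∉ ({0, 1} : Finset F) := by
    by_contra hcon
    push Not at hcon
    have h4 : Finset.univ ⊆ ({0, 1} : Finset F) := fun c _ => hcon c
    have h5 := Finset.card_le_card h4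
    have h6 := Finset.card_insert_le (0 : F) {1}
    rw [Finset.card_singleton] at h6
    rw [Finset.card_univ] at h5
    omega
  simp only [Finset.mem_insert, Finset.mem_singleton, not_or] at hc
  have key : ∀ x : F, x ≠ 0 → h.N.e ![x, 0] ≠ 1 := by
    intro x hx hh
    rw [← h.e_zero] at hh
    exact hx (h.e_inj hh).1
  refine ⟨h.N.e ![1, 0], (h.e_memZ _ _).2 rfl, h.N.e ![c, 0], (h.e_memZ _ _).2 rfl, key 1 one_ne_zero, key c hc.1, ?_⟩
  intro hh
  exact hc.2 (h.e_inj hh).1.symm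

theorem Z_norm [Finite G] {g : G} (hg : ∀ z ∈ Z, g * z * g⁻¹ ∈ Z) : g ∈ normalizer (Z : Set G) := by
  refine mem_normalizer_of_map_le ?_
  rintro _ ⟨z, hz, rfl⟩
  exact hg z hz

/-- `Z_two` from characteristic 2 of `C_G(v)` -/
theorem Z_two [Finite G] {v : G} (hv : v ∈ Z)
    (hc : centralizer ({v} : Set G) ⊓ centralizer (o2 (centralizer ({v} : Set G)) : Set G) ≤
      o2 (centralizer ({v} : Set G))) :
    ∃ R : Subgroup G, R ≤ S ∧ Z ≤ R ∧ ∀ c : G, c * v = v * c → ∀ r ∈ R, c * r * c⁻¹ ∈ R := by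
  have hS : (S : Subgroup G) ≤ centralizer ({v} : Set G) := by
    intro s hs
    rw [mem_centralizer_singleton_iff]
    exact h.S_comm_Z hs hv
  have hR : o2 (centralizer ({v} : Set G)) ≤ S :=
    o2_le_of_sylow S.isPGroup' (Syl2.of_sylow S hS).odd
  refine ⟨_, hR, ?_, fun c hcv r hr => ?_⟩
  · refine (le_inf ?_ ?_).trans hc
    · intro z hz
      rw [mem_centralizer_singleton_iff]
      exact h.ab z (h.Z_le_W hz) v (h.Z_le_W hv)
    · intro z hz
      rw [mem_centralizer_iff]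
      intro r hr
      exact h.S_comm_Z (hR hr) hz
  · have : c ∈ centralizer ({v} : Set G) := mem_centralizer_singleton_iff.2 hcv
    exact (mem_normalizer_iff.1 (le_normalizer_o2 _ this) r).1 hr

theorem cenW_le_K [Finite G] : centralizer (W : Set G) ≤ (S : Subgroup G) ⊓ h.P.K := by
  intro c hc
  refine ⟨h.cenW_le_S hc, (h.P.mem_K_iff (h.cenW_le_C hc)).2 fun x hx => ?_⟩
  rw [← mem_centralizer_iff.1 hc x hx, mul_inv_cancel_right, mul_inv_cancel]
  exact one_mem _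

/-- the core of `⟨N(V), N(Z)⟩` in `B` is trivial -/
theorem core [Finite G] {K : Subgroup G} (hK : K ≤ normalizer (Z : Set G))
    (hM : normalizer (V : Set G) ≤ normalizer (K : Set G)) (hC : normalizer (Z : Set G) ≤ normalizer (K : Set G)) :
    K = ⊥ := by
  have h1 : o2 K = ⊥ := h.nonloc _ ((o2_le K).trans hK) (o2_isPGroup K)
    (fun g hg => normalizer_o2 (hM hg)) (fun g hg => normalizer_o2 (hC hg))
  set D := o2 (normalizer (Z : Set G)) with hD
  have hDC : D ≤ normalizer (Z : Set G) := o2_le _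
  have h2 : K ⊓ D = ⊥ := by
    rw [← le_bot_iff, ← h1]
    refine le_o2 inf_le_left ((o2_isPGroup _).to_le inf_le_right) fun x hx => ?_
    have h3 := le_normalizer (H := K) hx
    have h4 := le_normalizer_o2 _ (hK hx)
    rw [mem_normalizer_iff] at h3 h4 ⊢
    intro y
    rw [mem_inf, mem_inf, h3 y, h4 y]
  have h3 : K ≤ centralizer (D : Set G) := by
    intro x hx
    rw [mem_centralizer_iff]
    intro d hd
    have h4 : d * x * d⁻¹ * x⁻¹ ∈ K ⊓ D := by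
      refine ⟨K.mul_mem ((mem_normalizer_iff.1 (hC (hDC hd)) x).1 hx) (K.inv_mem hx), ?_⟩
      have h5 := (mem_normalizer_iff.1 (le_normalizer_o2 _ (hK hx)) d⁻¹).1 (inv_mem hd)
      have e : d * x * d⁻¹ * x⁻¹ = d * (x * d⁻¹ * x⁻¹) := by group
      rw [e]
      exact mul_mem hd h5
    rw [h2, mem_bot] at h4
    calc d * x = (d * x * d⁻¹ * x⁻¹) * (x * d) := by group
      _ = x * d := by rw [h4, one_mul]
  have h4 : K ≤ D := (le_inf hK h3).trans h.char2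
  rw [← h2]
  exact (inf_eq_left.2 h4).symm

end Sit

end Cfsg.Agent.Omega.TwoFFour
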