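import Cfsg.Agent.Omega.TwoFFour.SzNorm

/-!
# THEOREM 2F4, (3d): the Galois arguments

* `galois_pair` : a nondegenerate additive pairing `Φ : F × F → A` with `Φ s (b y) = Φ (a s) y` gives a field automorphism
  `τ` with `τ a = b`;
* `field_end` : `σ (θ k₀ / k₀²) = θ k₁ / k₁²` and `τ (k₀²) = (θ k₁)⁻¹` imply `k₀ = 1`, if `|Aut F|` is odd.
-/

set_option autoImplicit false

namespace Cfsg.Agent.Omega.TwoFFour

open Cfsg.Agent.LieRecognition.SzMatrix (Good)

theorem galois_pair {F A : Type*} [Field F] [Finite F] [CharP F 2] [AddCommGroup A] {Φ : F → F → A}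
    (hl : ∀ s s' y, Φ (s + s') y = Φ s y + Φ s' y) (hr : ∀ s y y', Φ s (y + y') = Φ s y + Φ s y')
    (hnd : ∀ y, (∀ s, Φ s y = 0) → y = 0) {a b : F} (hk : ∀ s y, Φ s (b * y) = Φ (a * s) y) :
    ∃ τ : F ≃+* F, τ a = b := by
  let : Algebra (ZMod 2) F := ZMod.algebra F 2
  have : Fact (Nat.Prime 2) := ⟨Nat.prime_two⟩
  have h0l : ∀ y, Φ 0 y = 0 := by
    intro y
    have := hl 0 0 y
    rw [add_zero] at this
    exact left_eq_add.1 this
  have h0r : ∀ s, Φ s 0 = 0 := by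
    intro s
    have := hr s 0 0
    rw [add_zero] at this
    exact left_eq_add.1 this
  have hpow : ∀ (n : ℕ) (s y : F), Φ s (b ^ n * y) = Φ (a ^ n * s) y := by
    intro n
    induction n with
    | zero => intro s y; simp
    | succ n ih =>
      intro s y
      rw [pow_succ', mul_assoc, hk, ih, pow_succ, mul_assoc]
  have hz : ∀ (c : ZMod 2) (s y : F), Φ s (algebraMap (ZMod 2) F c * y) = Φ (algebraMap (ZMod 2) F c * s) y := by
    intro c s y
    rcases zmod_two c with rfl | rfl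
    · simp [h0l, h0r]
    · simp
  have hpol : ∀ (p : Polynomial (ZMod 2)) (s y : F), Φ s (Polynomial.aeval b p * y) = Φ (Polynomial.aeval a p * s) y := by
    intro p
    induction p using Polynomial.induction_on' with
    | add p q hp hq => intro s y; rw [map_add, map_add, add_mul, add_mul, hr, hl, hp, hq]
    | monomial n c =>
      intro s y
      rw [Polynomial.aeval_monomial, Polynomial.aeval_monomial, mul_assoc, hz, hpow]
      congr 1
      ring
  have hint : IsIntegral (ZMod 2) a := IsIntegral.of_finite _ _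
  have h1 : Polynomial.aeval b (minpoly (ZMod 2) a) = 0 := by
    apply hnd
    intro s
    have h2 := hpol (minpoly (ZMod 2) a) s 1
    rwa [minpoly.aeval, zero_mul, h0l, mul_one] at h2
  have hmin : minpoly (ZMod 2) b = minpoly (ZMod 2) a := by
    symm
    exact minpoly.eq_of_irreducible_of_monic (minpoly.irreducible hint) h1 (minpoly.monic hint)
  have hconj : IsConjRoot (ZMod 2) a b := hmin.symm
  obtain ⟨σ, hσ⟩ := isConjRoot_iff_exists_algEquiv.1 hconj
  refine ⟨σ.symm.toRingEquiv, ?_⟩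
  show σ.symm a = b
  rw [← hσ, AlgEquiv.symm_apply_apply]

variable {F : Type*} [Field F] {θ : F →+* F} {e : ℕ}

/-- `θ r = r²` only for `r = 0, 1` -/
theorem eq_one_of_theta (H : Good F θ e) {r : F} (hr : r ≠ 0) (h : θ r = r ^ 2) : r = 1 := by
  have h1 := H.sq r
  rw [h, map_pow, h] at h1
  have h2 : r ^ 2 = 1 := by
    have h3 : r ^ 2 * (r ^ 2 - 1) = 0 := by linear_combination h1
    rcases mul_eq_zero.1 h3 with h4 | h4
    · exact absurd (pow_eq_zero_iff two_ne_zero |>.1 h4) hr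
    · exact sub_eq_zero.1 h4
  exact eq_one_of_sq H h2

theorem field_end [Finite F] (H : Good F θ e) (hodd : Odd (Nat.card (F ≃+* F))) {k₀ k₁ : F} (hk₀ : k₀ ≠ 0) (hk₁ : k₁ ≠ 0)
    (σ τ : F ≃+* F) (h1 : σ (θ k₀ * (k₀⁻¹) ^ 2) = θ k₁ * (k₁⁻¹) ^ 2) (h2 : τ (k₀ ^ 2) = (θ k₁)⁻¹) : k₀ = 1 := by
  have hσ : ∀ x, σ (θ x) = θ (σ x) := fun x => by rw [← H.pow, ← H.pow, map_pow]
  have hτ : ∀ x, τ (θ x) = θ (τ x) := fun x => by rw [← H.pow, ← H.pow, map_pow]
  have hσk : σ k₀ ≠ 0 := (map_ne_zero σ).2 hk₀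
  have hk : σ k₀ = k₁ := by
    have h3 : σ k₀ / k₁ = 1 := by
      apply eq_one_of_theta H (div_ne_zero hσk hk₁)
      rw [map_mul, hσ, map_pow, map_inv₀] at h1
      rw [map_div₀]
      have h4 : θ k₁ ≠ 0 := (map_ne_zero θ).2 hk₁
      field_simp
      field_simp at h1
      rw [h1]; ring
    exact (div_eq_one_iff_eq hk₁).1 h3
  have h3 : τ (θ k₀) = σ k₀⁻¹ := by
    apply θ.injective
    rw [← hτ, H.sq, h2, ← hk, map_inv₀, map_inv₀]
  let θe : F ≃+* F := RingEquiv.ofBijective θ ⟨θ.injective, Finite.surjective_of_injective θ.injective⟩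
  let ρ : RingAut F := (σ : RingAut F)⁻¹ * (τ : RingAut F) * (θe : RingAut F)
  have hρ : ρ k₀ = k₀⁻¹ := by
    show σ.symm (τ (θ k₀)) = k₀⁻¹
    rw [h3, RingEquiv.symm_apply_apply]
  have hρ2 : (ρ * ρ) k₀ = k₀ := by
    show ρ (ρ k₀) = k₀
    rw [hρ, map_inv₀, hρ, inv_inv]
  have hpow : ∀ j : ℕ, ((ρ * ρ) ^ j) k₀ = k₀ := by
    intro j
    induction j with
    | zero => rfl
    | succ j ih =>
      rw [pow_succ]
      show ((ρ * ρ) ^ j) ((ρ * ρ) k₀) = k₀
      rw [hρ2, ih]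
  obtain ⟨j, hj⟩ := hodd
  have h4 : ρ ^ Nat.card (F ≃+* F) = 1 := pow_card_eq_one'
  rw [hj, pow_succ, pow_mul, pow_two] at h4
  have h5 : ((ρ * ρ) ^ j * ρ) k₀ = k₀ := by rw [h4]; rfl
  have h6 : ((ρ * ρ) ^ j) (ρ k₀) = k₀ := h5
  rw [hρ, map_inv₀, hpow] at h6
  apply eq_one_of_sq H
  rw [pow_two]
  nth_rw 1 [← h6]
  exact inv_mul_cancel₀ hk₀

end Cfsg.Agent.Omega.TwoFFour
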