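import Cfsg.Agent.Omega.TwoFFour.FOne
import Cfsg.Agent.Omega.TwoFFour.Galois

/-!
# THEOREM 2F4, (3): no odd cores

* `cenW_two` : `C_G(W)` is a 2-group; `Qx_two`, `inf_K_eq` : `S ⊓ K = K ⊓ C(Z)`, a normal 2-subgroup of `N(Z)`;
* `S_normal` : `S` is normal in `B = N(V) ⊓ N(Z)`;
* `cenV_two`, `cenV_le_S` : `C_G(V)` is a 2-group, contained in `S`.
-/

set_option autoImplicit false
set_option linter.unusedSectionVars false

namespace Cfsg.Agent.Omega.TwoFFour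

open Subgroup Matrix
open Cfsg.Agent.ZN Cfsg.Agent.MinSimple.VModule Cfsg.Agent.Lib.SL2Mat
open Cfsg.Agent.LieRecognition.SzMatrix (Good)
open Cfsg.Agent.Omega.NatPair (NatMod ap ext2)

section tools

variable {G : Type*} [Group G]

theorem mem_normalizer_cen {X : Subgroup G} {g : G} (hg : g ∈ normalizer (X : Set G)) :
    g ∈ normalizer ((centralizer (X : Set G) : Subgroup G) : Set G) := by
  have key : ∀ g ∈ normalizer (X : Set G), ∀ x ∈ centralizer (X : Set G), g * x * g⁻¹ ∈ centralizer (X : Set G) := by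
    intro g hg x hx
    rw [mem_centralizer_iff] at hx ⊢
    intro v hv
    have h1 := hx _ ((mem_normalizer_iff.1 (inv_mem hg) v).1 hv)
    rw [inv_inv] at h1
    calc v * (g * x * g⁻¹) = g * ((g⁻¹ * v * g) * x) * g⁻¹ := by group
      _ = g * (x * (g⁻¹ * v * g)) * g⁻¹ := by rw [h1]
      _ = g * x * g⁻¹ * v := by group
  rw [mem_normalizer_iff]
  refine fun x => ⟨key g hg x, fun hx => ?_⟩
  have := key g⁻¹ (inv_mem hg) _ hx
  have e : g⁻¹ * (g * x * g⁻¹) * g⁻¹⁻¹ = x := by group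
  rwa [e] at this

/-- a finite group whose elements of odd order are trivial is a 2-group -/
theorem isPGroup_of_odd [Finite G] {X : Subgroup G} (h : ∀ x ∈ X, Odd (orderOf x) → x = 1) : IsPGroup 2 X := by
  rintro ⟨x, hx⟩
  have hpos : 0 < orderOf x := orderOf_pos x
  obtain ⟨k, m, hm, e⟩ := Nat.exists_eq_two_pow_mul_odd hpos.ne'
  refine ⟨k, Subtype.ext (h _ (X.pow_mem hx _) ?_)⟩
  have h1 : orderOf (x ^ 2 ^ k) = m := by
    rw [orderOf_pow_of_dvd (by positivity) (by rw [e]; exact dvd_mul_right _ _), e]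
    exact Nat.mul_div_cancel_left _ (by positivity)
  show Odd (orderOf (x ^ 2 ^ k))
  rw [h1]
  exact hm

theorem eq_one_of_odd {X : Subgroup G} (h : IsPGroup 2 X) {x : G} (hx : x ∈ X) (ho : Odd (orderOf x)) : x = 1 := by
  obtain ⟨k, hk⟩ := h ⟨x, hx⟩
  have hk' : x ^ 2 ^ k = 1 := congrArg Subtype.val hk
  have h1 := orderOf_dvd_of_pow_eq_one hk'
  have h2 : Nat.Coprime (orderOf x) (2 ^ k) := Nat.Coprime.pow_right k (Nat.coprime_two_right.2 ho)
  exact orderOf_eq_one_iff.1 (Nat.Coprime.eq_one_of_dvd h2 h1)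

/-- `x^4 ∈ X`, `x` of odd order -/
theorem mem_of_pow_four {X : Subgroup G} {x : G} (ho : Odd (orderOf x)) (h4 : x ^ 4 ∈ X) : x ∈ X := by
  have h1 : Nat.Coprime (orderOf x) 4 := by
    have : (4 : ℕ) = 2 ^ 2 := rfl
    rw [this]
    exact Nat.Coprime.pow_right 2 (Nat.coprime_two_right.2 ho)
  obtain ⟨j, hj⟩ := exists_pow_eq_self_of_coprime h1.symm
  rw [← hj]
  exact X.pow_mem h4 j

theorem normalizer_o2 [Finite G] {X : Subgroup G} {g : G} (hg : g ∈ normalizer (X : Set G)) :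
    g ∈ normalizer (o2 X : Set G) := by
  refine mem_normalizer_of_map_le ?_
  refine le_o2 ?_ ((o2_isPGroup X).map _) ?_
  · rintro _ ⟨y, hy, rfl⟩
    exact (mem_normalizer_iff.1 hg y).1 (o2_le X hy)
  · intro x hx
    refine mem_normalizer_of_map_le ?_
    rintro _ ⟨_, ⟨y, hy, rfl⟩, rfl⟩
    have h1 : g⁻¹ * x * g ∈ X := by
      have := (mem_normalizer_iff.1 (inv_mem hg) x).1 hx
      rwa [inv_inv] at this
    refine ⟨_, (mem_normalizer_iff.1 (le_normalizer_o2 X h1) y).1 hy, ?_⟩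
    show g * (g⁻¹ * x * g * y * (g⁻¹ * x * g)⁻¹) * g⁻¹ = x * (g * y * g⁻¹) * x⁻¹
    group

end tools

variable {G : Type*} [Group G]

namespace Sit

variable {F : Type*} [Field F] {θ : F →+* F} {e : ℕ} {H : Good F θ e} {S : Sylow 2 G} {V Z W : Subgroup G}
variable (h : Sit F H S V Z W)
include h

theorem act_single_of_cen {c : G} (hc : c ∈ centralizer (V : Set G)) (x : F) :
    h.P.act c (Pi.single 0 x) = Pi.single 0 x := by
  obtain ⟨v, hv, hf⟩ := h.exists_V x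
  have h1 : (Pi.single 0 x : Fin 4 → F) = h.P.f v := by
    rw [hf]
    apply ext4 <;> simp
  rw [h1, h.P.act_f (h.cen_le_C hc) (h.V_le_W hv), h.cen_comm hc hv, mul_inv_cancel_right]

/-- the action of `c ∈ C(V)` on `W / Z` -/
theorem exists_k {c : G} (hc : c ∈ centralizer (V : Set G)) : ∃ (a b : F) (k : Fˣ),
    (∀ v, h.P.act c v 3 = (k : F)⁻¹ ^ 2 * v 3) ∧ (∀ v, v 3 = 0 → h.P.act c v 2 = (θ k)⁻¹ * v 2) ∧
    (∀ v, v 2 = 0 → v 3 = 0 → h.P.act c v 1 = θ k * (k : F)⁻¹ ^ 2 * v 1) ∧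
    ((k : F) = 1 → h.P.Ind c (H.U a b)) := by
  have := h.finF
  have : Fintype F := Fintype.ofFinite F
  obtain ⟨μ, a, b, k, hμ, hact⟩ := h.P.exists_fix h.one_le (by rw [← Nat.card_eq_fintype_card, h.cardF])
    (h.cen_le_C hc) (h.act_single_of_cen hc)
  have hμ' : (μ : F) = (k : F)⁻¹ := by
    have : (μ : F) * k = 1 := by rw [← Units.val_mul, hμ, Units.val_one]
    exact eq_inv_of_mul_eq_one_left this
  have hk := k.ne_zero
  have hθk : θ (k : F) ≠ 0 := (map_ne_zero θ).2 hk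
  refine ⟨a, b, k, fun v => ?_, fun v h3 => ?_, fun v h2 h3 => ?_, fun h1 v => ?_⟩
  · rw [hact, hμ', mv_mul, mv_U, mv_D]
    simp only [Pi.smul_apply, smul_eq_mul, Matrix.cons_val]
    ring
  · rw [hact, hμ', mv_mul, mv_U, mv_D]
    simp only [Pi.smul_apply, smul_eq_mul, Matrix.cons_val, h3]
    field_simp
    ring
  · rw [hact, hμ', mv_mul, mv_U, mv_D]
    simp only [Pi.smul_apply, smul_eq_mul, Matrix.cons_val, Matrix.cons_val_one, Matrix.cons_val_zero, h3, h2]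
    ring
  · have hk1 : k = 1 := Units.ext h1
    rw [hact, hμ', hk1, Units.val_one, inv_one, one_smul, H.D_one, mul_one]

/-- an element of odd order of `C(V)` acting as some `U a b` lies in `K` -/
theorem mem_K_of_odd {c : G} (hc : c ∈ normalizer (Z : Set G)) (ho : Odd (orderOf c)) {a b : F}
    (hU : h.P.Ind c (H.U a b)) : c ∈ h.P.K := by
  apply mem_of_pow_four ho
  have h1 : h.P.Ind (c * c) (H.U a b * H.U a b) := hU.mul hc hc hU
  have h2 : h.P.Ind (c * c * (c * c)) (H.U a b * H.U a b * (H.U a b * H.U a b)) :=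
    h1.mul (mul_mem hc hc) (mul_mem hc hc) h1
  have e1 : c * c * (c * c) = c ^ 4 := by simp [pow_succ, mul_assoc]
  have e2 : H.U a b * H.U a b * (H.U a b * H.U a b) = 1 := by
    rw [H.U_mul, H.U_mul, H.add_self a, map_zero, mul_zero, add_zero, add_zero, ← H.U_zero]
    congr 1
    exact H.add_self _
  rw [e1, e2] at h2
  exact (h.P.ind_one_iff (pow_mem hc 4)).1 h2

/-- an element of odd order acting trivially on `W / Z` and `Z` centralises `W` -/
theorem comm_of_odd {c : G} (hc : c ∈ h.P.K) (hcZ : ∀ z ∈ Z, c * z = z * c) (ho : Odd (orderOf c)) {w : G} (hw : w ∈ W) :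
    c * w = w * c := by
  have hz := h.K_comm hc hw
  set z := c * w * c⁻¹ * w⁻¹ with hzd
  have h1 : c * w * c⁻¹ = z * w := by rw [hzd]; group
  have key : ∀ j : ℕ, c ^ j * w * (c ^ j)⁻¹ = z ^ j * w := by
    intro j
    induction j with
    | zero => simp
    | succ j ih =>
      have h2 : Commute c (z ^ j) := (show Commute c z from hcZ z hz).pow_right j
      calc c ^ (j + 1) * w * (c ^ (j + 1))⁻¹ = c * (c ^ j * w * (c ^ j)⁻¹) * c⁻¹ := by rw [pow_succ']; group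
        _ = c * z ^ j * w * c⁻¹ := by rw [ih]; group
        _ = z ^ j * (c * w * c⁻¹) := by rw [h2.eq]; group
        _ = z ^ (j + 1) * w := by rw [h1, pow_succ]; group
  have h2 := key (orderOf c)
  rw [pow_orderOf_eq_one, one_mul, inv_one, mul_one] at h2
  have h3 : z ^ orderOf c = 1 := right_eq_mul.1 h2
  have h4 : z * z = 1 := h.sq z (h.Z_le_W hz)
  obtain ⟨j, hj⟩ := ho
  rw [hj, pow_succ, pow_mul, pow_two, h4, one_pow, one_mul] at h3
  rw [h3, one_mul] at h1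
  calc c * w = c * w * c⁻¹ * c := by group
    _ = w * c := by rw [h1]

/-- an element of odd order of `C(W_x)` centralises `W_y` -/
theorem odd_comm [Finite G] {n : G} (hn : h.Sw n) {g : G} (hg : g ∈ centralizer (W : Set G)) (ho : Odd (orderOf g))
    {w : G} (hw : w ∈ W) : g * (n * w * n⁻¹) = n * w * n⁻¹ * g := by
  have hgV : g ∈ centralizer (V : Set G) := centralizer_le h.V_le_W hg
  have hc : n⁻¹ * g * n ∈ centralizer (V : Set G) := by
    have := h.conjC (inv_mem (h.sw_mem hn)) hgV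
    rwa [inv_inv] at this
  have hco : orderOf (n⁻¹ * g * n) = orderOf g := by
    have : n⁻¹ * g * n = MulAut.conj n⁻¹ g := by simp
    rw [this]
    exact orderOf_injective (MulAut.conj n⁻¹).toMonoidHom (MulAut.conj n⁻¹).injective g
  obtain ⟨a, b, k, -, -, h1, hU⟩ := h.exists_k hc
  -- `c` centralises `I`
  obtain ⟨i, hi, hif⟩ := h.P.f_surj ![0, 1, 0, 0]
  have hiI : i ∈ h.I := ⟨hi, by rw [hif]; rfl, by rw [hif]; rfl⟩
  have h2 := mem_centralizer_iff.1 hg _ (h.I_conj' hn hiI)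
  have h3 : n⁻¹ * g * n * i * (n⁻¹ * g * n)⁻¹ = i := by
    calc n⁻¹ * g * n * i * (n⁻¹ * g * n)⁻¹ = n⁻¹ * (g * (n * i * n⁻¹)) * g⁻¹ * n := by group
      _ = n⁻¹ * (n * i * n⁻¹ * g) * g⁻¹ * n := by rw [h2]
      _ = i := by group
  have h4 := h.f_conj (h.cen_le_C hc) hi
  rw [h3, hif] at h4
  have h5 := h1 ![0, 1, 0, 0] rfl rfl
  rw [← h4] at h5
  have h6 : (k : F) = 1 := by
    apply eq_one_of_theta H k.ne_zero
    have h7 : (1 : F) = θ k * (k : F)⁻¹ ^ 2 * 1 := h5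
    have := k.ne_zero
    field_simp at h7
    exact h7.symm
  have h7 := h.mem_K_of_odd (h.cen_le_C hc) (by rw [hco]; exact ho) (hU h6)
  have h8 := h.comm_of_odd h7 (fun z hz => h.cen_comm hc (h.Z_le_V hz)) (by rw [hco]; exact ho) hw
  calc g * (n * w * n⁻¹) = n * (n⁻¹ * g * n * w) * n⁻¹ := by group
    _ = n * (w * (n⁻¹ * g * n)) * n⁻¹ := by rw [h8]
    _ = n * w * n⁻¹ * g := by group

theorem C_norm_odd : normalizer (Z : Set G) ≤ normalizer (oddGen (centralizer (W : Set G)) : Set G) := fun _ hg =>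
  normalizer_le_normalizer_oddGen _ (mem_normalizer_cen (h.C_normW hg))

theorem n_norm_odd [Finite G] {n : G} (hn : h.Sw n) : n ∈ normalizer (oddGen (centralizer (W : Set G)) : Set G) := by
  refine mem_normalizer_of_map_le ?_
  rw [oddGen_def, MonoidHom.map_closure, closure_le]
  rintro _ ⟨y, ⟨hy, ho⟩, rfl⟩
  refine mem_oddGen ?_ ?_
  · rw [mem_centralizer_iff]
    intro w hw
    show w * (n * y * n⁻¹) = n * y * n⁻¹ * w
    have h1 := h.odd_comm (h.sw_inv hn) hy ho hw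
    rw [inv_inv] at h1
    calc w * (n * y * n⁻¹) = n * (n⁻¹ * w * n * y) * n⁻¹ := by group
      _ = n * (y * (n⁻¹ * w * n)) * n⁻¹ := by rw [h1]
      _ = n * y * n⁻¹ * w := by group
  · have : orderOf ((MulAut.conj n).toMonoidHom y) = orderOf y :=
      orderOf_injective _ (MulAut.conj n).injective y
    rw [this]
    exact ho

theorem M_norm_odd [Finite G] : normalizer (V : Set G) ≤ normalizer (oddGen (centralizer (W : Set G)) : Set G) := by
  intro m hm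
  by_cases hmC : m ∈ normalizer (Z : Set G)
  · exact h.C_norm_odd hmC
  · obtain ⟨n, hn⟩ := h.exists_sw
    obtain ⟨s, hs, b, hb, rfl⟩ := h.decomp hn hm hmC
    exact Subgroup.mul_mem _ (Subgroup.mul_mem _ (h.C_norm_odd (h.S_le_C hs)) (h.n_norm_odd hn)) (h.C_norm_odd hb.2)

theorem cenW_le_C : centralizer (W : Set G) ≤ normalizer (Z : Set G) :=
  (centralizer_le h.V_le_W).trans h.cen_le_C

/-- **`C_G(W)` is a 2-group** -/
theorem cenW_two [Finite G] : IsPGroup 2 (centralizer (W : Set G)) := by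
  set O := oddGen (centralizer (W : Set G)) with hO
  have hOC : O ≤ normalizer (Z : Set G) := (oddGen_le _).trans h.cenW_le_C
  have h1 : o2 O = ⊥ := h.nonloc _ ((o2_le O).trans hOC) (o2_isPGroup O)
    (fun g hg => normalizer_o2 (h.M_norm_odd hg)) (fun g hg => normalizer_o2 (h.C_norm_odd hg))
  set D := o2 (normalizer (Z : Set G)) with hD
  have hDC : D ≤ normalizer (Z : Set G) := o2_le _
  have h2 : O ⊓ D = ⊥ := by
    rw [← le_bot_iff, ← h1]
    refine le_o2 inf_le_left ((o2_isPGroup _).to_le inf_le_right) fun x hx => ?_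
    have h3 := le_normalizer (H := O) hx
    have h4 := le_normalizer_o2 _ (hOC hx)
    rw [mem_normalizer_iff] at h3 h4 ⊢
    intro y
    rw [mem_inf, mem_inf, h3 y, h4 y]
  have h3 : O ≤ centralizer (D : Set G) := by
    intro x hx
    rw [mem_centralizer_iff]
    intro d hd
    have h4 : d * x * d⁻¹ * x⁻¹ ∈ O ⊓ D := by
      refine ⟨O.mul_mem ((mem_normalizer_iff.1 (h.C_norm_odd (hDC hd)) x).1 hx) (O.inv_mem hx), ?_⟩
      have h5 := (mem_normalizer_iff.1 (le_normalizer_o2 _ (hOC hx)) d⁻¹).1 (inv_mem hd)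
      have e : d * x * d⁻¹ * x⁻¹ = d * (x * d⁻¹ * x⁻¹) := by group
      rw [e]
      exact mul_mem hd h5
    rw [h2, mem_bot] at h4
    calc d * x = (d * x * d⁻¹ * x⁻¹) * (x * d) := by group
      _ = x * d := by rw [h4, one_mul]
  have h4 : O ≤ D := (le_inf hOC h3).trans h.char2
  have h5 : O = ⊥ := by rw [← h2]; exact (inf_eq_left.2 h4).symm
  refine isPGroup_of_odd fun x hx ho => ?_
  have : x ∈ O := mem_oddGen hx ho
  rw [h5] at this
  exact mem_bot.1 this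

/-! ### `Q_x` -/

/-- elements trivial on `Z` and `W / Z` are 2-elements -/
theorem Qx_two [Finite G] : IsPGroup 2 (h.P.K ⊓ centralizer (Z : Set G) : Subgroup G) := by
  rintro ⟨g, hgK, hgZ⟩
  have h1 : g * g ∈ centralizer (W : Set G) := by
    rw [mem_centralizer_iff]
    intro w hw
    have hz := h.K_comm hgK hw
    set z := g * w * g⁻¹ * w⁻¹ with hzd
    have h2 : g * w * g⁻¹ = z * w := by rw [hzd]; group
    have h3 : g * z = z * g := (mem_centralizer_iff.1 hgZ z hz).symm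
    have h4 : z * z = 1 := h.sq z (h.Z_le_W hz)
    have h5 : g * g * w * (g * g)⁻¹ = w := by
      calc g * g * w * (g * g)⁻¹ = g * (g * w * g⁻¹) * g⁻¹ := by group
        _ = g * z * w * g⁻¹ := by rw [h2]; group
        _ = z * (g * w * g⁻¹) := by rw [h3]; group
        _ = z * z * w := by rw [h2]; group
        _ = w := by rw [h4, one_mul]
    calc w * (g * g) = g * g * w * (g * g)⁻¹ * (g * g) := by rw [h5]
      _ = g * g * w := by group
  obtain ⟨k, hk⟩ := h.cenW_two ⟨g * g, h1⟩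
  have hk' : (g * g) ^ 2 ^ k = 1 := congrArg Subtype.val hk
  refine ⟨k + 1, Subtype.ext ?_⟩
  show g ^ 2 ^ (k + 1) = 1
  rw [pow_succ', pow_mul, pow_two, hk']

theorem C_norm_Qx : normalizer (Z : Set G) ≤ normalizer ((h.P.K ⊓ centralizer (Z : Set G) : Subgroup G) : Set G) := by
  intro g hg
  have h1 := h.C_normK hg
  have h2 := mem_normalizer_cen hg
  rw [mem_normalizer_iff] at h1 h2 ⊢
  intro x
  rw [mem_inf, mem_inf, h1 x, h2 x]

theorem Qx_le_S [Finite G] : h.P.K ⊓ centralizer (Z : Set G) ≤ (S : Subgroup G) :=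
  h.sylC.le_of_normal (inf_le_left.trans h.K_le_C) h.C_norm_Qx h.Qx_two

/-- `S ⊓ K = C_K(Z)` -/
theorem inf_K_eq [Finite G] : (S : Subgroup G) ⊓ h.P.K = h.P.K ⊓ centralizer (Z : Set G) :=
  le_antisymm (le_inf inf_le_right (inf_le_left.trans h.SZ)) (le_inf h.Qx_le_S inf_le_left)

theorem C_norm_SK [Finite G] : normalizer (Z : Set G) ≤ normalizer (((S : Subgroup G) ⊓ h.P.K : Subgroup G) : Set G) := by
  rw [h.inf_K_eq]
  exact h.C_norm_Qx

/-- `K` normalises `S` -/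
theorem K_conj_S [Finite G] {k s : G} (hk : k ∈ h.P.K) (hs : s ∈ S) : k * s * k⁻¹ ∈ S := by
  have hsC := h.S_le_C hs
  have h1 : k * s * k⁻¹ * s⁻¹ ∈ h.P.K ⊓ centralizer (Z : Set G) := by
    refine ⟨?_, ?_⟩
    · have h2 := h.P.conj_mem_K hsC (inv_mem hk)
      have e : k * s * k⁻¹ * s⁻¹ = k * (s * k⁻¹ * s⁻¹) := by group
      rw [e]
      exact mul_mem hk h2
    · refine mem_centralizer_iff.2 ?_
      intro z hz
      have h3 := h.conjZ (inv_mem hk.1) hz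
      rw [inv_inv] at h3
      have h4 := h.S_comm_Z hs hz
      have h5 := h.S_comm_Z hs h3
      have h6 : s⁻¹ * z = z * s⁻¹ := by
        calc s⁻¹ * z = s⁻¹ * (z * s) * s⁻¹ := by group
          _ = s⁻¹ * (s * z) * s⁻¹ := by rw [h4]
          _ = z * s⁻¹ := by group
      symm
      calc k * s * k⁻¹ * s⁻¹ * z = k * s * k⁻¹ * (s⁻¹ * z) := by group
        _ = k * (s * (k⁻¹ * z * k)) * k⁻¹ * s⁻¹ := by rw [h6]; group
        _ = k * ((k⁻¹ * z * k) * s) * k⁻¹ * s⁻¹ := by rw [h5]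
        _ = z * (k * s * k⁻¹ * s⁻¹) := by group
  have h2 := mul_mem (h.Qx_le_S h1) hs
  rwa [inv_mul_cancel_right] at h2

/-- the preimage of `T` in `N(Z)` -/
def TG : Subgroup G where
  carrier := {g | g ∈ normalizer (Z : Set G) ∧ ∃ a b, h.P.Ind g (H.U a b)}
  mul_mem' := by
    rintro x y ⟨hx, a, b, hab⟩ ⟨hy, c, d, hcd⟩
    have := hab.mul hx hy hcd
    rw [H.U_mul] at this
    exact ⟨mul_mem hx hy, _, _, this⟩
  one_mem' := ⟨one_mem _, 0, 0, by rw [H.U_zero]; exact h.P.ind_one⟩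
  inv_mem' := by
    rintro x ⟨hx, a, b, hab⟩
    have := hab.inv hx
    rw [H.U_inv] at this
    exact ⟨inv_mem hx, _, _, this⟩

theorem S_le_TG : (S : Subgroup G) ≤ h.TG := fun _ hs => ⟨h.S_le_C hs, h.Ad.exists_U _ hs⟩

theorem TG_conj [Finite G] {g s : G} (hg : g ∈ h.TG) (hs : s ∈ S) : g * s * g⁻¹ ∈ S := by
  obtain ⟨hgC, a, b, hab⟩ := hg
  obtain ⟨t, ht, htU⟩ := h.Ad.surj a b
  have htC := h.S_le_C ht
  have hk : t⁻¹ * g ∈ h.P.K := by
    rw [← h.P.ind_one_iff (mul_mem (inv_mem htC) hgC)]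
    have := (htU.inv htC).mul (inv_mem htC) hgC hab
    rwa [inv_mul_cancel] at this
  have h1 := mul_mem (mul_mem ht (h.K_conj_S hk hs)) (inv_mem ht)
  have e : t * (t⁻¹ * g * s * (t⁻¹ * g)⁻¹) * t⁻¹ = g * s * g⁻¹ := by group
  rwa [e] at h1

/-- `B` normalises the preimage of `T` -/
theorem B_conj_TG [Finite G] {b s : G} (hb : b ∈ normalizer (V : Set G) ⊓ normalizer (Z : Set G)) (hs : s ∈ h.TG) :
    b * s * b⁻¹ ∈ h.TG := by
  have := h.finF
  have : Fintype F := Fintype.ofFinite F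
  obtain ⟨hsC, c, d, hcd⟩ := hs
  have h3 : h.P.act b (Pi.single 0 1) 3 = 0 := by
    obtain ⟨v, hv, hf⟩ := h.exists_V 1
    have h1 : (Pi.single 0 1 : Fin 4 → F) = h.P.f v := by
      rw [hf]
      apply ext4 <;> simp
    obtain ⟨-, x, hx⟩ := (h.memV _).1 (h.conjV hb.1 hv)
    rw [h1, h.P.act_f hb.2 (h.V_le_W hv), hx]
    rfl
  obtain ⟨μ, a, b', k, σ, hact⟩ := h.P.exists_borel h.one_le (by rw [← Nat.card_eq_fintype_card, h.cardF]) hb.2 h3
  -- the conjugate of `U c d`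
  have hσθ : ∀ x, σ (θ x) = θ (σ x) := fun x => by rw [← H.pow, ← H.pow, map_pow]
  have hσU : ∀ v : Fin 4 → F, (fun i => σ (mv (H.U c d) v i)) = mv (H.U (σ c) (σ d)) (fun i => σ (v i)) := by
    intro v
    rw [mv_U, mv_U]
    apply ext4 <;> simp [hσθ]
  obtain ⟨c', d', hc'd'⟩ : ∃ c' d', H.U a b' * H.D k * H.U (σ c) (σ d) = H.U c' d' * (H.U a b' * H.D k) := by
    have h4 : H.U a b' * H.D k * H.U (σ c) (σ d) = H.U a b' * H.U (σ c * (k : F) ^ 2 * (θ k)⁻¹) (σ d * θ k) * H.D k := by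
      rw [mul_assoc, H.D_mul_U, ← mul_assoc]
    rw [h4]
    set p := σ c * (k : F) ^ 2 * (θ k)⁻¹
    set q := σ d * θ k
    refine ⟨p, q + a * θ p + p * θ a, ?_⟩
    rw [← mul_assoc, H.U_mul, H.U_mul]
    congr 2
    · exact add_comm _ _
    · have := H.add_self (p * θ a)
      linear_combination -this
  refine ⟨mul_mem (mul_mem hb.2 hsC) (inv_mem hb.2), c', d', fun v => ?_⟩
  obtain ⟨u, rfl⟩ : ∃ u, h.P.act b u = v := ⟨h.P.act b⁻¹ v, h.P.act_act_inv hb.2 v⟩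
  rw [h.P.act_mul (mul_mem hb.2 hsC) (inv_mem hb.2), h.P.act_inv_act hb.2, h.P.act_mul hb.2 hsC, hcd, hact, hσU, hact,
    ← mv_mul, hc'd', mv_mul, mv_smul]

theorem sylTG [Finite G] : Syl2 (S : Subgroup G) h.TG := Syl2.of_sylow S h.S_le_TG

/-- every 2-subgroup of the preimage of `T` lies in `S` -/
theorem le_S_of_TG [Finite G] {R : Subgroup G} (hR : R ≤ h.TG) (h2 : IsPGroup 2 R) : R ≤ S := by
  obtain ⟨x, hx, hxR⟩ := h.sylTG.exists_conj_le hR h2
  intro r hr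
  have h1 := h.TG_conj (inv_mem hx) (hxR r hr)
  have e : x⁻¹ * (x * r * x⁻¹) * x⁻¹⁻¹ = r := by group
  rwa [e] at h1

/-- **`S` is normal in `B`** -/
theorem S_normal [Finite G] {b s : G} (hb : b ∈ normalizer (V : Set G) ⊓ normalizer (Z : Set G)) (hs : s ∈ S) :
    b * s * b⁻¹ ∈ S := by
  have h1 : (S : Subgroup G).map (MulAut.conj b).toMonoidHom ≤ h.TG := by
    rintro _ ⟨y, hy, rfl⟩
    exact h.B_conj_TG hb (h.S_le_TG hy)
  exact h.le_S_of_TG h1 (S.isPGroup'.map _) ⟨s, hs, rfl⟩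

/-! ### (3d) -/

theorem I_f_one_congr [Finite G] {n : G} (hn : h.Sw n) {i j : G} (hi : i ∈ h.I) (hj : j ∈ h.I)
    (hij : h.P.f i 1 = h.P.f j 1) : h.P.f (n * i * n⁻¹) 1 = h.P.f (n * j * n⁻¹) 1 := by
  have h1 : i * j⁻¹ ∈ V := by
    rw [h.mem_V_iff (mul_mem hi (inv_mem hj)), h.f_mul hi.1 (inv_mem hj.1), h.f_inv hj.1, Pi.add_apply, hij]
    exact H.add_self _
  have h2 := h.conjV (h.sw_mem hn) h1
  have hi' := h.n_conj_I hn hi
  have hj' := h.n_conj_I hn hj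
  have e : n * (i * j⁻¹) * n⁻¹ = n * i * n⁻¹ * (n * j * n⁻¹)⁻¹ := by group
  rw [e, h.mem_V_iff (mul_mem hi' (inv_mem hj')), h.f_mul hi'.1 (inv_mem hj'.1), h.f_inv hj'.1, Pi.add_apply] at h2
  have := H.add_self (h.P.f (n * j * n⁻¹) 1)
  linear_combination h2 - this

/-- first relation: `I / V` in the two structures -/
theorem rel_one [Finite G] {n : G} (hn : h.Sw n) {c : G} (hc : c ∈ centralizer (V : Set G)) {a₀ a₁ : F}
    (h0 : ∀ v : Fin 4 → F, v 2 = 0 → v 3 = 0 → h.P.act c v 1 = a₀ * v 1)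
    (h1 : ∀ v : Fin 4 → F, v 2 = 0 → v 3 = 0 → h.P.act (n * c * n⁻¹) v 1 = a₁ * v 1) : ∃ σ : F ≃+* F, σ a₀ = a₁ := by
  have := h.finF
  have := h.char_two
  have hcC := h.cen_le_C hc
  have hcC' := h.cen_le_C (h.conjC (h.sw_mem hn) hc)
  have hr : ∀ t : F, h.P.r ![0, t, 0, 0] ∈ h.I := fun t =>
    ⟨h.P.r_mem _, by rw [h.P.f_r]; rfl, by rw [h.P.f_r]; rfl⟩
  have hr1 : ∀ t : F, h.P.f (h.P.r ![0, t, 0, 0]) 1 = t := fun t => by rw [h.P.f_r]; rfl
  refine exists_galois (F' := F) rfl (ψ := fun t => h.P.f (n * h.P.r ![0, t, 0, 0] * n⁻¹) 1) ?_ ?_ ?_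
  · intro s t
    show h.P.f (n * h.P.r ![0, s + t, 0, 0] * n⁻¹) 1 = _
    rw [h.I_f_one_congr hn (hr (s + t)) (mul_mem (hr s) (hr t)) (by
      rw [hr1, h.f_mul (hr s).1 (hr t).1, Pi.add_apply, hr1, hr1])]
    have e : n * (h.P.r ![0, s, 0, 0] * h.P.r ![0, t, 0, 0]) * n⁻¹ =
      n * h.P.r ![0, s, 0, 0] * n⁻¹ * (n * h.P.r ![0, t, 0, 0] * n⁻¹) := by group
    rw [e, h.f_mul (h.n_conj_I hn (hr s)).1 (h.n_conj_I hn (hr t)).1]
    rfl
  · intro s t hst
    have h1 := h.I_f_one_congr (h.sw_inv hn) (h.n_conj_I hn (hr s)) (h.n_conj_I hn (hr t)) hst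
    have e : ∀ x : G, n⁻¹ * (n * x * n⁻¹) * n⁻¹⁻¹ = x := fun x => by group
    rwa [e, e, hr1, hr1] at h1
  · intro t
    have h2 : h.P.f (c * h.P.r ![0, t, 0, 0] * c⁻¹) 1 = a₀ * t := by
      rw [h.f_conj hcC (hr t).1, h0 _ (hr t).2.1 (hr t).2.2, hr1]
    have h3 := h.M_conj_I (h.cen_le_M hc) (hr t)
    show h.P.f (n * h.P.r ![0, a₀ * t, 0, 0] * n⁻¹) 1 = _
    rw [h.I_f_one_congr hn (hr _) h3 (by rw [h2, hr1])]
    have e : n * (c * h.P.r ![0, t, 0, 0] * c⁻¹) * n⁻¹ =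
      n * c * n⁻¹ * (n * h.P.r ![0, t, 0, 0] * n⁻¹) * (n * c * n⁻¹)⁻¹ := by group
    have h4 := h.n_conj_I hn (hr t)
    rw [e, h.f_conj hcC' h4.1, h1 _ h4.2.1 h4.2.2]

/-! ### the pairing -/

omit h in
/-- the pairing `W_y³ × W_x → Z_x` -/
def pg (n x w : G) : G := n * x * n⁻¹ * w * (n * x * n⁻¹)⁻¹ * w⁻¹

/-- the coordinate of an element of `Z` -/
noncomputable def cz (g : G) : F := open Classical in if hh : ∃ c, h.N.e ![c, 0] = g then hh.choose else 0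

theorem e_cz {g : G} (hg : g ∈ Z) : h.N.e ![h.cz g, 0] = g := by
  have hh : ∃ c, h.N.e ![c, 0] = g := (h.memZ g).1 hg
  unfold cz
  rw [dif_pos hh]
  exact hh.choose_spec

theorem cz_mul {g g' : G} (hg : g ∈ Z) (hg' : g' ∈ Z) : h.cz (g * g') = h.cz g + h.cz g' := by
  have h1 := h.e_cz (mul_mem hg hg')
  have h2 : g * g' = h.N.e ![h.cz g + h.cz g', 0] := by
    have h3 := h.e_mul (h.cz g) 0 (h.cz g') 0
    rw [h.e_cz hg, h.e_cz hg', add_zero] at h3
    exact h3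
  nth_rw 2 [h2] at h1
  exact (h.e_inj h1).1

theorem eq_one_of_cz {g : G} (hg : g ∈ Z) (h0 : h.cz g = 0) : g = 1 := by
  rw [← h.e_cz hg, h0, h.e_zero]

theorem pg_mem [Finite G] {n : G} (hn : h.Sw n) {x w : G} (hx : x ∈ W) (hx3 : h.P.f x 3 = 0) (hw : w ∈ W) :
    pg n x w ∈ Z := h.comm_Z hn hx hx3 hw

theorem pg_mul_left [Finite G] {n : G} (hn : h.Sw n) {x x' w : G} (hx : x ∈ W) (hx' : x' ∈ W)
    (hx3' : h.P.f x' 3 = 0) (hw : w ∈ W) : pg n (x * x') w = pg n x w * pg n x' w := by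
  have hz := h.pg_mem hn hx' hx3' hw
  have h1 := h.cen_comm (h.conj_mem_V hn hx) (h.Z_le_V hz)
  have h2 := h.cen_comm (h.W_le_cen hw) (h.Z_le_V hz)
  have e1 : n * x' * n⁻¹ * w * (n * x' * n⁻¹)⁻¹ = pg n x' w * w := by unfold pg; group
  calc pg n (x * x') w = n * x * n⁻¹ * (n * x' * n⁻¹ * w * (n * x' * n⁻¹)⁻¹) * (n * x * n⁻¹)⁻¹ * w⁻¹ := by
        unfold pg; group
    _ = n * x * n⁻¹ * pg n x' w * w * (n * x * n⁻¹)⁻¹ * w⁻¹ := by rw [e1]; group
    _ = pg n x' w * pg n x w := by rw [h1]; unfold pg; group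
    _ = pg n x w * pg n x' w := by
        have hz2 := h.cen_comm (h.conj_mem_V hn hx) (h.Z_le_V hz)
        have h3 : w⁻¹ * pg n x' w = pg n x' w * w⁻¹ := by
          have : Commute w (pg n x' w) := h2
          exact this.inv_left
        have h4 : (n * x * n⁻¹)⁻¹ * pg n x' w = pg n x' w * (n * x * n⁻¹)⁻¹ := by
          have : Commute (n * x * n⁻¹) (pg n x' w) := hz2
          exact this.inv_left
        symm
        calc pg n x w * pg n x' w = n * x * n⁻¹ * w * (n * x * n⁻¹)⁻¹ * (w⁻¹ * pg n x' w) := by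
              conv_lhs => rw [show pg n x w = n * x * n⁻¹ * w * (n * x * n⁻¹)⁻¹ * w⁻¹ from rfl]
              group
          _ = n * x * n⁻¹ * w * ((n * x * n⁻¹)⁻¹ * pg n x' w) * w⁻¹ := by rw [h3]; group
          _ = n * x * n⁻¹ * (w * pg n x' w) * (n * x * n⁻¹)⁻¹ * w⁻¹ := by rw [h4]; group
          _ = (n * x * n⁻¹ * pg n x' w) * w * (n * x * n⁻¹)⁻¹ * w⁻¹ := by rw [h2]; group
          _ = pg n x' w * (n * x * n⁻¹ * w * (n * x * n⁻¹)⁻¹ * w⁻¹) := by rw [hz2]; group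

theorem pg_mul_right [Finite G] {n : G} (hn : h.Sw n) {x w w' : G} (hx : x ∈ W) (hx3 : h.P.f x 3 = 0)
    (hw : w ∈ W) (hw' : w' ∈ W) : pg n x (w * w') = pg n x w * pg n x w' := by
  have hz := h.pg_mem hn hx hx3 hw'
  have h2 := h.cen_comm (h.W_le_cen hw) (h.Z_le_V hz)
  have e1 : n * x * n⁻¹ * w' * (n * x * n⁻¹)⁻¹ * w'⁻¹ = pg n x w' := rfl
  calc pg n x (w * w') = n * x * n⁻¹ * w * (n * x * n⁻¹)⁻¹ * (n * x * n⁻¹ * w' * (n * x * n⁻¹)⁻¹ * w'⁻¹) * w⁻¹ := by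
        unfold pg; group
    _ = n * x * n⁻¹ * w * (n * x * n⁻¹)⁻¹ * (pg n x w' * w⁻¹) := by rw [e1]; group
    _ = n * x * n⁻¹ * w * (n * x * n⁻¹)⁻¹ * (w⁻¹ * pg n x w') := by
        have : Commute w (pg n x w') := h2
        rw [this.inv_left.eq]
    _ = pg n x w * pg n x w' := by
        conv_rhs => rw [show pg n x w = n * x * n⁻¹ * w * (n * x * n⁻¹)⁻¹ * w⁻¹ from rfl]
        group

theorem pg_I [Finite G] {n : G} (hn : h.Sw n) {i w : G} (hi : i ∈ h.I) (hw : w ∈ W) : pg n i w = 1 := by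
  have h1 := h.ab _ (h.I_conj' hn hi) w hw
  unfold pg
  rw [h1]
  group

theorem pg_congr [Finite G] {n : G} (hn : h.Sw n) {x x' w w' : G} (hx : x ∈ W) (hx' : x' ∈ W) (hx3 : h.P.f x 3 = 0)
    (hx3' : h.P.f x' 3 = 0) (h2 : h.P.f x 2 = h.P.f x' 2) (hw : w ∈ W) (hw' : w' ∈ W) (h3 : h.P.f w 3 = h.P.f w' 3) :
    pg n x w = pg n x' w' := by
  have h4 : x * x'⁻¹ ∈ h.I := by
    refine ⟨mul_mem hx (inv_mem hx'), ?_, ?_⟩
    · rw [h.f_mul hx (inv_mem hx'), h.f_inv hx', Pi.add_apply, h2]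
      exact H.add_self _
    · rw [h.f_mul hx (inv_mem hx'), h.f_inv hx', Pi.add_apply, hx3, hx3', add_zero]
  have h5 : h.P.f (w * w'⁻¹) 3 = 0 := by
    rw [h.f_mul hw (inv_mem hw'), h.f_inv hw', Pi.add_apply, h3]
    exact H.add_self _
  have h6 : pg n x' (w * w'⁻¹) = 1 := by
    have := h.comm_one hn hx' hx3' (mul_mem hw (inv_mem hw')) h5
    unfold pg
    rw [this]
    group
  have e1 : x = x * x'⁻¹ * x' := by group
  have e2 : w = w * w'⁻¹ * w' := by group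
  rw [e1, h.pg_mul_left hn h4.1 hx' hx3' hw, h.pg_I hn h4 hw, one_mul]
  nth_rw 1 [e2]
  rw [h.pg_mul_right hn hx' hx3' (mul_mem hw (inv_mem hw')) hw', h6, one_mul]

/-- second relation: the pairing -/
theorem rel_two [Finite G] {n : G} (hn : h.Sw n) {c c' : G} (hc' : c' ∈ centralizer (V : Set G))
    (hcc : n * c' * n⁻¹ = c) {p l : F} (hp : p ≠ 0) (h0 : ∀ v : Fin 4 → F, h.P.act c v 3 = p * v 3)
    (h1 : ∀ v : Fin 4 → F, v 3 = 0 → h.P.act c' v 2 = l * v 2)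
    (h1' : ∀ v : Fin 4 → F, v 3 = 0 → h.P.act c' v 3 = 0) : ∃ τ : F ≃+* F, τ p⁻¹ = l := by
  have := h.finF
  have := h.char_two
  have hc : c ∈ centralizer (V : Set G) := by rw [← hcc]; exact h.conjC (h.sw_mem hn) hc'
  have hcC := h.cen_le_C hc
  have hcC' := h.cen_le_C hc'
  have hx : ∀ y : F, h.P.r ![0, 0, y, 0] ∈ W := fun y => h.P.r_mem _
  have hx2 : ∀ y : F, h.P.f (h.P.r ![0, 0, y, 0]) 2 = y := fun y => by rw [h.P.f_r]; rfl
  have hx3 : ∀ y : F, h.P.f (h.P.r ![0, 0, y, 0]) 3 = 0 := fun y => by rw [h.P.f_r]; rfl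
  have hw : ∀ s : F, h.P.r ![0, 0, 0, s] ∈ W := fun y => h.P.r_mem _
  have hw3 : ∀ s : F, h.P.f (h.P.r ![0, 0, 0, s]) 3 = s := fun y => by rw [h.P.f_r]; rfl
  refine galois_pair (A := F) (Φ := fun s y => h.cz (pg n (h.P.r ![0, 0, y, 0]) (h.P.r ![0, 0, 0, s]))) ?_ ?_ ?_ ?_
  · intro s s' y
    show h.cz _ = h.cz _ + h.cz _
    rw [← h.cz_mul (h.pg_mem hn (hx y) (hx3 y) (hw s)) (h.pg_mem hn (hx y) (hx3 y) (hw s')),
      ← h.pg_mul_right hn (hx y) (hx3 y) (hw s) (hw s')]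
    congr 1
    refine h.pg_congr hn (hx y) (hx y) (hx3 y) (hx3 y) rfl (hw _) (mul_mem (hw s) (hw s')) ?_
    rw [h.f_mul (hw s) (hw s'), Pi.add_apply, hw3, hw3, hw3]
  · intro s y y'
    show h.cz _ = h.cz _ + h.cz _
    rw [← h.cz_mul (h.pg_mem hn (hx y) (hx3 y) (hw s)) (h.pg_mem hn (hx y') (hx3 y') (hw s)),
      ← h.pg_mul_left hn (hx y) (hx y') (hx3 y') (hw s)]
    congr 1
    refine h.pg_congr hn (hx _) (mul_mem (hx y) (hx y')) (hx3 _) ?_ ?_ (hw s) (hw s) rfl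
    · rw [h.f_mul (hx y) (hx y'), Pi.add_apply, hx3, hx3, add_zero]
    · rw [h.f_mul (hx y) (hx y'), Pi.add_apply, hx2, hx2, hx2]
  · intro y hy
    have hI : h.P.r ![0, 0, y, 0] ∈ h.I := by
      refine h.mem_I_of_commute hn (hx y) fun w hwW => ?_
      have h2 := hy (h.P.f w 3)
      have h3 := h.eq_one_of_cz (h.pg_mem hn (hx y) (hx3 y) (hw _)) h2
      rw [h.pg_congr hn (hx y) (hx y) (hx3 y) (hx3 y) rfl (hw _) hwW (hw3 _)] at h3
      have e : n * h.P.r ![0, 0, y, 0] * n⁻¹ * w =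
        pg n (h.P.r ![0, 0, y, 0]) w * (w * (n * h.P.r ![0, 0, y, 0] * n⁻¹)) := by unfold pg; group
      rw [e, h3, one_mul]
    have := hI.2.1
    rwa [hx2] at this
  · intro s y
    show h.cz _ = h.cz _
    congr 1
    -- conjugate by `c`
    set w := h.P.r ![0, 0, 0, p⁻¹ * s] with hwd
    have hwW : w ∈ W := h.P.r_mem _
    have hwf : h.P.f w 3 = p⁻¹ * s := by rw [hwd, hw3]
    have h4 : h.P.f (c' * h.P.r ![0, 0, y, 0] * c'⁻¹) 3 = 0 := by
      rw [h.f_conj hcC' (hx y), h1' _ (hx3 y)]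
    have h5 : h.P.f (c' * h.P.r ![0, 0, y, 0] * c'⁻¹) 2 = l * y := by
      rw [h.f_conj hcC' (hx y), h1 _ (hx3 y), hx2]
    have h6 : h.P.f (c * w * c⁻¹) 3 = s := by
      rw [h.f_conj hcC hwW, h0, hwf, mul_inv_cancel_left₀ hp]
    rw [h.pg_congr hn (hx _) (h.conjW hcC' (hx y)) (hx3 _) h4 (by rw [h5, hx2]) (hw s) (h.conjW hcC hwW)
      (by rw [h6, hw3])]
    have e : pg n (c' * h.P.r ![0, 0, y, 0] * c'⁻¹) (c * w * c⁻¹) = c * pg n (h.P.r ![0, 0, y, 0]) w * c⁻¹ := by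
      unfold pg
      rw [← hcc]
      group
    rw [e, h.cen_comm hc (h.Z_le_V (h.pg_mem hn (hx y) (hx3 y) hwW)), mul_inv_cancel_right]

/-- `c ∈ C(V)` acts on `W / Z` as an element of `T` -/
theorem cen_ind [Finite G] {c : G} (hc : c ∈ centralizer (V : Set G)) : ∃ a b, h.P.Ind c (H.U a b) := by
  have := h.finF
  obtain ⟨n, hn⟩ := h.exists_sw
  have hc' : n * c * n⁻¹ ∈ centralizer (V : Set G) := h.conjC (h.sw_mem hn) hc
  obtain ⟨a, b, k₀, hx3, hx2, hx1, hU⟩ := h.exists_k hc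
  obtain ⟨a', b', k₁, hy3, hy2, hy1, -⟩ := h.exists_k hc'
  refine ⟨a, b, hU ?_⟩
  obtain ⟨σ, hσ⟩ := h.rel_one hn hc hx1 hy1
  have hp : (k₀ : F)⁻¹ ^ 2 ≠ 0 := pow_ne_zero _ (inv_ne_zero k₀.ne_zero)
  obtain ⟨τ, hτ⟩ := h.rel_two (h.sw_inv hn) (c := c) hc' (by group) hp hx3 hy2 (fun v hv => by rw [hy3, hv, mul_zero])
  refine field_end H h.odd_aut k₀.ne_zero k₁.ne_zero σ τ hσ ?_
  rw [← hτ, inv_pow, inv_inv]

/-- **`C_G(V)` is a 2-group** -/
theorem cenV_two [Finite G] : IsPGroup 2 (centralizer (V : Set G)) := by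
  refine isPGroup_of_odd fun c hc ho => ?_
  obtain ⟨a, b, hU⟩ := h.cen_ind hc
  have h1 := h.mem_K_of_odd (h.cen_le_C hc) ho hU
  exact eq_one_of_odd h.Qx_two ⟨h1, h.cen_le_cenZ hc⟩ ho

/-- `C_G(V) ≤ S` -/
theorem cenV_le_S [Finite G] : centralizer (V : Set G) ≤ S :=
  h.sylM.le_of_normal h.cen_le_M h.M_normC h.cenV_two

theorem cenW_le_S [Finite G] : centralizer (W : Set G) ≤ S := (centralizer_le h.V_le_W).trans h.cenV_le_S

theorem up_zero_iff {s : G} : s ∈ centralizer (V : Set G) ↔ h.Up s 0 := ⟨h.up_cen, h.cen_of_up⟩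

end Sit

end Cfsg.Agent.Omega.TwoFFour
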