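import Cfsg.Agent.Omega.TwoFFour.Ess

/-!
# THEOREM 2F4, (7a), (7c): `E` covers `S_{3,4} / Q₄`, its involutions are those of `Z`, it is a Sylow
2-subgroup of `C_G(A)` and normal in `C_G(v) ∩ C_G(A)` for all `v ∈ Z^#`
-/

set_option autoImplicit false
set_option linter.unusedSectionVars false

namespace Cfsg.Agent.Omega.TwoFFour

open Subgroup Cfsg.Agent.Omega.BTwo Cfsg.Agent.RankTwoClose

/-- powers with odd and with 2-power exponent -/
theorem mem_of_pows {G : Type*} [Group G] {K : Subgroup G} {g : G} {k m : ℕ} (hk : Odd k)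
    (h1 : g ^ k ∈ K) (h2 : g ^ 2 ^ m ∈ K) : g ∈ K := by
  have hc : Nat.Coprime k (2 ^ m) := Nat.Coprime.pow_right m (Nat.coprime_two_right.2 hk)
  have e : g = (g ^ k) ^ (Nat.gcdA k (2 ^ m)) * (g ^ 2 ^ m) ^ (Nat.gcdB k (2 ^ m)) := by
    have h3 := Nat.gcd_eq_gcd_ab k (2 ^ m)
    rw [hc.gcd_eq_one] at h3
    rw [← zpow_natCast, ← zpow_natCast g (2 ^ m), ← zpow_mul, ← zpow_mul, ← zpow_add, ← h3]
    simp
  rw [e]
  exact mul_mem (K.zpow_mem h1 _) (K.zpow_mem h2 _)

namespace Oct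

variable {G : Type*} [Group G] {P Q : Bool → Subgroup G} {n : Bool → G} {B S H Z W O : Subgroup G}
  {N : ℕ} {θ : ZMod N} {x y : G → ZMod N}

section cover

variable [Finite G] (h : Oct P Q n B S H Z W O θ x y)
include h

theorem H_inf_S : ∀ g ∈ H, g ∈ S → g = 1 := by
  intro g hg hgS
  obtain ⟨m, hm⟩ := h.twoS ⟨g, hgS⟩
  have hm' : g ^ 2 ^ m = 1 := congrArg Subtype.val hm
  have h1 : g ^ Nat.card H = 1 := by
    have : (⟨g, hg⟩ : H) ^ Nat.card H = 1 := pow_card_eq_one'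
    exact congrArg Subtype.val this
  have := mem_of_pows (K := (⊥ : Subgroup G)) h.oddH (by rw [h1]; exact one_mem _)
    (by rw [hm']; exact one_mem _)
  exact mem_bot.1 this

theorem coprime_A {R : Subgroup G} (hR : IsPGroup 2 R) :
    (Nat.card h.A).Coprime (Nat.card R) := by
  have hp : Fact (Nat.Prime 2) := ⟨Nat.prime_two⟩
  obtain ⟨m, hm⟩ := IsPGroup.iff_card.1 hR
  rw [hm]
  apply Nat.Coprime.pow_right
  rw [Nat.coprime_two_right]
  have h1 : h.A ≤ H := fun t ht => ht.1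
  exact Odd.of_dvd_nat h.oddH (card_dvd_of_le h1)

/-- **(7a)**: `E` covers `S_{3,4} / Q₄`. -/
theorem E_cov : ∀ s ∈ cj (n true * n false * n true) S,
    ∃ e ∈ h.E, e⁻¹ * s ∈ cj (n true * n false * n true) (Q false) := by
  intro s hs
  set τ := n true * n false with hτ
  have Nτ : τ ∈ normalizer (H : Set G) := h.tau_norm
  -- the alternating words
  have a7 : alt n true 7 = τ * τ * (τ * n true) := by
    show n true * (n false * (n true * (n false * (n true * (n false * (n true * 1)))))) = _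
    rw [hτ]; group
  have a3 : alt n true 3 = τ * n true := by
    show n true * (n false * (n true * 1)) = _
    rw [hτ]; group
  have a6 : alt n true 6 = τ * τ * τ := by
    show n true * (n false * (n true * (n false * (n true * (n false * 1))))) = _
    rw [hτ]; group
  have hcov : Cov Q S false (alt n true 7) (Win Q n true 0 6) := h.cov_win 6 true 0 le_rfl
  set R : Subgroup G := cj (τ * τ)⁻¹ (Win Q n true 0 6) with hRdef
  -- `R` lies in `Q₀` and in `S_{3,4}`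
  have hRQ : R ≤ Q false := by
    have h1 : Win Q n true 0 6 ≤ Qs Q n true 3 := Win_le' true 6 0 3 (by norm_num)
    have h2 : Qs Q n true 3 = cj (τ * τ) (Q false) := by
      show cj (alt n true 3) (Q false) = _
      rw [a3, ← h.cj_tau_Q]
    rw [h2] at h1
    have h3 := cj_mono (g := (τ * τ)⁻¹) h1
    rwa [cj_inv_cj] at h3
  have hRS : R ≤ cj (τ * n true) S := by
    have h1 : Win Q n true 0 6 ≤ Qs Q n true 6 := Win_le' true 6 0 6 (by norm_num)
    have h2 := h1.trans (h.Qs_le' true 6)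
    rw [a7] at h2
    have h3 := cj_mono (g := (τ * τ)⁻¹) h2
    rwa [cj_mul, cj_inv_cj] at h3
  have hRH : ∀ k ∈ H, ∀ r ∈ R, k * r * k⁻¹ ∈ R := by
    intro k hk r hr
    rw [mem_cj, inv_inv] at hr ⊢
    have N2 : τ * τ ∈ normalizer (H : Set G) := mul_mem Nτ Nτ
    have h1 := h.Win_H true 6 0 (conj_mem_of_normalizer N2 hk) hr
    have e : τ * τ * (k * r * k⁻¹) * (τ * τ)⁻¹ = τ * τ * k * (τ * τ)⁻¹ *
        (τ * τ * r * (τ * τ)⁻¹) * (τ * τ * k * (τ * τ)⁻¹)⁻¹ := by group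
    rwa [e]
  have hR2 : IsPGroup 2 R := h.twoS.to_le (hRQ.trans (h.Q_le false))
  -- `R` covers `S_{3,4} / Q₄`
  obtain ⟨r, hr, hrs⟩ : ∃ r ∈ R, r⁻¹ * s ∈ cj (τ * n true) (Q false) := by
    have h1 : τ * τ * s * (τ * τ)⁻¹ ∈ cj (alt n true 7) S := by
      rw [a7, cj_mul]; exact conj_mem_cj hs
    obtain ⟨r, hr, hr'⟩ := hcov _ h1
    refine ⟨(τ * τ)⁻¹ * r * (τ * τ), ?_, ?_⟩
    · rw [mem_cj]
      have e : (τ * τ)⁻¹⁻¹ * ((τ * τ)⁻¹ * r * (τ * τ)) * (τ * τ)⁻¹ = r := by group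
      rwa [e]
    · rw [a7, cj_mul] at hr'
      have h2 := mem_cj.1 hr'
      have e : ∀ g : G, g⁻¹ * (r⁻¹ * (g * s * g⁻¹)) * g = (g⁻¹ * r * g)⁻¹ * s := by
        intro g; group
      rwa [e] at h2
  -- `A` is trivial on `S_{3,4} / Q₄`
  have hA : ∀ a ∈ h.A, ∀ u ∈ cj (τ * n true) S, a * u * a⁻¹ * u⁻¹ ∈ cj (τ * n true) (Q false) := by
    intro a ha u hu
    rw [mem_cj] at hu ⊢
    have h1 := h.triv false ((τ * n true)⁻¹ * a * (τ * n true))
      (h.H_conj (mul_mem Nτ (h.n_norm true)) ha.1) (by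
        show θ * y _ - x _ = 0
        rw [h.x_mul_n Nτ ha.1, h.y_mul_n Nτ ha.1, h.x_tau ha.1, h.y_tau ha.1, ha.2]
        ring) _ hu
    have e : (τ * n true)⁻¹ * (a * u * a⁻¹ * u⁻¹) * (τ * n true) =
        (τ * n true)⁻¹ * a * (τ * n true) * ((τ * n true)⁻¹ * u * (τ * n true)) *
          ((τ * n true)⁻¹ * a * (τ * n true))⁻¹ * ((τ * n true)⁻¹ * u * (τ * n true))⁻¹ := by group
    rwa [e]
  have hQn : ∀ u ∈ cj (τ * n true) S, ∀ q ∈ cj (τ * n true) (Q false),
      u * q * u⁻¹ ∈ cj (τ * n true) (Q false) := by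
    intro u hu q hq
    rw [mem_cj] at hu hq ⊢
    have h1 := h.Q_nrm false _ (h.B_le false (h.S_le hu)) _ hq
    have e : (τ * n true)⁻¹ * (u * q * u⁻¹) * (τ * n true) = (τ * n true)⁻¹ * u * (τ * n true) *
        ((τ * n true)⁻¹ * q * (τ * n true)) * ((τ * n true)⁻¹ * u * (τ * n true))⁻¹ := by group
    rwa [e]
  have hQa : ∀ k ∈ H, ∀ q ∈ cj (τ * n true) (Q false), k * q * k⁻¹ ∈ cj (τ * n true) (Q false) := by
    intro k hk q hq
    rw [mem_cj] at hq ⊢
    have h1 := h.Q_nrm false _ (h.B_le false (h.H_le (h.H_conj (mul_mem Nτ (h.n_norm true)) hk))) _ hq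
    have e : (τ * n true)⁻¹ * (k * q * k⁻¹) * (τ * n true) = (τ * n true)⁻¹ * k * (τ * n true) *
        ((τ * n true)⁻¹ * q * (τ * n true)) * ((τ * n true)⁻¹ * k * (τ * n true))⁻¹ := by group
    rwa [e]
  have hsolv : Group.IsSolvable h.A ∨ Group.IsSolvable R := by
    right
    have hp : Fact (Nat.Prime 2) := ⟨Nat.prime_two⟩
    have := hR2.isNilpotent
    infer_instance
  obtain ⟨c, hc, hcr⟩ := Cfsg.Agent.S0022.result h.A R
    (fun a ha => mem_normalizer_of_conj fun r hr => hRH a ha.1 r hr) (h.coprime_A hR2) hsolv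
    (R ⊓ cj (τ * n true) (Q false)) inf_le_left
    (fun u hu => mem_normalizer_of_conj fun q hq =>
      mem_inf.2 ⟨mul_mem (mul_mem hu hq.1) (inv_mem hu), hQn u (hRS hu) q hq.2⟩)
    (fun a ha => mem_normalizer_of_conj fun q hq =>
      mem_inf.2 ⟨hRH a ha.1 q hq.1, hQa a ha.1 q hq.2⟩)
    r hr (fun a ha => mem_inf.2 ⟨mul_mem (hRH a ha.1 r hr) (inv_mem hr), hA a ha r (hRS hr)⟩)
  refine ⟨c, ⟨h.Q_le false (hRQ hc.1), hc.2⟩, ?_⟩
  have e : c⁻¹ * s = (r⁻¹ * c)⁻¹ * (r⁻¹ * s) := by group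
  rw [e]
  exact mul_mem (inv_mem hcr.2) hrs

theorem Z_le_E : Z ≤ h.E := by
  intro z hz
  exact h.mem_E.2 ⟨h.Z_le hz, fun a ha => h.Z_x a ha.1 ha.2 z hz⟩

theorem w_sq : n true * n false * n true * (n true * n false * n true) ∈ B := by
  have e : n true * n false * n true * (n true * n false * n true) =
      (n true * n true) * ((n true)⁻¹ * ((n false * n false) *
        ((n false)⁻¹ * (n true * n true) * n false)) * n true) := by group
  rw [e]
  refine mul_mem (h.sq_mem true) (h.conj_H₁ true ?_ ?_)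
  · exact mul_mem (h.sq_mem false) (h.conj_H₁ false (h.sq_mem true) (h.sq_norm true))
  · exact mul_mem (h.sq_norm false) (mul_mem (mul_mem (inv_mem (h.n_norm false)) (h.sq_norm true))
      (h.n_norm false))

/-- the involutions of `E` are those of `Z` -/
theorem E_sq {e : G} (he : e ∈ h.E) (h2 : e * e = 1) : e ∈ Z := by
  set w := n true * n false * n true with hw
  have h3 : e ∈ cj w S := h.E_le₃ he
  have h4 := mem_cj.1 h3
  obtain ⟨z', hz', hq⟩ := h.omega (w⁻¹ * e * w) h4 (by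
    have e1 : w⁻¹ * e * w * (w⁻¹ * e * w) = w⁻¹ * (e * e) * w := by group
    rw [e1, h2]
    have e2 : w⁻¹ * 1 * w = 1 := by group
    rw [e2]
    exact one_mem _)
  set z := w * z' * w⁻¹ with hz
  have hzZ : z ∈ Z := by
    have h5 : z ∈ cj w (cj w Z) := conj_mem_cj hz'
    rw [← cj_mul, mem_cj] at h5
    have h6 := h.Z_nrm _ (h.B_le false h.w_sq) _ h5
    have e1 : w * w * ((w * w)⁻¹ * z * (w * w)) * (w * w)⁻¹ = z := by group
    rwa [← hw, e1] at h6
  have h7 : z⁻¹ * e ∈ cj ((n true * n false) * (n true * n false)) (Q false) := by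
    rw [h.cj_tau_Q]
    have h8 : w * (z'⁻¹ * (w⁻¹ * e * w)) * w⁻¹ ∈ cj w (Q false) := conj_mem_cj hq
    have e1 : w * (z'⁻¹ * (w⁻¹ * e * w)) * w⁻¹ = z⁻¹ * e := by rw [hz]; group
    rwa [e1] at h8
  have h9 : z⁻¹ * e ∈ h.E ⊓ cj ((n true * n false) * (n true * n false)) (Q false) :=
    mem_inf.2 ⟨mul_mem (inv_mem (h.Z_le_E hzZ)) he, h7⟩
  rw [h.E_inf, mem_bot] at h9
  have : e = z := by
    have := inv_mul_eq_one.1 h9
    exact this.symm
  rw [this]
  exact hzZ

/-- an element of `B` which fixes `n₀ B` -/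
theorem dec {g : G} (hg : g ∈ B) (hg' : n false * g * (n false)⁻¹ ∈ B) :
    ∃ s ∈ Q false, ∃ m ∈ B, m ∈ normalizer (H : Set G) ∧ g = s * m := by
  obtain ⟨s, hs, hm⟩ := h.split g hg
  have hmB : s⁻¹ * g ∈ B := mul_mem (inv_mem (h.S_le hs)) hg
  refine ⟨s, ?_, s⁻¹ * g, hmB, hm, by group⟩
  apply h.Q_max false s hs
  have h1 := h.conj_H₁ false hmB hm
  have h2 : (n false)⁻¹ * g * n false ∈ B := by
    have e : (n false)⁻¹ * g * n false = (n false * n false)⁻¹ * (n false * g * (n false)⁻¹) *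
        (n false * n false) := by group
    rw [e]
    exact mul_mem (mul_mem (inv_mem (h.sq_mem false)) hg') (h.sq_mem false)
  have e : (n false)⁻¹ * s * n false = ((n false)⁻¹ * g * n false) *
      ((n false)⁻¹ * (s⁻¹ * g) * n false)⁻¹ := by group
  rw [e]
  exact mul_mem h2 (inv_mem h1)

/-- **(c1)**: the 2-elements of `C_{P₀}(A)` lie in `E`. -/
theorem mem_E_of_two {r : G} (hr : r ∈ P false) (hA : ∀ a ∈ h.A, a * r = r * a) {m : ℕ}
    (h2 : r ^ 2 ^ m = 1) : r ∈ h.E := by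
  obtain ⟨a, haA, ha, ax, ay⟩ := h.exists_a
  have hf : fr θ x y false a ≠ 0 := by
    show θ * y a - x a ≠ 0
    rw [ax, ay, mul_one, sub_zero]
    exact h.th_ne
  have har : r⁻¹ * a * r = a := by
    rw [mul_assoc, hA a haA, ← mul_assoc, inv_mul_cancel, one_mul]
  rcases h.two_one false r hr ha hf (by rw [har]; exact h.H_le ha) with hB | hB
  · obtain ⟨k, hk, hk'⟩ := h.oddB r hB
    exact h.mem_E.2 ⟨mem_of_pows hk hk' (by rw [h2]; exact one_mem _), hA⟩
  · exfalso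
    set g := (n false)⁻¹ * r with hg
    have hrg : r = n false * g := by rw [hg]; group
    -- `r n₀ ∈ B`
    have h3 : r * n false ∈ B := by
      have h4 : (r * n false)⁻¹ * a * (r * n false) ∈ B := by
        have e : (r * n false)⁻¹ * a * (r * n false) = (n false)⁻¹ * (r⁻¹ * a * r) * n false := by
          group
        rw [e, har]
        exact h.H_le (h.n_conj' false ha)
      rcases h.two_one false _ (mul_mem hr (h.n_mem false)) ha hf h4 with h5 | h5
      · exact h5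
      · exfalso
        have h6 : g * n false ∈ B := by
          have e : (n false)⁻¹ * (r * n false) = g * n false := by rw [hg]; group
          rwa [e] at h5
        exact h.n_not false ((B.mul_mem_cancel_left hB).1 h6)
    have h4 : n false * g * (n false)⁻¹ ∈ B := by
      have e : n false * g * (n false)⁻¹ = (r * n false) * (n false * n false)⁻¹ := by
        rw [hrg]; group
      rw [e]
      exact mul_mem h3 (inv_mem (h.sq_mem false))
    obtain ⟨s, hs, p, hpB, hpN, hgs⟩ := h.dec hB h4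
    set s' := n false * s * (n false)⁻¹ with hs'
    have hs'Q : s' ∈ Q false := h.Q_nrm false _ (h.n_mem false) s hs
    -- `p` inverts `A`
    have hinv : ∀ a ∈ h.A, p * a * p⁻¹ = a⁻¹ := by
      intro a ha
      set b := n false * (p * a * p⁻¹) * (n false)⁻¹ with hb
      have hbH : b ∈ H := h.n_conj false (conj_mem_of_normalizer hpN ha.1)
      have e1 : b = s'⁻¹ * a * s' := by
        have h5 : r * a * r⁻¹ = a := by rw [← hA a ha]; group
        have e2 : r = s' * (n false * p) := by rw [hrg, hgs, hs']; group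
        have e3 : r * a * r⁻¹ = s' * b * s'⁻¹ := by rw [e2, hb]; group
        rw [e3] at h5
        rw [← h5]; group
      have hab : a⁻¹ * b = 1 := by
        apply h.H_inf_S _ (mul_mem (inv_mem ha.1) hbH)
        rw [e1]
        have e2 : a⁻¹ * (s'⁻¹ * a * s') = (a⁻¹ * s'⁻¹ * (a⁻¹)⁻¹) * s' := by group
        rw [e2]
        exact mul_mem (h.S_nrm _ (h.H_le (inv_mem ha.1)) _ (inv_mem (h.Q_le false hs'Q)))
          (h.Q_le false hs'Q)
      have hba : b = a := (inv_mul_eq_one.1 hab).symm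
      have e4 : p * a * p⁻¹ = (n false)⁻¹ * a * n false := by
        have e5 : p * a * p⁻¹ = (n false)⁻¹ * b * n false := by rw [hb]; group
        rwa [hba] at e5
      rw [e4]
      refine h.inj _ (h.n_conj' false ha.1) _ (inv_mem ha.1) ?_ ?_
      · rw [h.x₀ a ha.1, h.x_inv ha.1, ha.2, neg_zero]
      · rw [h.y₀ a ha.1, h.y_inv ha.1, ha.2]; ring
    obtain ⟨k, hk, hk'⟩ := h.oddB p hpB
    have hpk : ∀ j, p ^ (2 * j) * a * (p ^ (2 * j))⁻¹ = a := by
      intro j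
      induction j with
      | zero => simp
      | succ j ih =>
        have e5 : p ^ (2 * (j + 1)) * a * (p ^ (2 * (j + 1)))⁻¹ =
            p * (p * (p ^ (2 * j) * a * (p ^ (2 * j))⁻¹) * p⁻¹) * p⁻¹ := by
          rw [Nat.mul_add, mul_one, Nat.add_comm, pow_add, pow_two]; group
        rw [e5, ih, hinv a haA, hinv _ (inv_mem haA), inv_inv]
    obtain ⟨j, rfl⟩ := hk
    have h6 : p ^ (2 * j + 1) * a * (p ^ (2 * j + 1))⁻¹ = a⁻¹ := by
      have e5 : p ^ (2 * j + 1) * a * (p ^ (2 * j + 1))⁻¹ =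
          p * (p ^ (2 * j) * a * (p ^ (2 * j))⁻¹) * p⁻¹ := by
        rw [Nat.add_comm, pow_add, pow_one]; group
      rw [e5, hpk, hinv a haA]
    have h7 : a⁻¹ * a⁻¹ = 1 := by
      apply h.H_inf_S _ (mul_mem (inv_mem ha) (inv_mem ha))
      have e5 : a⁻¹ * a⁻¹ = p ^ (2 * j + 1) * (a * (p ^ (2 * j + 1))⁻¹ * a⁻¹) := by
        calc a⁻¹ * a⁻¹ = (p ^ (2 * j + 1) * a * (p ^ (2 * j + 1))⁻¹) * a⁻¹ := by rw [h6]
          _ = _ := by group
      rw [e5]
      exact mul_mem hk' (h.S_nrm a (h.H_le ha) _ (inv_mem hk'))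
    have h8 := h.y_mul a⁻¹ (inv_mem ha) a⁻¹ (inv_mem ha)
    rw [h7, h.y_one, h.y_inv ha, ay] at h8
    exact h.two_ne (by linear_combination h8)

/-- **(c2)**: `E` is a Sylow 2-subgroup of `C_G(A)`. -/
theorem E_syl {R : Subgroup G} (hR : IsPGroup 2 R) (hRA : ∀ r ∈ R, ∀ a ∈ h.A, r * a = a * r)
    (hER : h.E ≤ R) : R ≤ h.E := by
  have hp : Fact (Nat.Prime 2) := ⟨Nat.prime_two⟩
  by_contra hne
  have hnil : Group.IsNilpotent R := hR.isNilpotent
  have h1 : h.E.subgroupOf R < ⊤ := by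
    rw [lt_top_iff_ne_top]
    intro h2
    exact hne (subgroupOf_eq_top.1 h2)
  have h2 := Group.normalizerCondition_of_isNilpotent _ h1
  obtain ⟨r, hr, hr'⟩ := SetLike.exists_of_lt h2
  apply hr'
  rw [mem_subgroupOf]
  have hrn : ∀ e ∈ h.E, (r : G) * e * (r : G)⁻¹ ∈ h.E := by
    intro e he
    have := (mem_normalizer_iff.1 hr ⟨e, hER he⟩).1 (mem_subgroupOf.2 he)
    exact mem_subgroupOf.1 this
  have hrP : (r : G) ∈ P false := by
    apply h.Z_norm
    intro z hz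
    refine h.E_sq (hrn z (h.Z_le_E hz)) ?_
    have e : (r : G) * z * (r : G)⁻¹ * (r * z * (r : G)⁻¹) = r * (z * z) * (r : G)⁻¹ := by group
    rw [e, h.Z_sq z hz, mul_one, mul_inv_cancel]
  obtain ⟨m, hm⟩ := hR r
  exact h.mem_E_of_two hrP (fun a ha => (hRA r r.2 a ha).symm) (m := m) (congrArg Subtype.val hm)

/-- **(c3)** -/
theorem E_norm {v c : G} (hv : v ∈ h.E) (hvv : v * v = 1) (hv1 : v ≠ 1) (hc : c * v = v * c)
    (hcA : ∀ a ∈ h.A, c * a = a * c) : ∀ e ∈ h.E, c * e * c⁻¹ ∈ h.E := by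
  have hvZ := h.E_sq hv hvv
  obtain ⟨R, hRS, hZR, hR⟩ := h.Z_two v hvZ hv1
  have hAc : ∀ {u : G}, (∀ a ∈ h.A, a * u = u * a) → ∀ a ∈ h.A, a * (c * u * c⁻¹) = c * u * c⁻¹ * a := by
    intro u hu a ha
    have h1 := hcA a ha
    have h2 : c⁻¹ * a = a * c⁻¹ := by
      calc c⁻¹ * a = c⁻¹ * (a * c) * c⁻¹ := by group
        _ = c⁻¹ * (c * a) * c⁻¹ := by rw [h1]
        _ = a * c⁻¹ := by group
    calc a * (c * u * c⁻¹) = (a * c) * u * c⁻¹ := by group
      _ = c * (a * u) * c⁻¹ := by rw [← h1]; group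
      _ = c * u * (a * c⁻¹) := by rw [hu a ha]; group
      _ = c * u * c⁻¹ * a := by rw [← h2]; group
  have hcP : c ∈ P false := by
    apply h.Z_norm
    intro z hz
    refine h.E_sq (h.mem_E.2 ⟨hRS (hR c hc z (hZR hz)), ?_⟩) ?_
    · exact hAc (h.mem_E.1 (h.Z_le_E hz)).2
    · have e : c * z * c⁻¹ * (c * z * c⁻¹) = c * (z * z) * c⁻¹ := by group
      rw [e, h.Z_sq z hz, mul_one, mul_inv_cancel]
  intro e he
  exact h.mem_E.2 ⟨h.Q_le false (h.Q_nrm false c hcP e (h.E_le_Q₀ he)), hAc (h.mem_E.1 he).2⟩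

end cover

end Oct

end Cfsg.Agent.Omega.TwoFFour
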