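import Cfsg.Agent.Omega.TwoFFour.Gen
import Cfsg.Agent.S0022

/-!
# THEOREM 2F4, (7a), (7b): the group `E = C_S(A)`, `A = ker χ₀`

`E` centralises `W₀`, `E ∩ Q₄ = 1` and `E` covers `S_{3,4} / Q₄`.
-/

set_option autoImplicit false
set_option linter.unusedSectionVars false

namespace Cfsg.Agent.Omega.TwoFFour

open Subgroup Cfsg.Agent.Omega.BTwo Cfsg.Agent.RankTwoClose

namespace Oct

variable {G : Type*} [Group G] {P Q : Bool → Subgroup G} {n : Bool → G} {B S H Z W O : Subgroup G}
  {N : ℕ} {θ : ZMod N} {x y : G → ZMod N}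

section ess

variable (h : Oct P Q n B S H Z W O θ x y)
include h

theorem x_one : x 1 = 0 := by
  have := h.x_mul 1 (one_mem _) 1 (one_mem _)
  rw [mul_one] at this
  linear_combination -this

theorem y_one : y 1 = 0 := by
  have := h.y_mul 1 (one_mem _) 1 (one_mem _)
  rw [mul_one] at this
  linear_combination -this

theorem x_inv {t : G} (ht : t ∈ H) : x t⁻¹ = -x t := by
  have := h.x_mul t ht t⁻¹ (inv_mem ht)
  rw [mul_inv_cancel, h.x_one] at this
  linear_combination -this

theorem y_inv {t : G} (ht : t ∈ H) : y t⁻¹ = -y t := by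
  have := h.y_mul t ht t⁻¹ (inv_mem ht)
  rw [mul_inv_cancel, h.y_one] at this
  linear_combination -this

/-- `A = ker χ₀`. -/
def A : Subgroup G where
  carrier := {t | t ∈ H ∧ x t = 0}
  one_mem' := ⟨one_mem _, h.x_one⟩
  mul_mem' := by
    rintro a b ⟨ha, ha'⟩ ⟨hb, hb'⟩
    exact ⟨mul_mem ha hb, by rw [h.x_mul a ha b hb, ha', hb', add_zero]⟩
  inv_mem' := by
    rintro a ⟨ha, ha'⟩
    exact ⟨inv_mem ha, by rw [h.x_inv ha, ha', neg_zero]⟩

theorem mem_A {t : G} : t ∈ h.A ↔ t ∈ H ∧ x t = 0 := Iff.rfl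

/-- `E = C_S(A)`. -/
def E : Subgroup G := S ⊓ centralizer (h.A : Set G)

theorem mem_E {s : G} : s ∈ h.E ↔ s ∈ S ∧ ∀ a ∈ h.A, a * s = s * a := by
  unfold E
  rw [mem_inf, mem_centralizer_iff]
  rfl

theorem tau_norm : n true * n false ∈ normalizer (H : Set G) := mul_mem (h.n_norm _) (h.n_norm _)

theorem x_tau {t : G} (ht : t ∈ H) : x ((n true * n false)⁻¹ * t * (n true * n false)) = y t := by
  have e : (n true * n false)⁻¹ * t * (n true * n false) =
      (n false)⁻¹ * ((n true)⁻¹ * t * n true) * n false := by group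
  rw [e, h.x₀ _ (h.n_conj' true ht), h.x₁ t ht]

theorem y_tau {t : G} (ht : t ∈ H) :
    y ((n true * n false)⁻¹ * t * (n true * n false)) = θ * y t - x t := by
  have e : (n true * n false)⁻¹ * t * (n true * n false) =
      (n false)⁻¹ * ((n true)⁻¹ * t * n true) * n false := by group
  rw [e, h.y₀ _ (h.n_conj' true ht), h.x₁ t ht, h.y₁ t ht]

theorem x_mul_tau {g t : G} (hg : g ∈ normalizer (H : Set G)) (ht : t ∈ H) :
    x ((g * (n true * n false))⁻¹ * t * (g * (n true * n false))) = y (g⁻¹ * t * g) := by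
  have e : (g * (n true * n false))⁻¹ * t * (g * (n true * n false)) =
      (n true * n false)⁻¹ * (g⁻¹ * t * g) * (n true * n false) := by group
  rw [e, h.x_tau (h.H_conj hg ht)]

theorem y_mul_tau {g t : G} (hg : g ∈ normalizer (H : Set G)) (ht : t ∈ H) :
    y ((g * (n true * n false))⁻¹ * t * (g * (n true * n false))) =
      θ * y (g⁻¹ * t * g) - x (g⁻¹ * t * g) := by
  have e : (g * (n true * n false))⁻¹ * t * (g * (n true * n false)) =
      (n true * n false)⁻¹ * (g⁻¹ * t * g) * (n true * n false) := by group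
  rw [e, h.y_tau (h.H_conj hg ht)]

theorem x_mul_n {g t : G} (hg : g ∈ normalizer (H : Set G)) (ht : t ∈ H) :
    x ((g * n true)⁻¹ * t * (g * n true)) = y (g⁻¹ * t * g) := by
  have e : (g * n true)⁻¹ * t * (g * n true) = (n true)⁻¹ * (g⁻¹ * t * g) * n true := by group
  rw [e, h.x₁ _ (h.H_conj hg ht)]

theorem y_mul_n {g t : G} (hg : g ∈ normalizer (H : Set G)) (ht : t ∈ H) :
    y ((g * n true)⁻¹ * t * (g * n true)) = x (g⁻¹ * t * g) := by
  have e : (g * n true)⁻¹ * t * (g * n true) = (n true)⁻¹ * (g⁻¹ * t * g) * n true := by group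
  rw [e, h.y₁ _ (h.H_conj hg ht)]

theorem cj_tau_Q (g : G) : cj (g * (n true * n false)) (Q false) = cj (g * n true) (Q false) := by
  rw [← mul_assoc, cj_mul (g * n true), h.cj_Q false (h.n_mem false)]

theorem cj_n_Q (g : G) : cj (g * n true) (Q true) = cj g (Q true) := by
  rw [cj_mul, h.cj_Q true (h.n_mem true)]

theorem cj_tau_W (g : G) : cj (g * (n true * n false)) W = cj (g * n true) W := by
  rw [← mul_assoc, cj_mul (g * n true), h.cj_W (h.n_mem false)]

/-- the element `a` of `A` with weight vector `(0, 1)` -/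
theorem exists_a : ∃ a ∈ h.A, a ∈ H ∧ x a = 0 ∧ y a = 1 := by
  obtain ⟨a, ha, h1, h2⟩ := h.surj 0 1
  exact ⟨a, ⟨ha, h1⟩, ha, h1, h2⟩

theorem E_le_Q₀ : h.E ≤ Q false := by
  intro s hs
  obtain ⟨a, haA, ha, ax, ay⟩ := h.exists_a
  have h1 := h.mem_Q (i := false) (g := 1) (one_mem _) ha (by
    show θ * y _ - x _ ≠ 0
    rw [inv_one, one_mul, mul_one, ax, ay]
    simpa using h.th_ne) (by rw [cj_one]; exact (h.mem_E.1 hs).1) ((h.mem_E.1 hs).2 a haA)
  rwa [cj_one] at h1

theorem E_le_cen : h.E ≤ centralizer (W : Set G) := by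
  intro s hs
  obtain ⟨a, haA, ha, ax, ay⟩ := h.exists_a
  have n1 := h.one_ne
  have n5 := h.th1_ne'
  refine h.mem_cen₀ ha (h.E_le_Q₀ hs) ((h.mem_E.1 hs).2 a haA) ?_ ?_ (Or.inl ?_) (Or.inl ?_) <;>
    rw [ax, ay]
  · exact n1
  · intro h0; exact n1 (by linear_combination -h0)
  · intro h0; exact n5 (by linear_combination h0)
  · intro h0; exact n5 (by linear_combination -h0)

theorem E_le₂ : h.E ≤ cj (n true * n false) (Q false) := by
  intro s hs
  obtain ⟨a, haA, ha, ax, ay⟩ := h.exists_a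
  have h1 : s ∈ cj (n true) S := by
    have h2 := h.W_cen true (h.E_le_cen hs)
    rw [← h.cj_Q true (h.n_mem true)] at h2
    exact cj_mono (h.Q_le true) h2
  have h3 := h.mem_Q (i := false) (g := n true) (h.n_norm true) ha (by
    show θ * y _ - x _ ≠ 0
    rw [h.x₁ a ha, h.y₁ a ha, ax, ay]
    intro h0; exact h.one_ne (by linear_combination -h0)) h1 ((h.mem_E.1 hs).2 a haA)
  rw [cj_mul, h.cj_Q false (h.n_mem false)]
  exact h3

/-- `E ≤ S_{3,4}` -/
theorem E_le₃ : h.E ≤ cj (n true * n false * n true) S := by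
  intro s hs
  obtain ⟨a, haA, ha, ax, ay⟩ := h.exists_a
  have h1 : s ∈ cj (n true * n false) S := cj_mono (h.Q_le false) (h.E_le₂ hs)
  have h3 := h.mem_Q (i := true) (g := n true * n false) h.tau_norm ha (by
    show x _ - y _ ≠ 0
    rw [h.x_tau ha, h.y_tau ha, ax, ay]
    intro h0; exact h.th1_ne' (by linear_combination -h0)) h1 ((h.mem_E.1 hs).2 a haA)
  rw [← h.cj_n_Q] at h3
  exact cj_mono (h.Q_le true) h3

/-- **(7b)**: `E ∩ Q₄ = 1` -/
theorem E_inf : h.E ⊓ cj ((n true * n false) * (n true * n false)) (Q false) = ⊥ := by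
  obtain ⟨a, haA, ha, ax, ay⟩ := h.exists_a
  have n1 := h.one_ne
  have n5 := h.th1_ne'
  have n6 := h.th2_ne
  have hs2 := h.sq
  set τ := n true * n false with hτ
  have N1 : τ ∈ normalizer (H : Set G) := h.tau_norm
  have N2 : τ * τ ∈ normalizer (H : Set G) := mul_mem N1 N1
  have N3 : τ * τ * τ ∈ normalizer (H : Set G) := mul_mem N2 N1
  have N4 : τ * τ * τ * τ ∈ normalizer (H : Set G) := mul_mem N3 N1
  -- the weights
  have X1 : x (τ⁻¹ * a * τ) = 1 := by rw [h.x_tau ha, ay]
  have Y1 : y (τ⁻¹ * a * τ) = θ := by rw [h.y_tau ha, ax, ay]; ring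
  have X2 : x ((τ * τ)⁻¹ * a * (τ * τ)) = θ := by rw [h.x_mul_tau N1 ha, Y1]
  have Y2 : y ((τ * τ)⁻¹ * a * (τ * τ)) = 1 := by
    rw [h.y_mul_tau N1 ha, X1, Y1]; linear_combination hs2
  have X3 : x ((τ * τ * τ)⁻¹ * a * (τ * τ * τ)) = 1 := by rw [h.x_mul_tau N2 ha, Y2]
  have Y3 : y ((τ * τ * τ)⁻¹ * a * (τ * τ * τ)) = 0 := by
    rw [h.y_mul_tau N2 ha, X2, Y2]; ring
  have X4 : x ((τ * τ * τ * τ)⁻¹ * a * (τ * τ * τ * τ)) = 0 := by rw [h.x_mul_tau N3 ha, Y3]
  have Y4 : y ((τ * τ * τ * τ)⁻¹ * a * (τ * τ * τ * τ)) = -1 := by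
    rw [h.y_mul_tau N3 ha, X3, Y3]; ring
  -- from `F_g` to `Q` of the next point
  have next : ∀ {g s : G}, g ∈ normalizer (H : Set G) → s ∈ cj g (centralizer (W : Set G)) →
      a * s = s * a → θ * x (g⁻¹ * a * g) - y (g⁻¹ * a * g) ≠ 0 → s ∈ cj (g * τ) (Q false) := by
    intro g s hg hs hc hf
    have h1 : s ∈ cj (g * n true) S := by
      have h2 := cj_mono (g := g) (h.W_cen true) hs
      rw [← h.cj_n_Q] at h2
      exact cj_mono (h.Q_le true) h2
    rw [h.cj_tau_Q]
    refine h.mem_Q (mul_mem hg (h.n_norm true)) ha ?_ h1 hc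
    show θ * y _ - x _ ≠ 0
    rw [h.x_mul_n hg ha, h.y_mul_n hg ha]
    exact hf
  have cenW : ∀ {g s : G}, s ∈ cj g (centralizer (W : Set G)) → ∀ w ∈ cj g W, s * w = w * s := by
    intro g s hs w hw
    rw [← centralizer_cj] at hs
    exact (mem_centralizer_iff.1 hs w hw).symm
  have key : ∀ s ∈ h.E, s ∈ cj (τ * τ) (Q false) →
      s ∈ cj τ (centralizer (W : Set G)) ∧ s ∈ cj (τ * τ * τ) (centralizer (W : Set G)) ∧
        s ∈ cj (τ * τ * τ * τ) (centralizer (W : Set G)) := by
    intro s hs hsQ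
    have hc : a * s = s * a := (h.mem_E.1 hs).2 a haA
    -- `u₄`
    have f4 : s ∈ cj (τ * τ) (centralizer (W : Set G)) := by
      refine h.mem_cen N2 ha hsQ hc ?_ ?_ (Or.inl ?_) (Or.inl ?_) <;> rw [X2, Y2]
      · intro h0; exact n5 (by linear_combination -h0)
      · intro h0; exact n5 (by linear_combination -h0 + hs2)
      · intro h0; exact n5 (by linear_combination -h0 + hs2)
      · intro h0; exact n5 (by linear_combination -h0 + (θ + 1 - 1) * hs2 )
    have w4 := cenW f4
    -- `u₆`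
    have q6 : s ∈ cj (τ * τ * τ) (Q false) := next N2 f4 hc (by
      rw [X2, Y2]; intro h0; exact n1 (by linear_combination h0 - hs2))
    have f6 : s ∈ cj (τ * τ * τ) (centralizer (W : Set G)) := by
      refine h.mem_cen N3 ha q6 hc ?_ ?_ (Or.inl ?_) (Or.inr ?_)
      · rw [X3, Y3]; exact fun h0 => n1 h0.symm
      · rw [X3, Y3]; intro h0; exact n5 (by linear_combination h0)
      · rw [X3, Y3]; intro h0; exact n6 (by linear_combination h0)
      · intro z hz
        apply w4
        have h1 : cj (n false) O ≤ cj (n false * n true) W := by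
          rw [cj_mul]; exact cj_mono h.O_le
        have h2 := cj_mono (g := τ * τ * τ) h1 hz
        rw [← cj_mul] at h2
        have h3 : cj (τ * τ * τ * (n false * n true)) W = cj (τ * τ) W := by
          have e : τ * τ * τ * (n false * n true) = τ * τ *
              ((n true * (n false * n false) * (n true)⁻¹) * (n true * n true)) := by
            rw [hτ]; group
          rw [e, cj_mul]
          congr 1
          apply h.cj_W
          refine h.B_le false (mul_mem ?_ (h.sq_mem true))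
          have e2 : n true * (n false * n false) * (n true)⁻¹ = (n true * n true) *
              ((n true)⁻¹ * (n false * n false) * n true) * (n true * n true)⁻¹ := by group
          rw [e2]
          exact mul_mem (mul_mem (h.sq_mem true)
            (h.conj_H₁ true (h.sq_mem false) (h.sq_norm false))) (inv_mem (h.sq_mem true))
        rwa [h3] at h2
    -- `u₈`
    have q8 : s ∈ cj (τ * τ * τ * τ) (Q false) := next N3 f6 hc (by
      rw [X3, Y3]; intro h0; exact h.th_ne (by linear_combination h0))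
    have f8 : s ∈ cj (τ * τ * τ * τ) (centralizer (W : Set G)) := by
      refine h.mem_cen N4 ha q8 hc ?_ ?_ (Or.inl ?_) (Or.inl ?_) <;> rw [X4, Y4]
      · intro h0; exact n1 (by linear_combination -h0)
      · intro h0; exact n1 (by linear_combination h0)
      · intro h0; exact n5 (by linear_combination -h0)
      · intro h0; exact n5 (by linear_combination h0)
    -- `u₂`
    have f2 : s ∈ cj τ (centralizer (W : Set G)) := by
      refine h.mem_cen N1 ha (h.E_le₂ hs) hc ?_ ?_ (Or.inr ?_) (Or.inl ?_)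
      · rw [X1, Y1]; intro h0; exact n5 (by linear_combination h0)
      · rw [X1, Y1]; intro h0; exact n1 (by linear_combination -h0)
      · intro z hz
        apply w4
        have h2 := cj_mono (g := τ) h.O_le hz
        rw [← cj_mul, ← h.cj_tau_W] at h2
        exact h2
      · rw [X1, Y1]; intro h0; exact n6 (by linear_combination h0)
    exact ⟨f2, f6, f8⟩
  -- shift to the chamber `B`
  have hD : cj (τ * τ)⁻¹ (h.E ⊓ cj (τ * τ) (Q false)) = ⊥ := by
    have tr : ∀ {g : G}, (∀ s ∈ h.E, s ∈ cj (τ * τ) (Q false) → s ∈ cj (τ * τ * g)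
        (centralizer (W : Set G))) → ∀ d ∈ cj (τ * τ)⁻¹ (h.E ⊓ cj (τ * τ) (Q false)),
        ∀ w ∈ cj g W, d * w = w * d := by
      intro g hg d hd w hw
      rw [mem_cj, inv_inv] at hd
      have h1 := cenW (hg _ hd.1 hd.2) (τ * τ * w * (τ * τ)⁻¹) (by
        rw [cj_mul]; exact conj_mem_cj hw)
      have e1 : d * w = (τ * τ)⁻¹ * ((τ * τ) * d * (τ * τ)⁻¹ * (τ * τ * w * (τ * τ)⁻¹)) * (τ * τ) := by
        group
      have e2 : w * d = (τ * τ)⁻¹ * ((τ * τ * w * (τ * τ)⁻¹) * ((τ * τ) * d * (τ * τ)⁻¹)) * (τ * τ) := by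
        group
      rw [e1, e2, h1]
    refine h.gen ?_ (tr fun s hs hq => ?_) (tr fun s hs hq => ?_) (tr fun s hs hq => ?_)
    · intro d hd
      rw [mem_cj, inv_inv] at hd
      have h2 := mem_cj.1 hd.2
      have e : (τ * τ)⁻¹ * (τ * τ * d * (τ * τ)⁻¹) * (τ * τ) = d := by group
      rw [e] at h2
      exact h.S_le (h.Q_le false h2)
    · have e : τ * τ * τ⁻¹ = τ := by group
      rw [e]
      exact (key s hs hq).1
    · exact (key s hs hq).2.1
    · rw [← mul_assoc]
      exact (key s hs hq).2.2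
  have := congrArg (cj (τ * τ)) hD
  rwa [cj_cj_inv, cj_bot] at this

end ess

end Oct

end Cfsg.Agent.Omega.TwoFFour
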