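import Cfsg.Agent.Omega.TwoFFour.Inv

/-!
# THEOREM 2F4: the involutions of `C(W)` lie in `W`, end

`DD = F₀ ∩ F₂ ∩ Q₄ ∩ Q₅ ∩ Q₋₂ = 1`; `F₀ ∩ F₂ ≤ W`; `F₀ = W E`.
-/

set_option autoImplicit false
set_option linter.unusedSectionVars false

namespace Cfsg.Agent.Omega.TwoFFour

open Subgroup Cfsg.Agent.Omega.BTwo Cfsg.Agent.RankTwoClose

namespace Oct

variable {G : Type*} [Group G] {P Q : Bool → Subgroup G} {n : Bool → G} {B S H Z W O : Subgroup G}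
  {N : ℕ} {θ : ZMod N} {x y : G → ZMod N}

section dd

variable [Finite G] (h : Oct P Q n B S H Z W O θ x y)
include h

/-- `F₀ ∩ F₂ ∩ Q₄ ∩ Q₅ ∩ Q₋₂` -/
def DD (_ : Oct P Q n B S H Z W O θ x y) : Subgroup G :=
  ((centralizer (W : Set G) ⊓ cj (n true) (centralizer (W : Set G))) ⊓
    (cj ((n true * n false) * (n true * n false)) (Q false) ⊓
      cj ((n true * n false) * (n true * n false)) (Q true))) ⊓ cj (n true * n false)⁻¹ (Q false)

/-- the elements `t` of `H` with `c χ₀ + d χ₂ = 0` -/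
def ker (c d : ZMod N) : Subgroup G where
  carrier := {t | t ∈ H ∧ c * x t + d * y t = 0}
  one_mem' := ⟨one_mem _, by rw [h.x_one, h.y_one]; ring⟩
  mul_mem' := by
    rintro a b ⟨ha, ha'⟩ ⟨hb, hb'⟩
    refine ⟨mul_mem ha hb, ?_⟩
    rw [h.x_mul a ha b hb, h.y_mul a ha b hb]
    linear_combination ha' + hb'
  inv_mem' := by
    rintro a ⟨ha, ha'⟩
    refine ⟨inv_mem ha, ?_⟩
    rw [h.x_inv ha, h.y_inv ha]
    linear_combination -ha'

theorem DD_S : h.DD ≤ S := fun _ hs => h.Q_le false (h.W_cen false hs.1.1.1)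

theorem F_nrm {g t s : G} (ht : t ∈ cj g B) (hs : s ∈ cj g (centralizer (W : Set G))) :
    t * s * t⁻¹ ∈ cj g (centralizer (W : Set G)) := h.nrm_cj (fun _ hb => h.cj_F (h.B_le false hb)) ht hs

theorem Q_nrm' (i : Bool) {g t s : G} (ht : t ∈ cj g B) (hs : s ∈ cj g (Q i)) :
    t * s * t⁻¹ ∈ cj g (Q i) := h.nrm_cj (fun _ hb => h.cj_Q' i hb) ht hs

theorem DD_H : ∀ a ∈ H, ∀ s ∈ h.DD, a * s * a⁻¹ ∈ h.DD := by
  rintro a ha s ⟨⟨⟨h1, h2⟩, h3, h4⟩, h5⟩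
  have N1 := h.tau_norm
  refine ⟨⟨⟨?_, h.F_nrm (h.H_cj (h.n_norm true) ha) h2⟩, h.Q_nrm' false (h.H_cj (mul_mem N1 N1) ha) h3,
    h.Q_nrm' true (h.H_cj (mul_mem N1 N1) ha) h4⟩, h.Q_nrm' false (h.H_cj (inv_mem N1) ha) h5⟩
  have h6 := h.F_nrm (g := 1) (by rw [cj_one]; exact h.H_le ha) (by rw [cj_one]; exact h1)
  rwa [cj_one] at h6

theorem DD_W {s : G} (hs : s ∈ h.DD) : ∀ z ∈ W, s * z = z * s := fun z hz =>
  (mem_centralizer_iff.1 hs.1.1.1 z hz).symm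

/-- `C_{DD}(A₀) = 1` -/
theorem fix₀ : ∀ s ∈ h.DD, (∀ a ∈ h.A, a * s = s * a) → s = 1 := by
  intro s hs ha
  have h1 : s ∈ h.E ⊓ cj ((n true * n false) * (n true * n false)) (Q false) :=
    ⟨h.mem_E.2 ⟨h.DD_S hs, ha⟩, hs.1.2.1⟩
  rwa [h.E_inf, mem_bot] at h1

/-- `C_{DD}(A₂) = 1` -/
theorem fix₂ : ∀ s ∈ h.DD, (∀ a ∈ h.ker 0 1, a * s = s * a) → s = 1 := by
  intro s hs ha
  have h1 : n true * s * (n true)⁻¹ ∈ h.E ⊓ cj ((n true * n false) * (n true * n false)) (Q false) := by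
    refine ⟨h.mem_E.2 ⟨h.Q_le true (h.Q_nrm true _ (h.n_mem true) _ (h.W_cen true hs.1.1.1)), ?_⟩, ?_⟩
    · intro a haA
      have h2 := ha ((n true)⁻¹ * a * n true) ⟨h.n_conj' true haA.1, by
        rw [h.y₁ a haA.1, haA.2]; ring⟩
      have e1 : a * (n true * s * (n true)⁻¹) = n true * ((n true)⁻¹ * a * n true * s) * (n true)⁻¹ := by group
      have e2 : n true * s * (n true)⁻¹ * a = n true * (s * ((n true)⁻¹ * a * n true)) * (n true)⁻¹ := by group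
      rw [e1, e2, h2]
    · rw [← h.cj_X₄ (X := Q false) (fun p hp => h.cj_Q false hp)]
      exact conj_mem_cj hs.2
  rw [h.E_inf, mem_bot] at h1
  have e : s = (n true)⁻¹ * (n true * s * (n true)⁻¹) * n true := by group
  rw [e, h1]; group

/-- `fixZ` at the vertex `g u₀` -/
theorem fixZ' {g a s : G} (hg : g ∈ normalizer (H : Set G)) (ha : a ∈ H) (hs : s ∈ cj g (Q false))
    (hc : a * s = s * a) (c1 : y (g⁻¹ * a * g) ≠ x (g⁻¹ * a * g)) :
    ∀ z ∈ cj (g * n true) Z, s * z = z * s := by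
  intro z hz
  rw [cj_mul] at hz
  have h1 := h.fixZ _ (h.H_conj hg ha) _ (mem_cj.1 hs) (by
    have e1 : g⁻¹ * a * g * (g⁻¹ * s * g) = g⁻¹ * (a * s) * g := by group
    have e2 : g⁻¹ * s * g * (g⁻¹ * a * g) = g⁻¹ * (s * a) * g := by group
    rw [e1, e2, hc]) c1 _ (mem_cj.1 hz)
  have e1 : s * z = g * (g⁻¹ * s * g * (g⁻¹ * z * g)) * g⁻¹ := by group
  have e2 : z * s = g * (g⁻¹ * z * g * (g⁻¹ * s * g)) * g⁻¹ := by group
  rw [e1, e2, h1]

theorem fixO' {g a s : G} (hg : g ∈ normalizer (H : Set G)) (ha : a ∈ H) (hs : s ∈ cj g (Q false))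
    (hc : a * s = s * a)
    (c3 : (θ - 1) * (x (g⁻¹ * a * g) + y (g⁻¹ * a * g)) ≠ x (g⁻¹ * a * g)) :
    ∀ z ∈ cj g O, s * z = z * s := by
  intro z hz
  have h1 := h.fixO _ (h.H_conj hg ha) _ (mem_cj.1 hs) (by
    have e1 : g⁻¹ * a * g * (g⁻¹ * s * g) = g⁻¹ * (a * s) * g := by group
    have e2 : g⁻¹ * s * g * (g⁻¹ * a * g) = g⁻¹ * (s * a) * g := by group
    rw [e1, e2, hc]) c3 _ (mem_cj.1 hz)
  have e1 : s * z = g * (g⁻¹ * s * g * (g⁻¹ * z * g)) * g⁻¹ := by group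
  have e2 : z * s = g * (g⁻¹ * z * g * (g⁻¹ * s * g)) * g⁻¹ := by group
  rw [e1, e2, h1]

/-- words -/
theorem cj_τ {X : Subgroup G} (hX : ∀ p ∈ P false, cj p X = X) : cj (n true * n false) X = cj (n true) X := by
  rw [cj_mul, hX _ (h.n_mem false)]

theorem cj_mid {X : Subgroup G} (hX : ∀ p ∈ P false, cj p X = X) (g : G) :
    cj (g * (n true * n false) * n false * n true) X = cj g X := by
  have e : g * (n true * n false) * n false * n true = g * (n true * n false * n false * n true) := by group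
  rw [e, cj_mul, hX _ (h.B_le false h.mem_mid)]

end dd

section ddk

variable [Finite G] (h : Oct P Q n B S H Z W O θ x y) (k : Ext Q n S H Z W O θ x y)
include h k

theorem trivO' {g t s : G} (hg : g ∈ normalizer (H : Set G)) (ht : t ∈ H)
    (hw : (θ - 1) * (x (g⁻¹ * t * g) + y (g⁻¹ * t * g)) = x (g⁻¹ * t * g)) (hs : s ∈ cj g (Q false)) :
    ∀ z ∈ cj g O, (t * s * t⁻¹ * s⁻¹) * z = z * (t * s * t⁻¹ * s⁻¹) := by
  intro z hz
  have h1 := k.trivO _ (h.H_conj hg ht) hw _ (mem_cj.1 hs) _ (mem_cj.1 hz)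
  have e1 : t * s * t⁻¹ * s⁻¹ * z = g * (g⁻¹ * t * g * (g⁻¹ * s * g) * (g⁻¹ * t * g)⁻¹ * (g⁻¹ * s * g)⁻¹ *
      (g⁻¹ * z * g)) * g⁻¹ := by group
  have e2 : z * (t * s * t⁻¹ * s⁻¹) = g * (g⁻¹ * z * g * (g⁻¹ * t * g * (g⁻¹ * s * g) * (g⁻¹ * t * g)⁻¹ *
      (g⁻¹ * s * g)⁻¹)) * g⁻¹ := by group
  rw [e1, e2, h1]

theorem O_le_W' (g : G) : cj (g * (n true * n false) * n false) O ≤ cj g W := by
  have h1 := cj_mono (g := g * (n true * n false) * n false) h.O_le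
  rwa [← cj_mul, h.cj_mid (fun p hp => h.cj_W hp)] at h1

/-- `DD ≤ F₄` -/
theorem DD_F₄ : h.DD ≤ cj ((n true * n false) * (n true * n false)) (centralizer (W : Set G)) := by
  have N2 : (n true * n false) * (n true * n false) ∈ normalizer (H : Set G) := mul_mem h.tau_norm h.tau_norm
  set τ := n true * n false with hτ
  refine h.cop (A := h.ker 0 1) (fun t ht => ht.1) h.DD_S h.DD_H
    (fun a ha s hs => h.F_nrm (h.H_cj N2 ha) hs)
    (fun s hs r hr => h.F_nrm (cj_mono ((h.Q_le false).trans h.S_le) hs.1.2.1) hr) ?_ h.fix₂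
  intro t ht s hs
  have hts : t * s * t⁻¹ * s⁻¹ ∈ h.DD := mul_mem (h.DD_H t ht.1 s hs) (inv_mem hs)
  refine h.mem_cj_cen (h.comm_Z (cj_mono (h.Q_le false) hts.1.2.1)) (h.comm_Z (h.Q₁_le _ hts.1.2.2)) ?_ ?_ ?_
  · intro z hz
    rw [h.cj_mid (fun p hp => h.cj_Z hp), h.cj_τ (fun p hp => h.cj_Z hp)] at hz
    exact h.DD_W hts z (k.Z₂_W hz)
  · refine h.trivO' k N2 ht.1 ?_ hs.1.2.1
    rw [h.x_mul_tau h.tau_norm ht.1, h.y_mul_tau h.tau_norm ht.1, h.x_tau ht.1, h.y_tau ht.1]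
    have h0 : y t = 0 := by linear_combination ht.2
    rw [h0]
    linear_combination (-x t) * h.sq
  · intro z hz
    refine h.comm_W hts.1.1.2 z ?_
    have h1 := h.O_le_W' k τ hz
    rwa [h.cj_τ (fun p hp => h.cj_W hp)] at h1

/-- `DD ≤ Q₆` -/
theorem DD_Q₆ : h.DD ≤ cj ((n true * n false) * (n true * n false) * n true) (Q false) := by
  have N2 : (n true * n false) * (n true * n false) ∈ normalizer (H : Set G) := mul_mem h.tau_norm h.tau_norm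
  have N3 : (n true * n false) * (n true * n false) * n true ∈ normalizer (H : Set G) :=
    mul_mem N2 (h.n_norm true)
  refine h.cop (A := h.ker 0 1) (fun t ht => ht.1) h.DD_S h.DD_H
    (fun a ha s hs => h.Q_nrm' false (h.H_cj N3 ha) hs)
    (fun s hs r hr => h.Q_nrm' false (cj_mono h.S_le (h.Q₁_le _ hs.1.2.2)) hr) ?_ h.fix₂
  intro t ht s hs
  refine h.triv' false N3 ht.1 ?_ (h.Q₁_le _ hs.1.2.2)
  show θ * y _ - x _ = 0
  rw [h.x_mul_n N2 ht.1, h.y_mul_n N2 ht.1, h.x_mul_tau h.tau_norm ht.1, h.y_mul_tau h.tau_norm ht.1,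
    h.x_tau ht.1, h.y_tau ht.1]
  have h0 : y t = 0 := by linear_combination ht.2
  rw [h0]
  ring

/-- `C_{DD}(A₁) = 1` -/
theorem fix₁ : ∀ s ∈ h.DD, (∀ a ∈ h.ker 1 1, a * s = s * a) → s = 1 := by
  intro s₀ hs₀ hs₀'
  have N1 := h.tau_norm
  have N2 : (n true * n false) * (n true * n false) ∈ normalizer (H : Set G) := mul_mem N1 N1
  have N3 : (n true * n false) * (n true * n false) * (n true * n false) ∈ normalizer (H : Set G) := mul_mem N2 N1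
  obtain ⟨a, ha, ax, ay⟩ := h.surj 1 (-1)
  have n1 := h.one_ne
  have hsq := h.sq
  set τ := n true * n false with hτ
  set K : Subgroup G := h.DD ⊓ centralizer (h.ker 1 1 : Set G) with hK
  have hKa : ∀ s ∈ K, a * s = s * a := fun s hs =>
    mem_centralizer_iff.1 hs.2 a ⟨ha, by rw [ax, ay]; ring⟩
  -- `K ≤ F₆`
  have hF6 : ∀ s ∈ K, s ∈ cj (τ * τ * τ) (centralizer (W : Set G)) := by
    intro s hs
    have hq : s ∈ cj (τ * τ * τ) (Q false) := by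
      rw [h.cj_tau_Q]; exact h.DD_Q₆ k hs.1
    have x3 : x ((τ * τ * τ)⁻¹ * a * (τ * τ * τ)) = -θ - 1 := by
      rw [h.x_mul_tau N2 ha, h.y_mul_tau N1 ha, h.x_tau ha, h.y_tau ha, ax, ay]
      linear_combination -hsq
    have y3 : y ((τ * τ * τ)⁻¹ * a * (τ * τ * τ)) = -1 := by
      rw [h.y_mul_tau N2 ha, h.y_mul_tau N1 ha, h.x_mul_tau N1 ha, h.x_tau ha, h.y_tau ha, ax, ay]
      linear_combination (-θ - 1) * hsq
    refine h.mem_cj_cen (h.comm_Z (cj_mono (h.Q_le false) hq)) (h.fixZ' N3 ha hq (hKa s hs) ?_) ?_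
      (h.fixO' N3 ha hq (hKa s hs) ?_) ?_
    · rw [x3, y3]
      intro h0
      exact h.th_ne (by linear_combination h0)
    · rw [h.cj_mid (fun p hp => h.cj_Z hp)]
      exact h.comm_Z (cj_mono (h.Q_le false) hs.1.1.2.1)
    · rw [x3, y3]
      intro h0
      exact n1 (by linear_combination h0 + hsq)
    · intro z hz
      exact h.comm_W (h.DD_F₄ k hs.1) z (h.O_le_W' k (τ * τ) hz)
  have tr : ∀ {g : G} {d w : G}, d ∈ cj τ⁻¹ K → (∀ s ∈ K, s ∈ cj (τ * g) (centralizer (W : Set G))) →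
      w ∈ cj g W → d * w = w * d := by
    intro g d w hd hg hw
    rw [mem_cj, inv_inv] at hd
    have h1 := h.comm_W (hg _ hd) (τ * w * τ⁻¹) (by rw [cj_mul]; exact conj_mem_cj hw)
    have e1 : d * w = τ⁻¹ * (τ * d * τ⁻¹ * (τ * w * τ⁻¹)) * τ := by group
    have e2 : w * d = τ⁻¹ * (τ * w * τ⁻¹ * (τ * d * τ⁻¹)) * τ := by group
    rw [e1, e2, h1]
  have hgen : cj τ⁻¹ K = ⊥ := by
    refine h.gen ?_ (fun d hd w hw => tr hd (fun s hs => ?_) hw) (fun d hd w hw => tr hd (fun s hs => ?_) hw)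
      (fun d hd w hw => tr hd (fun s hs => ?_) hw)
    · intro d hd
      rw [mem_cj, inv_inv] at hd
      have h1 : τ * d * τ⁻¹ ∈ cj τ (Q false) := by
        rw [h.cj_τ (fun p hp => h.cj_Q false hp)]
        exact h.F_le_Q false _ hd.1.1.1.2
      rw [mem_cj] at h1
      have e : τ⁻¹ * (τ * d * τ⁻¹) * τ = d := by group
      rw [e] at h1
      exact h.S_le (h.Q_le false h1)
    · rw [mul_inv_cancel, cj_one]
      exact hs.1.1.1.1
    · exact h.DD_F₄ k hs.1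
    · rw [← mul_assoc]
      exact hF6 s hs
  have hKb : K = ⊥ := by
    have := congrArg (cj τ) hgen
    rwa [cj_cj_inv, cj_bot] at this
  have h1 : s₀ ∈ K := ⟨hs₀, mem_centralizer_iff.2 hs₀'⟩
  rwa [hKb, mem_bot] at h1

/-- `DD ≤ Q₋₃` -/
theorem DD_Qm₃ : h.DD ≤ cj ((n true * n false)⁻¹ * n false) (Q true) := by
  have N1 := h.tau_norm
  have N2 : (n true * n false)⁻¹ * n false ∈ normalizer (H : Set G) := mul_mem (inv_mem N1) (h.n_norm false)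
  have hS : h.DD ≤ cj ((n true * n false)⁻¹ * n false) S := by
    intro s hs
    have h1 := hs.2
    have h2 : cj ((n true * n false)⁻¹ * n false) (Q false) = cj (n true * n false)⁻¹ (Q false) := by
      rw [cj_mul, h.cj_Q false (h.n_mem false)]
    rw [← h2] at h1
    exact cj_mono (h.Q_le false) h1
  refine h.cop (A := h.ker 1 1) (fun t ht => ht.1) h.DD_S h.DD_H
    (fun a ha s hs => h.Q_nrm' true (h.H_cj N2 ha) hs)
    (fun s hs r hr => h.Q_nrm' true (cj_mono h.S_le (hS hs)) hr) ?_ (h.fix₁ k)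
  intro t ht s hs
  refine h.triv' true N2 ht.1 ?_ (hS hs)
  show x _ - y _ = 0
  rw [h.x_mul_n₀ (inv_mem N1) ht.1, h.y_mul_n₀ (inv_mem N1) ht.1, h.x_taui ht.1, h.y_taui ht.1]
  linear_combination (θ - 1) * ht.2 - x t * h.sq

/-- `DD ≤ F₋₂` -/
theorem DD_Fm₂ : h.DD ≤ cj (n true * n false)⁻¹ (centralizer (W : Set G)) := by
  have N1 := h.tau_norm
  have N2 : (n true * n false)⁻¹ * n false ∈ normalizer (H : Set G) := mul_mem (inv_mem N1) (h.n_norm false)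
  set τ := n true * n false with hτ
  refine h.cop (A := h.A) (fun t ht => ht.1) h.DD_S h.DD_H
    (fun a ha s hs => h.F_nrm (h.H_cj (inv_mem N1) ha) hs)
    (fun s hs r hr => h.F_nrm (cj_mono ((h.Q_le false).trans h.S_le) hs.2) hr) ?_ h.fix₀
  intro t ht s hs
  have hts : t * s * t⁻¹ * s⁻¹ ∈ h.DD := mul_mem (h.DD_H t ht.1 s hs) (inv_mem hs)
  have e0 : τ⁻¹ * n true = (n false)⁻¹ := by rw [hτ]; group
  refine h.mem_cj_cen (h.comm_Z (cj_mono (h.Q_le false) hts.2)) ?_ (h.comm_Z (h.Q₁_le _ (h.DD_Qm₃ k hts))) ?_ ?_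
  · intro z hz
    rw [e0, h.cj_Z (inv_mem (h.n_mem false))] at hz
    exact h.DD_W hts z (k.Z_W hz)
  · intro z hz
    have h1 := cj_mono (g := τ⁻¹) h.O_le hz
    rw [← cj_mul, e0, h.cj_W (inv_mem (h.n_mem false))] at h1
    exact h.DD_W hts z h1
  · refine h.trivO' k N2 ht.1 ?_ ?_
    · rw [h.x_mul_n₀ (inv_mem N1) ht.1, h.y_mul_n₀ (inv_mem N1) ht.1, h.x_taui ht.1, h.y_taui ht.1, ht.2]
      linear_combination (-y t) * h.sq
    · rw [cj_mul, h.cj_Q false (h.n_mem false)]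
      exact hs.2

theorem DD_eq : h.DD = ⊥ := by
  refine h.gen (fun s hs => h.S_le (h.DD_S hs)) (fun d hd w hw => h.comm_W (h.DD_Fm₂ k hd) w hw)
    (fun d hd w hw => ?_) (fun d hd w hw => h.comm_W (h.DD_F₄ k hd) w hw)
  rw [h.cj_τ (fun p hp => h.cj_W hp)] at hw
  exact h.comm_W hd.1.1.2 w hw

/-- **`F₀ ∩ F₂ ≤ W`** -/
theorem D_le {d : G} (hd : d ∈ centralizer (W : Set G)) (hd' : d ∈ cj (n true) (centralizer (W : Set G))) :
    d ∈ W := by
  have hWF := h.W_le_cen k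
  obtain ⟨z₀, hz₀, h1⟩ := h.step_F k hd hd'
  set d₁ := z₀⁻¹ * d with hd₁
  have hd₁F : d₁ ∈ centralizer (W : Set G) := mul_mem (inv_mem (hWF (k.Z_W hz₀))) hd
  have hd₁F' : d₁ ∈ cj (n true) (centralizer (W : Set G)) :=
    mul_mem (inv_mem (cj_mono hWF (h.Z_le_W₂ k hz₀))) hd'
  obtain ⟨b, hb, hb2, hb4, h2⟩ := h.step_I k h1
  set d₂ := b⁻¹ * d₁ with hd₂
  have hd₂F : d₂ ∈ centralizer (W : Set G) := mul_mem (inv_mem (hWF hb)) hd₁F
  have hd₂F' : d₂ ∈ cj (n true) (centralizer (W : Set G)) := mul_mem (inv_mem (cj_mono hWF hb2)) hd₁F'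
  have hd₂4 : d₂ ∈ cj ((n true * n false) * (n true * n false)) (Q false) := mul_mem (inv_mem hb4) h1
  obtain ⟨z₂, hz₂, h3⟩ := h.step_G k hd₂F hd₂F'
  set d₃ := z₂⁻¹ * d₂ with hd₃
  have hz4 := h.Z₂_le_W₄ k hz₂
  have h4 : d₃ ∈ h.DD := by
    refine mem_inf.2 ⟨mem_inf.2 ⟨mem_inf.2 ⟨mul_mem (inv_mem (hWF (k.Z₂_W hz₂))) hd₂F,
      mul_mem (inv_mem (cj_mono (k.Z_W.trans hWF) hz₂)) hd₂F'⟩,
      mem_inf.2 ⟨mul_mem (inv_mem (h.W_le_Q k false _ hz4)) hd₂4,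
        mul_mem (inv_mem (h.W_le_Q k true _ hz4)) h2⟩⟩, h3⟩
  rw [h.DD_eq k, mem_bot] at h4
  have e : d = z₀ * (b * (z₂ * d₃)) := by
    rw [hd₃, hd₂, hd₁]; group
  rw [e, h4, mul_one]
  exact mul_mem (k.Z_W hz₀) (mul_mem hb (k.Z₂_W hz₂))

/-- **`C(W) = W E`** -/
theorem cen_eq : ∀ f ∈ centralizer (W : Set G), ∃ w ∈ W, ∃ e ∈ h.E, f = w * e := by
  intro f hf
  have hWF := h.W_le_cen k
  obtain ⟨w₁, hw₁, h1⟩ := h.step_A k hf
  obtain ⟨w₂, hw₂, hw₂', h2⟩ := h.step_B k h1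
  have hf1 : w₁⁻¹ * f ∈ centralizer (W : Set G) := mul_mem (inv_mem (hWF hw₁)) hf
  have hf2 : w₂⁻¹ * (w₁⁻¹ * f) ∈ centralizer (W : Set G) := mul_mem (inv_mem (hWF hw₂)) hf1
  obtain ⟨e, he, l, hel, hl, hl', -⟩ := h.step_F₀ k hf2 (mul_mem (inv_mem hw₂') h1) h2
  have hlW : l ∈ W := h.D_le k hl hl'
  refine ⟨w₁ * w₂ * l, mul_mem (mul_mem hw₁ hw₂) hlW, e, he, ?_⟩
  have h3 : l * e = e * l := mem_centralizer_iff.1 (h.E_le_cen he) l hlW
  calc f = w₁ * (w₂ * (w₂⁻¹ * (w₁⁻¹ * f))) := by group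
    _ = w₁ * (w₂ * (e * l)) := by rw [hel]
    _ = w₁ * (w₂ * (l * e)) := by rw [h3]
    _ = w₁ * w₂ * l * e := by group

/-- **the involutions of `C(W)` lie in `W`** -/
theorem mem_W_of_sq : ∀ f ∈ centralizer (W : Set G), f * f = 1 → f ∈ W := by
  intro f hf hff
  obtain ⟨w, hw, e, he, rfl⟩ := h.cen_eq k f hf
  have h3 : w * e = e * w := mem_centralizer_iff.1 (h.E_le_cen he) w hw
  have h4 : e * e = 1 := by
    have h5 : w * w * (e * e) = 1 := by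
      calc w * w * (e * e) = w * (w * e) * e := by group
        _ = w * (e * w) * e := by rw [h3]
        _ = w * e * (w * e) := by group
        _ = 1 := hff
    rwa [k.W_sq w hw, one_mul] at h5
  exact mul_mem hw (k.Z_W (h.E_sq he h4))

end ddk

end Oct

end Cfsg.Agent.Omega.TwoFFour
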