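import Cfsg.Agent.Omega.TwoFFour.Plug
import Cfsg.Agent.Omega.TwoFFour.InvB

/-!
# THEOREM 2F4: `Sit` gives `Ext`; the involutions of `C(W)` lie in `W`
-/

set_option autoImplicit false
set_option linter.unusedSectionVars false

namespace Cfsg.Agent.Omega.TwoFFour

open Subgroup Matrix
open Cfsg.Agent.ZN Cfsg.Agent.MinSimple.VModule Cfsg.Agent.Lib.SL2Mat
open Cfsg.Agent.LieRecognition.SzMatrix (Good Umat Umat_def Dmat Dmat_def W_mul_W theta_ne_zero)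
open Cfsg.Agent.Omega.NatPair (NatMod ap ext2 cj mem_cj)

variable {G : Type*} [Group G]

namespace Sit

variable {F : Type*} [Field F] {θ : F →+* F} {e : ℕ} {H : Good F θ e} {S : Sylow 2 G} {V Z W : Subgroup G}
variable {h : Sit F H S V Z W} {Hh : Subgroup G}

/-- `z ∈ O₁` is an eigenvector of the torus -/
theorem Tor.act_O [Finite G] {t : G} {a l m k : Fˣ} (ht : Tor h t a l m k) {z : G} (hz : z ∈ h.OO) {d : F}
    (hd : (m : F) * (θ k * (k : F)⁻¹) = h.sig d) : h.P.act t (h.P.f z) = h.sig d • h.P.f z := by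
  obtain ⟨hzW, h0, h2, h3⟩ := hz
  rw [← hd, ht.W, mv_D]
  apply ext4
  · show (m : F) * (k * h.P.f z 0) = m * (θ k * (k : F)⁻¹) * h.P.f z 0
    rw [h0]; ring
  · show (m : F) * (θ k * (k : F)⁻¹ * h.P.f z 1) = m * (θ k * (k : F)⁻¹) * h.P.f z 1
    ring
  · show (m : F) * (k * (θ k)⁻¹ * h.P.f z 2) = m * (θ k * (k : F)⁻¹) * h.P.f z 2
    rw [h2]; ring
  · show (m : F) * ((k : F)⁻¹ * h.P.f z 3) = m * (θ k * (k : F)⁻¹) * h.P.f z 3
    rw [h3]; ring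

/-- **`trivO`** -/
theorem triv_O [Finite G] (o : Out h) {t : G} {a l m k : Fˣ} (ht : Tor h t a l m k)
    (hal : θ (a : F) * θ (l : F) = a * (a * l)) {s : G} (hsK : s ∈ h.P.K) (hsZ : s ∈ centralizer (Z : Set G))
    {z : G} (hz : z ∈ h.OO) : (t * s * t⁻¹ * s⁻¹) * z = z * (t * s * t⁻¹ * s⁻¹) := by
  -- the scalar on `O₁` is `sig a`
  have h1 : (m : F) * (θ k * (k : F)⁻¹) = h.sig a := by
    have h2 := h.scal_O o ht
    have h3 : h.sig (θ (a : F) * θ (l : F)) = h.sig a * h.sig (a * l) := by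
      rw [hal, ← map_mul]
    rw [h3] at h2
    have h4 : h.sig ((a : F) * l) ≠ 0 := by
      rw [Ne, map_eq_zero]
      exact mul_ne_zero a.ne_zero l.ne_zero
    exact mul_right_cancel₀ h4 h2
  have hzW := hz.1
  have htC := ht.memB.2
  have h5 : t * s * t⁻¹ ∈ h.P.K := h.P.conj_mem_K htC hsK
  have h6 : t * s * t⁻¹ ∈ centralizer (Z : Set G) := h.C_norm_cZ htC hsZ
  have h7 : h.psi (t * s * t⁻¹) (h.P.f z) = h.psi s (h.P.f z) := by
    have h8 := h.psi_tor hsK hsZ ht (h.P.f z)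
    rw [ht.act_O hz h1, h.psi_smul h5 h6] at h8
    exact mul_left_cancel₀ a.ne_zero h8
  -- `t s t⁻¹` and `s` act alike on `z`
  have h9 : t * s * t⁻¹ * z * (t * s * t⁻¹)⁻¹ * z⁻¹ = s * z * s⁻¹ * z⁻¹ := by
    rw [h.comm_eq h5 h6 hzW, h.comm_eq hsK hsZ hzW, h7]
  have h10 : t * s * t⁻¹ * z * (t * s * t⁻¹)⁻¹ = s * z * s⁻¹ := mul_right_cancel h9
  -- `r = s⁻¹ (t s t⁻¹)` centralises `z`; so does `s r s⁻¹`
  have h11 : s⁻¹ * (t * s * t⁻¹) ∈ h.P.K := mul_mem (inv_mem hsK) h5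
  have h12 : s⁻¹ * (t * s * t⁻¹) ∈ centralizer (Z : Set G) := mul_mem (inv_mem hsZ) h6
  have h13 : s⁻¹ * (t * s * t⁻¹) * z = z * (s⁻¹ * (t * s * t⁻¹)) := by
    calc s⁻¹ * (t * s * t⁻¹) * z = s⁻¹ * (t * s * t⁻¹ * z * (t * s * t⁻¹)⁻¹) * (t * s * t⁻¹) := by group
      _ = s⁻¹ * (s * z * s⁻¹) * (t * s * t⁻¹) := by rw [h10]
      _ = _ := by group
  rw [← h.psi_eq_zero_iff h11 h12 hzW] at h13
  -- conjugation with `s` acts trivially on `W / Z`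
  have hsC := h.cZ_le hsZ
  have h14 := h.psi_conj h11 h12 hsZ (h.P.f z)
  rw [hsK.2, h13] at h14
  have e1 : s * (s⁻¹ * (t * s * t⁻¹)) * s⁻¹ = t * s * t⁻¹ * s⁻¹ := by group
  rw [e1] at h14
  exact (h.psi_eq_zero_iff (mul_mem h5 (inv_mem hsK)) (mul_mem h6 (inv_mem hsZ)) hzW).1 h14

/-- **`sqO`** -/
theorem sq_O [Finite G] (h : Sit F H S V Z W) {s : G} (hs : s ∈ S) (hc : ∀ z ∈ h.OO, s * z = z * s) :
    s * s ∈ h.P.K := by
  obtain ⟨a, b, hab⟩ := h.Ad.exists_U s hs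
  have hsC := h.S_le_C hs
  obtain ⟨z, hz, hzf⟩ := h.P.f_surj ![0, 1, 0, 0]
  have hzO : z ∈ h.OO := ⟨hz, by rw [hzf]; rfl, by rw [hzf]; rfl, by rw [hzf]; rfl⟩
  have h1 : s * z * s⁻¹ = z := by rw [hc z hzO, mul_inv_cancel_right]
  have h2 := h.f_conj hsC hz
  rw [h1, hzf, hab, mv_U] at h2
  have h3 := congrFun h2 0
  have h4 : (0 : F) = 0 + a * 1 + b * 0 + (a * b + a ^ 2 * θ a + θ b) * 0 := h3
  have ha : a = 0 := by linear_combination -h4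
  subst ha
  refine ⟨mul_mem hsC hsC, fun v => ?_⟩
  rw [h.P.act_mul hsC hsC, hab, hab, mv_U0, mv_U0]
  have h2' := H.two
  apply ext4
  · show v 0 + b * v 2 + θ b * v 3 + b * v 2 + θ b * v 3 = v 0
    linear_combination (b * v 2 + θ b * v 3) * h2'
  · show v 1 + b * v 3 + b * v 3 = v 1
    linear_combination (b * v 3) * h2'
  · rfl
  · rfl

/-- **`Sit` gives `Ext`** -/
theorem ext [Finite F] [Finite G] (h : Sit F H S V Z W) {Hh : Subgroup G} (hH : Hall h Hh) {n₀ n₁ : G}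
    (hn₁ : h.Sw n₁) :
    Ext h.QQ (nn n₀ n₁) S Hh Z W h.OO (e : ZMod (Nat.card Fˣ)) h.xw h.yw := by
  have o := h.out
  have hZ₂ : ∀ z ∈ cj n₁ Z, ∃ c, z = h.N.e ![0, c] := by
    intro z hz
    obtain ⟨c, hc⟩ := (h.memZ _).1 (mem_cj.1 hz)
    refine ⟨c, ?_⟩
    have h1 := hn₁ c 0
    rw [hc] at h1
    rw [← h1]; group
  exact
  { Z_W := h.Z_le_W
    Z₂_W := by
      intro z hz
      obtain ⟨c, rfl⟩ := hZ₂ z hz
      exact h.V_le_W (h.e_mem _ _)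
    O_W := fun z hz => hz.1
    W_ab := h.ab
    W_sq := h.sq
    Q_W := fun s hs w hw => h.K_comm hs.2 hw
    Z_inf := by
      rw [eq_bot_iff]
      rintro z ⟨hz, hz'⟩
      obtain ⟨c, rfl⟩ := hZ₂ z hz'
      have h1 := (h.e_memZ 0 c).1 hz
      rw [h1, h.e_zero]
      exact one_mem _
    sqO := fun s hs hc => ⟨S.mul_mem hs hs, h.sq_O hs hc⟩
    trivO := by
      intro t ht hw s hs z hz
      obtain ⟨a, l, m, k, t'⟩ := hH.le ht
      rw [t'.xw_eq, t'.yw_eq] at hw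
      refine triv_O o t' ?_ hs.2 (h.SZ hs.1) hz
      have h2 : dl (thU θ a * thU θ l) = dl (a * (a * l)) := by
        rw [dl_mul, dl_mul, dl_mul, dl_th H, dl_th H]
        linear_combination hw
      exact congrArg Units.val (dl_inj h2) }

/-- **the involutions of `C(W)` lie in `W`** -/
theorem mem_W_of_sq [Finite G] (h : Sit F H S V Z W)
    (hC2 : ∀ v ∈ Z, v ≠ 1 → centralizer ({v} : Set G) ⊓ centralizer (o2 (centralizer ({v} : Set G)) : Set G) ≤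
      o2 (centralizer ({v} : Set G))) :
    ∀ f ∈ centralizer (W : Set G), f * f = 1 → f ∈ W := by
  have := h.finF
  obtain ⟨Hh, hH⟩ := h.out.exists_hall
  obtain ⟨n₁, hn₁, hn₁H⟩ := Hall.exists_n₁ h.out hH
  obtain ⟨n₀, hn₀, hn₀W, hn₀H⟩ := Hall.exists_n₀ h.out hH
  exact (h.oct hC2 hH hn₁ hn₁H hn₀ hn₀W hn₀H).mem_W_of_sq (h.ext hH hn₁)

end Sit

end Cfsg.Agent.Omega.TwoFFour
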