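import Cfsg.Agent.Omega.TwoFFour.Head

/-!
# THEOREM 2F4, (2): (F1) `S = (S ⊓ K_x) C_S(V)` and its consequences

* `exists_K_up` : every transvection `up a` of `V` is induced by an element of `S ⊓ K`;
* `S_decomp` : `S = (S ⊓ K) (S ⊓ C(V))`; `exists_cen_U` : `S ⊓ C(V)` covers `T`;
* `bt_iff` : `n w n⁻¹ ∈ K ↔ f w ∈ M³`, i.e. `W_y ⊓ K_x` is the preimage of `M_y³`;
* `comm_Z`, `comm_one`, `mem_I_of_commute` : the pairing `W_x / W_x³ × W_y³ / I → Z_x`.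
-/

set_option autoImplicit false
set_option linter.unusedSectionVars false

namespace Cfsg.Agent.Omega.TwoFFour

open Subgroup Matrix
open Cfsg.Agent.ZN Cfsg.Agent.MinSimple.VModule Cfsg.Agent.Lib.SL2Mat
open Cfsg.Agent.LieRecognition.SzMatrix (Good Umat Umat_def Dmat Dmat_def)
open Cfsg.Agent.Omega.NatPair (NatMod ap ext2)

theorem surj_theta {F : Type*} [Field F] [Finite F] (θ : F →+* F) : Function.Surjective θ :=
  Finite.surjective_of_injective θ.injective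

/-- a `T`-invariant subgroup of `F⁴` not contained in `M³` contains `M³` -/
theorem ge_three {F : Type*} [Field F] [Finite F] {θ : F →+* F} {e : ℕ} (H : Good F θ e) (X : AddSubgroup (Fin 4 → F))
    (hX : ∀ a b, ∀ v ∈ X, mv (H.U a b) v ∈ X) {v : Fin 4 → F} (hv : v ∈ X) (h3 : v 3 ≠ 0) {w : Fin 4 → F}
    (hw : w 3 = 0) : w ∈ X := by
  have s2 : ∀ y, ∃ u ∈ X, u 3 = 0 ∧ u 2 = y := by
    intro y
    refine ⟨mv (H.U (y / v 3) 0) v - v, X.sub_mem (hX _ _ _ hv) hv, ?_, ?_⟩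
    · rw [mv_U]; simp
    · rw [mv_U]
      simp only [Pi.sub_apply, Matrix.cons_val]
      field_simp
      ring
  have s1 : ∀ y, ∃ u ∈ X, u 3 = 0 ∧ u 2 = 0 ∧ u 1 = y := by
    intro y
    obtain ⟨a, ha⟩ := surj_theta θ y
    obtain ⟨u, hu, hu3, hu2⟩ := s2 1
    refine ⟨mv (H.U a 0) u - u, X.sub_mem (hX _ _ _ hu) hu, ?_, ?_, ?_⟩
    · rw [mv_U]; simp
    · rw [mv_U]; simp [hu3]
    · rw [mv_U]; simp [hu3, hu2, ha]
  have s0 : ∀ y, ∃ u ∈ X, u 3 = 0 ∧ u 2 = 0 ∧ u 1 = 0 ∧ u 0 = y := by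
    intro y
    obtain ⟨u, hu, hu3, hu2, hu1⟩ := s1 1
    refine ⟨mv (H.U y 0) u - u, X.sub_mem (hX _ _ _ hu) hu, ?_, ?_, ?_, ?_⟩
    · rw [mv_U]; simp
    · rw [mv_U]; simp [hu3]
    · rw [mv_U]; simp [hu3, hu2]
    · rw [mv_U]; simp [hu3, hu2, hu1]
  obtain ⟨u, hu, hu3, hu2⟩ := s2 (w 2)
  obtain ⟨u', hu', hu'3, hu'2, hu'1⟩ := s1 (w 1 - u 1)
  obtain ⟨u'', hu'', hu''3, hu''2, hu''1, hu''0⟩ := s0 (w 0 - u 0 - u' 0)
  have : w = u + u' + u'' := by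
    apply ext4
    · simp only [Pi.add_apply, hu''0]; ring
    · simp only [Pi.add_apply, hu''1, hu'1]; ring
    · simp only [Pi.add_apply, hu''2, hu'2, hu2]; ring
    · simp only [Pi.add_apply, hu''3, hu'3, hu3, hw]; ring
  rw [this]
  exact X.add_mem (X.add_mem hu hu') hu''

variable {G : Type*} [Group G]

namespace Sit

variable {F : Type*} [Field F] {θ : F →+* F} {e : ℕ} {H : Good F θ e} {S : Sylow 2 G} {V Z W : Subgroup G}
variable (h : Sit F H S V Z W)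
include h

theorem exists_V (c : F) : ∃ v ∈ V, h.P.f v = ![c, 0, 0, 0] := by
  obtain ⟨w, hw, hf⟩ := h.P.f_surj ![c, 0, 0, 0]
  exact ⟨w, (h.memV w).2 ⟨hw, c, hf⟩, hf⟩

theorem S_comm_Z {s z : G} (hs : s ∈ S) (hz : z ∈ Z) : s * z = z * s := (mem_centralizer_iff.1 (h.SZ hs) z hz).symm

/-- if `S ⊓ K` centralises `V` then it centralises `W` -/
theorem comm_W_of [Finite G] (hcon : ∀ q ∈ S, q ∈ h.P.K → q ∈ centralizer (V : Set G)) {q : G} (hq : q ∈ S)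
    (hqK : q ∈ h.P.K) {w : G} (hw : w ∈ W) : q * w = w * q := by
  let X : AddSubgroup (Fin 4 → F) :=
    { carrier := {v | ∃ w ∈ W, h.P.f w = v ∧ q * w = w * q}
      add_mem' := by
        rintro _ _ ⟨x, hx, rfl, hxq⟩ ⟨y, hy, rfl, hyq⟩
        refine ⟨x * y, mul_mem hx hy, h.f_mul hx hy, ?_⟩
        rw [← mul_assoc, hxq, mul_assoc, hyq, mul_assoc]
      zero_mem' := ⟨1, one_mem _, h.f_one, by rw [mul_one, one_mul]⟩
      neg_mem' := by
        rintro _ ⟨x, hx, rfl, hxq⟩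
        exact ⟨x⁻¹, inv_mem hx, h.P.f_inv hx, by
          have : Commute q x := hxq
          exact this.inv_right⟩ }
  have hX : X = ⊤ := by
    apply span_lines H
    intro A hA c
    obtain ⟨g, hg, hgA⟩ := h.P.exists_ind hA
    obtain ⟨v, hv, hvf⟩ := h.exists_V c
    refine ⟨g * v * g⁻¹, h.conjW hg (h.V_le_W hv), ?_, ?_⟩
    · rw [h.f_conj hg (h.V_le_W hv), hgA, hvf]
      congr 1
      apply ext4 <;> simp
    · -- `g⁻¹ q g` centralises `V`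
      have hR : ((S : Subgroup G) ⊓ h.P.K).map (MulAut.conj g⁻¹).toMonoidHom ≤ h.P.K := by
        rintro _ ⟨y, hy, rfl⟩
        exact h.P.conj_mem_K (inv_mem hg) hy.2
      obtain ⟨x, hx, hxR⟩ := h.sylK.exists_conj_le hR ((S.isPGroup'.to_le inf_le_left).map _)
      have h1 := hxR _ ⟨q, ⟨hq, hqK⟩, rfl⟩
      have h2 : (MulAut.conj g⁻¹).toMonoidHom q = g⁻¹ * q * g := by
        show g⁻¹ * q * g⁻¹⁻¹ = _
        rw [inv_inv]
      rw [h2] at h1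
      have h3 := h.cen_comm (hcon _ h1.1 h1.2) (h.conjV (h.K_le_M hx) hv)
      calc q * (g * v * g⁻¹) = g * x⁻¹ * ((x * (g⁻¹ * q * g) * x⁻¹) * (x * v * x⁻¹)) * x * g⁻¹ := by group
        _ = g * x⁻¹ * ((x * v * x⁻¹) * (x * (g⁻¹ * q * g) * x⁻¹)) * x * g⁻¹ := by rw [h3]
        _ = g * v * g⁻¹ * q := by group
  have h1 : h.P.f w ∈ X := by rw [hX]; exact AddSubgroup.mem_top _
  obtain ⟨w', hw', hf, hc⟩ := h1
  have h2 : w * w'⁻¹ ∈ Z := by
    rw [← h.P.f_ker (mul_mem hw (inv_mem hw')), h.f_mul hw (inv_mem hw'), h.f_inv hw', hf]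
    exact funext fun i => H.add_self _
  have h3 := h.S_comm_Z hq h2
  calc q * w = q * (w * w'⁻¹) * w' := by group
    _ = w * w'⁻¹ * q * w' := by rw [h3]
    _ = w * w'⁻¹ * (q * w') := by group
    _ = w * q := by rw [hc]; group

theorem mem_I_of_commute [Finite G] {n : G} (hn : h.Sw n) {g : G} (hg : g ∈ W)
    (hc : ∀ w ∈ W, n * g * n⁻¹ * w = w * (n * g * n⁻¹)) : g ∈ h.I := by
  refine h.mem_I_of_comm hn hg fun w hw => ?_
  have h1 := h.conjW (h.nn_C hn) hw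
  have h2 := hc _ h1
  calc n * w * n⁻¹ * g = n⁻¹ * (n * n * w * (n * n)⁻¹ * (n * g * n⁻¹)) * n := by group
    _ = n⁻¹ * (n * g * n⁻¹ * (n * n * w * (n * n)⁻¹)) * n := by rw [h2]
    _ = g * (n * w * n⁻¹) := by group

/-- **(F1)**, first step -/
theorem exists_up_ne [Finite G] : ∃ q ∈ S, q ∈ h.P.K ∧ ∃ a ≠ 0, h.Up q a := by
  have := h.finF
  by_contra hcon
  push Not at hcon
  have hcon' : ∀ q ∈ S, q ∈ h.P.K → q ∈ centralizer (V : Set G) := by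
    intro q hq hqK
    obtain ⟨a, ha⟩ := h.exists_up hq
    by_cases ha0 : a = 0
    · rw [ha0] at ha
      exact h.cen_of_up ha
    · exact absurd ha (hcon q hq hqK a ha0)
  obtain ⟨n, hn⟩ := h.exists_sw
  have hinj : Function.Injective (fun p : F × F => h.bt n (h.P.r ![0, 0, p.1, p.2])) := by
    rintro ⟨y, z⟩ ⟨y', z'⟩ he
    have he' : h.bt n (h.P.r ![0, 0, y, z]) = h.bt n (h.P.r ![0, 0, y', z']) := he
    set w := h.P.r ![0, 0, y, z] with hw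
    set w' := h.P.r ![0, 0, y', z'] with hw'
    have hwW : w ∈ W := h.P.r_mem _
    have hwW' : w' ∈ W := h.P.r_mem _
    have h1 : h.bt n (w * w'⁻¹) = 0 := by
      rw [h.bt_mul hn hwW (inv_mem hwW'), h.bt_inv hn hwW', he']
      exact H.add_self _
    have h2 := (h.bt_eq_zero hn (mul_mem hwW (inv_mem hwW'))).1 h1
    have h3 := (h.conj_mem hn (mul_mem hwW (inv_mem hwW'))).1
    have h4 : w * w'⁻¹ ∈ h.I := h.mem_I_of_commute hn (mul_mem hwW (inv_mem hwW'))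
      fun x hx => h.comm_W_of hcon' h3 h2 hx
    obtain ⟨-, h5, h6⟩ := h4
    rw [h.f_mul hwW (inv_mem hwW'), h.f_inv hwW', hw, hw', h.P.f_r, h.P.f_r] at h5 h6
    have h7 : y + y' = 0 := h5
    have h8 : z + z' = 0 := h6
    have h9 := H.add_self y'
    have h10 := H.add_self z'
    ext
    · show y = y'
      linear_combination h7 - h9
    · show z = z'
      linear_combination h8 - h10
  have h1 := Nat.card_le_card_of_injective _ hinj
  rw [Nat.card_prod] at h1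
  have h2 : 1 < Nat.card F := Finite.one_lt_card
  nlinarith

/-- **(F1)** -/
theorem exists_K_up [Finite G] (a : F) : ∃ q ∈ S, q ∈ h.P.K ∧ h.Up q a := by
  have := h.finF
  by_cases ha : a = 0
  · exact ⟨1, one_mem _, one_mem _, ha ▸ h.up_one⟩
  obtain ⟨q, hq, hqK, a₀, ha₀, hqa⟩ := h.exists_up_ne
  obtain ⟨t', ht'⟩ := surj_theta θ (a / a₀)
  obtain ⟨t, rfl⟩ := surj_theta θ t'
  rw [H.sq] at ht'
  have ht : t ≠ 0 := by
    rintro rfl
    rw [zero_pow two_ne_zero] at ht'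
    exact div_ne_zero ha ha₀ ht'.symm
  obtain ⟨g, hg⟩ := h.N.lift (dg t ht)
  have hg' : ∀ x y, g * h.N.e ![x, y] * g⁻¹ = h.N.e ![t * x, t⁻¹ * y] := by
    intro x y
    rw [hg]
    congr 1
    apply ext2 <;> simp [ap]
  have hgC : g ∈ normalizer (Z : Set G) := by
    apply h.mem_C_of
    intro c
    rw [hg', h.e_memZ, mul_zero]
  have hgi : ∀ x y, g⁻¹ * h.N.e ![x, y] * g = h.N.e ![t⁻¹ * x, t * y] := by
    intro x y
    have h1 := hg' (t⁻¹ * x) (t * y)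
    rw [mul_inv_cancel_left₀ ht, inv_mul_cancel_left₀ ht] at h1
    rw [← h1]; group
  have h1 : h.Up (g * q * g⁻¹) a := by
    intro x y
    have e1 : g * q * g⁻¹ * h.N.e ![x, y] * (g * q * g⁻¹)⁻¹ = g * (q * (g⁻¹ * h.N.e ![x, y] * g) * q⁻¹) * g⁻¹ := by
      group
    rw [e1, hgi, hqa, hg', inv_mul_cancel_left₀ ht]
    congr 2
    field_simp
    rw [ht']
    field_simp
  have hL : h.P.K ⊓ h.upGrp ≤ h.upGrp := inf_le_right
  have hQ : Syl2 ((S : Subgroup G) ⊓ h.P.K) (h.P.K ⊓ h.upGrp) :=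
    h.sylK.mono (le_inf inf_le_right (inf_le_left.trans h.S_le_upGrp)) inf_le_left
  obtain ⟨s, hs, hsa, -⟩ := h.exists_of_up' hQ hL ⟨h.P.conj_mem_K hgC hqK, a, h1⟩ h1
  exact ⟨s, hs.1, hs.2, hsa⟩

/-- **(F1)** : `S = (S ⊓ K) (S ⊓ C(V))` -/
theorem S_decomp [Finite G] {s : G} (hs : s ∈ S) : ∃ q ∈ S, q ∈ h.P.K ∧ ∃ c ∈ S, c ∈ centralizer (V : Set G) ∧ s = q * c := by
  obtain ⟨a, ha⟩ := h.exists_up hs
  obtain ⟨q, hq, hqK, hqa⟩ := h.exists_K_up a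
  refine ⟨q, hq, hqK, q⁻¹ * s, mul_mem (inv_mem hq) hs, ?_, by group⟩
  apply h.cen_of_up
  have := h.up_mul (h.up_inv hqa) ha
  rwa [H.add_self] at this

/-- `S ⊓ C(V)` covers `T` -/
theorem exists_cen_U [Finite G] (a b : F) : ∃ s ∈ S, s ∈ centralizer (V : Set G) ∧ h.P.Ind s (H.U a b) := by
  obtain ⟨s, hs, hsU⟩ := h.Ad.surj a b
  obtain ⟨q, hq, hqK, c, hc, hcV, rfl⟩ := h.S_decomp hs
  refine ⟨c, hc, hcV, fun v => ?_⟩
  rw [← hsU, h.P.act_mul (h.S_le_C hq) (h.S_le_C hc), hqK.2]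

theorem W_le_K : W ≤ h.P.K := by
  intro w hw
  rw [h.P.mem_K_iff (h.W_le_C hw)]
  intro x hx
  rw [h.ab w hw x hx, mul_inv_cancel_right, mul_inv_cancel]
  exact one_mem _

theorem bt_of_I [Finite G] {n : G} (hn : h.Sw n) {g : G} (hg : g ∈ h.I) : h.bt n g = 0 :=
  (h.bt_eq_zero hn hg.1).2 (h.W_le_K (h.I_conj' hn hg))

theorem bt_congr [Finite G] {n : G} (hn : h.Sw n) {w w' : G} (hw : w ∈ W) (hw' : w' ∈ W) (hf : h.P.f w = h.P.f w') :
    h.bt n w = h.bt n w' := by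
  have h1 : w * w'⁻¹ ∈ Z := by
    rw [← h.P.f_ker (mul_mem hw (inv_mem hw')), h.f_mul hw (inv_mem hw'), h.f_inv hw', hf]
    exact funext fun i => H.add_self _
  have h2 := h.bt_of_I hn (h.V_le_I (h.Z_le_V h1))
  rw [h.bt_mul hn hw (inv_mem hw'), h.bt_inv hn hw'] at h2
  have h3 := H.add_self (h.bt n w')
  linear_combination h2 - h3

/-- invariance of the kernel of `bt` -/
theorem bt_conj [Finite G] {n : G} (hn : h.Sw n) {g w : G} (hg : g ∈ normalizer (Z : Set G))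
    (hg' : n * g * n⁻¹ ∈ normalizer (Z : Set G)) (hw : w ∈ W) (h0 : h.bt n w = 0) : h.bt n (g * w * g⁻¹) = 0 := by
  rw [h.bt_eq_zero hn hw] at h0
  rw [h.bt_eq_zero hn (h.conjW hg hw)]
  have h1 := h.P.conj_mem_K hg' h0
  have e : n * g * n⁻¹ * (n * w * n⁻¹) * (n * g * n⁻¹)⁻¹ = n * (g * w * g⁻¹) * n⁻¹ := by group
  rwa [e] at h1

/-- elements of `B` fixing `y` acting as `U a b * D k` -/
theorem exists_D' [Finite G] {n : G} (hn : h.Sw n) (k : Fˣ) : ∃ g ∈ normalizer (Z : Set G),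
    n * g * n⁻¹ ∈ normalizer (Z : Set G) ∧ g ∈ normalizer (V : Set G) ∧ ∃ a b, ∀ v, h.P.act g v = mv (H.U a b * H.D k) v := by
  obtain ⟨g, hg, hgD⟩ := h.exists_D k
  have hgn : g * n ∉ normalizer (Z : Set G) := by
    intro hc
    apply h.sw_notin hn
    have : g⁻¹ * (g * n) ∈ normalizer (Z : Set G) := Subgroup.mul_mem _ (inv_mem hg.2) hc
    rwa [inv_mul_cancel_left] at this
  obtain ⟨s, hs, b, hb, e⟩ := h.decomp hn (mul_mem hg.1 (h.sw_mem hn)) hgn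
  have hsC := h.S_le_C hs
  refine ⟨s⁻¹ * g, mul_mem (inv_mem hsC) hg.2, ?_, mul_mem (inv_mem (h.SV hs)) hg.1, ?_⟩
  · have e1 : n * (s⁻¹ * g) * n⁻¹ = n * n * b * (n * n)⁻¹ := by
      have e2 : g = s * n * b * n⁻¹ := by rw [← e]; group
      rw [e2]; group
    rw [e1]
    exact mul_mem (mul_mem (h.nn_C hn) hb.2) (inv_mem (h.nn_C hn))
  · obtain ⟨a, c, hac⟩ := h.Ad.exists_U _ (inv_mem hs)
    refine ⟨a, c, fun v => ?_⟩
    rw [h.P.act_mul (inv_mem hsC) hg.2, hgD, hac, mv_mul]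

/-- `W_y ⊓ K_x` lies over `M_y³` -/
theorem f_three_of_bt [Finite G] {n : G} (hn : h.Sw n) {w : G} (hw : w ∈ W) (h0 : h.bt n w = 0) : h.P.f w 3 = 0 := by
  have := h.finF
  by_contra h3
  let X : AddSubgroup (Fin 4 → F) :=
    { carrier := {v | ∃ w ∈ W, h.bt n w = 0 ∧ h.P.f w = v}
      add_mem' := by
        rintro _ _ ⟨x, hx, hx0, rfl⟩ ⟨y, hy, hy0, rfl⟩
        exact ⟨x * y, mul_mem hx hy, by rw [h.bt_mul hn hx hy, hx0, hy0, add_zero], h.f_mul hx hy⟩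
      zero_mem' := ⟨1, one_mem _, h.bt_one hn, h.f_one⟩
      neg_mem' := by
        rintro _ ⟨x, hx, hx0, rfl⟩
        exact ⟨x⁻¹, inv_mem hx, by rw [h.bt_inv hn hx, hx0], h.P.f_inv hx⟩ }
  have hXU : ∀ a b, ∀ v ∈ X, mv (H.U a b) v ∈ X := by
    rintro a b _ ⟨x, hx, hx0, rfl⟩
    obtain ⟨s, hs, hsV, hsU⟩ := h.exists_cen_U a b
    have hsC := h.S_le_C hs
    exact ⟨s * x * s⁻¹, h.conjW hsC hx, h.bt_conj hn hsC (h.cen_le_C (h.conjC (h.sw_mem hn) hsV)) hx hx0,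
      by rw [h.f_conj hsC hx, hsU]⟩
  have hwX : h.P.f w ∈ X := ⟨w, hw, h0, rfl⟩
  have hX : ∀ v, v ∈ X := by
    intro v
    -- an element of `X` with the same last coordinate
    obtain ⟨u, hu, hu3⟩ : ∃ u ∈ X, u 3 = v 3 := by
      by_cases hv3 : v 3 = 0
      · exact ⟨0, X.zero_mem, by rw [hv3]; rfl⟩
      · obtain ⟨g, hg, hg', -, a, b, hab⟩ := h.exists_D' hn (Units.mk0 (h.P.f w 3 / v 3) (div_ne_zero h3 hv3))
        refine ⟨h.P.f (g * w * g⁻¹), ⟨_, h.conjW hg hw, h.bt_conj hn hg hg' hw h0, rfl⟩, ?_⟩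
        rw [h.f_conj hg hw, hab, mv_mul, mv_U]
        simp only [Matrix.cons_val]
        rw [mv_D]
        simp only [Matrix.cons_val, Units.val_mk0]
        field_simp
    have h4 : v - u ∈ X := ge_three H X hXU hwX h3 (by rw [Pi.sub_apply, hu3, sub_self])
    have h5 := X.add_mem h4 hu
    rwa [sub_add_cancel] at h5
  obtain ⟨x, hx, hx1⟩ := h.bt_surj hn 1
  obtain ⟨y, hy, hy0, hyf⟩ := hX (h.P.f x)
  have h6 := h.bt_congr hn hx hy hyf.symm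
  rw [hx1, hy0] at h6
  exact one_ne_zero h6

/-- `W_y ⊓ K_x` is the preimage of `M_y³` -/
theorem bt_iff [Finite G] {n : G} (hn : h.Sw n) {w : G} (hw : w ∈ W) : h.bt n w = 0 ↔ h.P.f w 3 = 0 := by
  have := h.finF
  refine ⟨h.f_three_of_bt hn hw, fun h3 => ?_⟩
  have hch : ∀ t, ∃ w ∈ W, h.bt n w = t := h.bt_surj hn
  choose u hu hut using hch
  have hwd : ∀ x ∈ W, ∀ y ∈ W, h.bt n x = h.bt n y → h.P.f x 3 = h.P.f y 3 := by
    intro x hx y hy hxy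
    have h1 := h.f_three_of_bt hn (mul_mem hx (inv_mem hy)) (by
      rw [h.bt_mul hn hx (inv_mem hy), h.bt_inv hn hy, hxy]
      exact H.add_self _)
    rw [h.f_mul hx (inv_mem hy), h.f_inv hy, Pi.add_apply] at h1
    have h2 := H.add_self (h.P.f y 3)
    linear_combination h1 - h2
  have hsurj : Function.Surjective (fun t => h.P.f (u t) 3) := by
    intro z
    obtain ⟨x, hx, hxf⟩ := h.P.f_surj ![0, 0, 0, z]
    refine ⟨h.bt n x, ?_⟩
    show h.P.f (u (h.bt n x)) 3 = z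
    rw [hwd _ (hu _) x hx (hut _), hxf]
    rfl
  have hinj := Finite.injective_iff_surjective.2 hsurj
  have h1 : h.P.f (u (h.bt n w)) 3 = h.P.f (u 0) 3 := by
    rw [hwd _ (hu _) w hw (hut _), h3, hwd _ (hu 0) 1 (one_mem _) (by rw [hut, h.bt_one hn]), h.f_one]
    rfl
  exact hinj h1

theorem conj_mem_K_iff [Finite G] {n : G} (hn : h.Sw n) {w : G} (hw : w ∈ W) : n * w * n⁻¹ ∈ h.P.K ↔ h.P.f w 3 = 0 :=
  (h.bt_eq_zero hn hw).symm.trans (h.bt_iff hn hw)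

/-- `[W_y³, W_x] ≤ Z_x` -/
theorem comm_Z [Finite G] {n : G} (hn : h.Sw n) {x w : G} (hx : x ∈ W) (hx3 : h.P.f x 3 = 0) (hw : w ∈ W) :
    n * x * n⁻¹ * w * (n * x * n⁻¹)⁻¹ * w⁻¹ ∈ Z := h.K_comm ((h.conj_mem_K_iff hn hx).2 hx3) hw

/-- `[W_y³, W_x³] = 1` -/
theorem comm_one [Finite G] {n : G} (hn : h.Sw n) {x w : G} (hx : x ∈ W) (hx3 : h.P.f x 3 = 0) (hw : w ∈ W)
    (hw3 : h.P.f w 3 = 0) : n * x * n⁻¹ * w = w * (n * x * n⁻¹) := by
  have h1 := h.comm_Z hn hx hx3 hw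
  have h2 := h.comm_Z (h.sw_inv hn) hw hw3 hx
  obtain ⟨c, hc⟩ := (h.memZ _).1 h1
  obtain ⟨d, hd⟩ := (h.memZ _).1 (inv_mem h2)
  have h3 := hn d 0
  rw [hd] at h3
  have e : n * (n⁻¹ * w * n⁻¹⁻¹ * x * (n⁻¹ * w * n⁻¹⁻¹)⁻¹ * x⁻¹)⁻¹ * n⁻¹ =
    n * x * n⁻¹ * w * (n * x * n⁻¹)⁻¹ * w⁻¹ := by group
  rw [e, ← hc] at h3
  have h4 := (h.e_inj h3).1
  rw [h4, h.e_zero] at hc
  calc n * x * n⁻¹ * w = (n * x * n⁻¹ * w * (n * x * n⁻¹)⁻¹ * w⁻¹) * (w * (n * x * n⁻¹)) := by group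
    _ = w * (n * x * n⁻¹) := by rw [← hc, one_mul]

end Sit

end Cfsg.Agent.Omega.TwoFFour
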