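import Cfsg.Agent.Omega.FFThm
import Cfsg.Agent.Omega.TTn.DiCoreAbs
import Cfsg.Agent.Involutions.NormalFour

/-!
# (F1) for `²F₄(q)` (text #13707, referee #14126): the abstract form

`Fam S W V Z Λ` : `Λ` is a family of elementary abelian subgroups `E ≤ S` which act on the abelian group
`W ≥ Z = Ω₁(Z(S))` as full root groups of transvections: `[W,E] ≤ Z`, the commutator map `E × W → Z` is regular
in both variables; the family is normalised by `S` and separates the points of `W/Z`; `C_{W/Z}(S) ≤ V/Z`.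

`Fam.zl_le` : `V_P ≤ V` for every `P ∈ P*(S)` with `V_P ≤ W` (`|Z| ≥ 4`), by the FF theorem `FFThm.Stmt`.
-/

set_option autoImplicit false
set_option linter.unusedSectionVars false
set_option linter.dupNamespace false

namespace Cfsg.Agent.Omega.TwoFFour.Fam

open Subgroup Cfsg Cfsg.Agent.ZN Cfsg.Agent.Omega.MinPar
open Cfsg.Agent.MinSimple.VModule (oddGen le_normalizer_zl zc_le_zl)
open Cfsg.Agent.Omega.FrameFF (cv)
open Cfsg.Agent.Omega.FFThm (Off NoOver NatK SymK ActsSL ActsSym)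
open Cfsg.Agent.Omega.NatPair (ap)
open Cfsg.Agent.Lib.SL2Mat

universe u

structure Fam {G : Type u} [Group G] (S W V Z : Subgroup G) (Λ : Set (Subgroup G)) : Prop where
  W_comm : ∀ x ∈ W, ∀ y ∈ W, x * y = y * x
  Z_le : Z ≤ W
  Z_cen : ∀ z ∈ Z, ∀ s ∈ S, s * z = z * s
  Z_card : 4 ≤ Nat.card Z
  E_le : ∀ E ∈ Λ, E ≤ S
  E_el : ∀ E ∈ Λ, IsElementaryAbelian 2 E
  E_Z : ∀ E ∈ Λ, ∀ a ∈ E, ∀ w ∈ W, a * w * a⁻¹ * w⁻¹ ∈ Z
  reg : ∀ E ∈ Λ, ∀ a ∈ E, ∀ w ∈ W, a * w = w * a → (∀ x ∈ W, a * x = x * a) ∨ ∀ b ∈ E, b * w = w * b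
  onto : ∀ E ∈ Λ, ∀ w ∈ W, (∃ b ∈ E, b * w ≠ w * b) → ∀ z ∈ Z, ∃ a ∈ E, a * w * a⁻¹ * w⁻¹ = z
  S_inv : ∀ E ∈ Λ, ∀ s ∈ S, ∃ E' ∈ Λ, ∀ a ∈ E, s * a * s⁻¹ ∈ E'
  sep : ∀ w ∈ W, (∀ E ∈ Λ, ∀ a ∈ E, a * w = w * a) → w ∈ Z
  fix : ∀ w ∈ W, (∀ s ∈ S, s * w * s⁻¹ * w⁻¹ ∈ Z) → w ∈ V

/-! ### generalities -/

section gen

variable {G : Type u} [Group G]

theorem comm_iff {a w : G} : a * w * a⁻¹ * w⁻¹ = 1 ↔ a * w = w * a := by
  rw [mul_inv_eq_one, mul_inv_eq_iff_eq_mul]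

theorem card_eq_of_surj {A B : Type*} [Group A] [Group B] [Finite A] (f : A →* B)
    (hf : Function.Surjective f) : Nat.card A = Nat.card B * Nat.card f.ker := by
  have h1 := f.ker.card_mul_index
  rw [Subgroup.index_ker, MonoidHom.range_eq_top.2 hf, Subgroup.card_top] at h1
  rw [← h1, mul_comm]

theorem card_le_of_hom {A B : Type*} [Group A] [Group B] [Finite A] [Finite B] (f : A →* B) :
    Nat.card A ≤ Nat.card B * Nat.card f.ker := by
  have h1 := f.ker.card_mul_index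
  rw [Subgroup.index_ker] at h1
  rw [← h1, mul_comm]
  exact Nat.mul_le_mul_right _ (Subgroup.card_le_card_group _)

theorem surj_of_card {A B : Type*} [Group A] [Group B] [Finite A] [Finite B] (f : A →* B)
    (h : Nat.card B * Nat.card f.ker ≤ Nat.card A) : Function.Surjective f := by
  have h1 := f.ker.card_mul_index
  rw [Subgroup.index_ker] at h1
  rw [← h1, mul_comm] at h
  have h2 := Nat.le_of_mul_le_mul_left h Nat.card_pos
  rw [← MonoidHom.range_eq_top]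
  exact Subgroup.eq_top_of_le_card _ h2

/-- a fixed point of `S` on `Q/M` -/
theorem exists_fix_mod [Finite G] {S M Q : Subgroup G} (hS : IsPGroup 2 S) (hMS : M ≤ S) (hQS : Q ≤ S)
    (hM : S ≤ normalizer (M : Set G)) (hQ : S ≤ normalizer (Q : Set G)) (hQM : ¬ Q ≤ M) :
    ∃ x ∈ Q, x ∉ M ∧ ∀ s ∈ S, s * x * s⁻¹ * x⁻¹ ∈ M := by
  have hp : Fact (Nat.Prime 2) := ⟨Nat.prime_two⟩
  have hMn : (M.subgroupOf S).Normal := (normal_subgroupOf_iff_le_normalizer hMS).2 hM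
  have hQn : (Q.subgroupOf S).Normal := (normal_subgroupOf_iff_le_normalizer hQS).2 hQ
  let p := QuotientGroup.mk' (M.subgroupOf S)
  have hp1 : Function.Surjective p := QuotientGroup.mk'_surjective _
  have hpk : ∀ y : S, p y = 1 → (y : G) ∈ M := fun y hy => (QuotientGroup.eq_one_iff y).1 hy
  have hN : ((Q.subgroupOf S).map p).Normal := hQn.map p hp1
  have hne : (Q.subgroupOf S).map p ≠ ⊥ := by
    intro h0
    apply hQM
    intro x hx
    have hxS := hQS hx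
    have h1 : p ⟨x, hxS⟩ ∈ (Q.subgroupOf S).map p := ⟨⟨x, hxS⟩, hx, rfl⟩
    rw [h0, mem_bot] at h1
    exact hpk _ h1
  have hSp : IsPGroup 2 (S ⧸ M.subgroupOf S) := hS.of_surjective p hp1
  obtain ⟨y, hy, hyc, hyo⟩ := Involutions.NormalFour.exists_mem_center_of_normal hSp _ hne
  obtain ⟨⟨x, hxS⟩, hx, rfl⟩ := hy
  refine ⟨x, hx, ?_, ?_⟩
  · intro hxM
    have h1 : p ⟨x, hxS⟩ = 1 := (QuotientGroup.eq_one_iff _).2 hxM
    rw [h1, orderOf_one] at hyo
    omega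
  · intro s hs
    have h1 := (mem_center_iff.1 hyc) (p ⟨s, hs⟩)
    have h2 : p (⟨s, hs⟩ * ⟨x, hxS⟩ * ⟨s, hs⟩⁻¹ * ⟨x, hxS⟩⁻¹) = 1 := by
      rw [map_mul, map_mul, map_mul, map_inv, map_inv, h1]
      group
    exact hpk _ h2

end gen

section fam

variable {G : Type u} [Group G] [Finite G] {S : Sylow 2 G} {W V Z : Subgroup G} {Λ : Set (Subgroup G)}
  (h : Fam (S : Subgroup G) W V Z Λ)

include h

theorem Z_comm {x y : G} (hx : x ∈ Z) (hy : y ∈ Z) : x * y = y * x :=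
  h.W_comm x (h.Z_le hx) y (h.Z_le hy)

/-- `[ab,v] = [a,v][b,v]` -/
theorem comm_mul_left {E : Subgroup G} (hE : E ∈ Λ) {a b v : G} (ha : a ∈ E) (hb : b ∈ E) (hv : v ∈ W) :
    a * b * v * (a * b)⁻¹ * v⁻¹ = (a * v * a⁻¹ * v⁻¹) * (b * v * b⁻¹ * v⁻¹) := by
  have h1 := h.E_Z E hE a ha v hv
  have h2 := h.E_Z E hE b hb v hv
  have h3 := h.Z_cen _ h2 a (h.E_le E hE ha)
  rw [Z_comm h h1 h2]
  calc a * b * v * (a * b)⁻¹ * v⁻¹ = (a * (b * v * b⁻¹ * v⁻¹)) * a⁻¹ * (a * v * a⁻¹ * v⁻¹) := by group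
    _ = ((b * v * b⁻¹ * v⁻¹) * a) * a⁻¹ * (a * v * a⁻¹ * v⁻¹) := by rw [h3]
    _ = _ := by group

/-- `[a,vw] = [a,v][a,w]` -/
theorem comm_mul_right {E : Subgroup G} (hE : E ∈ Λ) {a v w : G} (ha : a ∈ E) (hv : v ∈ W) (hw : w ∈ W) :
    a * (v * w) * a⁻¹ * (v * w)⁻¹ = (a * v * a⁻¹ * v⁻¹) * (a * w * a⁻¹ * w⁻¹) := by
  have h2 := h.E_Z E hE a ha w hw
  have h3 := h.W_comm _ (h.Z_le h2) v hv
  calc a * (v * w) * a⁻¹ * (v * w)⁻¹ = (a * v * a⁻¹) * ((a * w * a⁻¹ * w⁻¹) * v⁻¹) := by group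
    _ = (a * v * a⁻¹ * v⁻¹) * (v * (a * w * a⁻¹ * w⁻¹)) * v⁻¹ := by group
    _ = (a * v * a⁻¹ * v⁻¹) * ((a * w * a⁻¹ * w⁻¹) * v) * v⁻¹ := by rw [h3]
    _ = _ := by group

/-- the commutator map `E → Z`, `a ↦ [a,v]` -/
def homE {E : Subgroup G} (hE : E ∈ Λ) {v : G} (hv : v ∈ W) : E →* Z where
  toFun a := ⟨a * v * (a : G)⁻¹ * v⁻¹, h.E_Z E hE a a.2 v hv⟩
  map_one' := by
    apply Subtype.ext; simp
  map_mul' a b := by
    apply Subtype.ext
    exact comm_mul_left h hE a.2 b.2 hv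

/-- the commutator map `U → Z`, `v ↦ [a,v]`, `U ≤ W` -/
def homW {E : Subgroup G} (hE : E ∈ Λ) {a : G} (ha : a ∈ E) {U : Subgroup G} (hU : U ≤ W) : U →* Z where
  toFun v := ⟨a * v * a⁻¹ * (v : G)⁻¹, h.E_Z E hE a ha v (hU v.2)⟩
  map_one' := by
    apply Subtype.ext; simp
  map_mul' v w := by
    apply Subtype.ext
    exact comm_mul_right h hE ha (hU v.2) (hU w.2)

section U

/-! `U ≤ W` : the subgroup `V_P` -/

variable {U : Subgroup G} (hU : U ≤ W)
include hU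

theorem not_cent {E : Subgroup G} (hE : E ∈ Λ) {a v : G} (ha : a ∈ E) (hv : v ∈ U) (hav : a * v ≠ v * a)
    {e : G} (he : e ∈ E) (hev : e * v = v * e) : e ∈ centralizer (U : Set G) := by
  rw [mem_centralizer_iff]
  rcases h.reg E hE e he v (hU hv) hev with h1 | h1
  · exact fun x hx => (h1 x (hU hx)).symm
  · exact absurd (h1 a ha) hav

theorem card_E {E : Subgroup G} (hE : E ∈ Λ) {a v : G} (ha : a ∈ E) (hv : v ∈ U) (hav : a * v ≠ v * a) :
    Nat.card E = Nat.card Z * Nat.card ↥(E ⊓ centralizer (U : Set G)) := by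
  have h1 : Function.Surjective (homE h hE (hU hv)) := by
    rintro ⟨z, hz⟩
    obtain ⟨b, hb, hbz⟩ := h.onto E hE v (hU hv) ⟨a, ha, hav⟩ z hz
    exact ⟨⟨b, hb⟩, Subtype.ext hbz⟩
  rw [card_eq_of_surj _ h1]
  congr 1
  have h2 : (homE h hE (hU hv)).ker.map E.subtype = E ⊓ centralizer (U : Set G) := by
    ext x
    constructor
    · rintro ⟨y, hy, rfl⟩
      have h3 := comm_iff.1 (congrArg Subtype.val (MonoidHom.mem_ker.1 hy))
      exact mem_inf.2 ⟨y.2, not_cent h hU hE ha hv hav y.2 h3⟩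
    · intro hx
      obtain ⟨hx1, hx2⟩ := mem_inf.1 hx
      exact ⟨⟨x, hx1⟩, MonoidHom.mem_ker.2 (Subtype.ext (comm_iff.2 (mem_centralizer_iff.1 hx2 v hv).symm)), rfl⟩
  rw [← h2, Subgroup.card_map_of_injective E.subtype_injective]

theorem card_ker {E : Subgroup G} (hE : E ∈ Λ) {a : G} (ha : a ∈ E) (haU : a ∉ centralizer (U : Set G)) :
    Nat.card (homW h hE ha hU).ker = Nat.card ↥(U ⊓ centralizer (E : Set G)) := by
  have h2 : (homW h hE ha hU).ker.map U.subtype = U ⊓ centralizer (E : Set G) := by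
    ext x
    constructor
    · rintro ⟨y, hy, rfl⟩
      have h3 := comm_iff.1 (congrArg Subtype.val (MonoidHom.mem_ker.1 hy))
      refine mem_inf.2 ⟨y.2, mem_centralizer_iff.2 ?_⟩
      rcases h.reg E hE a ha y (hU y.2) h3 with h1 | h1
      · exact absurd (mem_centralizer_iff.2 fun x hx => (h1 x (hU hx)).symm) haU
      · exact h1
    · intro hx
      obtain ⟨hx1, hx2⟩ := mem_inf.1 hx
      exact ⟨⟨x, hx1⟩, MonoidHom.mem_ker.2 (Subtype.ext (comm_iff.2 (mem_centralizer_iff.1 hx2 a ha))), rfl⟩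
  rw [← h2, Subgroup.card_map_of_injective U.subtype_injective]

/-- `E` is an offender on `U` -/
theorem off {E : Subgroup G} (hE : E ∈ Λ) {a v : G} (ha : a ∈ E) (hv : v ∈ U) (hav : a * v ≠ v * a) :
    Off U E := by
  have haU : a ∉ centralizer (U : Set G) := fun h1 => hav (mem_centralizer_iff.1 h1 v hv).symm
  refine ⟨h.E_el E hE, fun h1 => haU (h1 ha), ?_⟩
  have h1 := card_E h hU hE ha hv hav
  have h2 := card_le_of_hom (homW h hE ha hU)
  rw [card_ker h hU hE ha haU] at h2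
  rw [h1]
  calc Nat.card U * Nat.card ↥(E ⊓ centralizer (U : Set G))
      ≤ (Nat.card Z * Nat.card ↥(U ⊓ centralizer (E : Set G))) * Nat.card ↥(E ⊓ centralizer (U : Set G)) :=
        Nat.mul_le_mul_right _ h2
    _ = _ := by ring

/-- no over-offender: `v ↦ [e,v]` is onto `Z` -/
theorem surjE {P : Subgroup G} (hSP : (S : Subgroup G) ≤ P) (hno : NoOver U P) {E : Subgroup G} (hE : E ∈ Λ)
    {e : G} (he : e ∈ E) (heU : e ∉ centralizer (U : Set G)) :
    ∀ z ∈ Z, ∃ v ∈ U, e * v * e⁻¹ * v⁻¹ = z := by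
  obtain ⟨v, hv, hev⟩ : ∃ v ∈ U, e * v ≠ v * e := by
    by_contra hc
    push Not at hc
    exact heU (mem_centralizer_iff.2 fun x hx => (hc x hx).symm)
  have h1 := card_E h hU hE he hv hev
  have h2 := hno E ((h.E_le E hE).trans hSP) (h.E_el E hE)
  have h3 : Function.Surjective (homW h hE he hU) := by
    apply surj_of_card
    rw [card_ker h hU hE he heU]
    rw [h1] at h2
    have h4 : 0 < Nat.card ↥(E ⊓ centralizer (U : Set G)) := Nat.card_pos
    refine Nat.le_of_mul_le_mul_right ?_ h4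
    calc Nat.card Z * Nat.card ↥(U ⊓ centralizer (E : Set G)) * Nat.card ↥(E ⊓ centralizer (U : Set G))
        = Nat.card Z * Nat.card ↥(E ⊓ centralizer (U : Set G)) * Nat.card ↥(U ⊓ centralizer (E : Set G)) := by ring
      _ ≤ _ := h2
  intro z hz
  obtain ⟨v, hv⟩ := h3 ⟨z, hz⟩
  exact ⟨v, v.2, congrArg Subtype.val hv⟩

/-! ### `U` a sum of natural modules -/

section nat

variable {P D : Subgroup G} (hSP : (S : Subgroup G) ≤ P) (hno : NoOver U P) (hZU : Z ≤ U) (hZD : ¬ Z ≤ D)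
  {F : Type} [Field F] {k : ℕ} (M : NatK F (S : Subgroup G) P U D k)

omit h hU [Finite G] in
theorem ez {a : G} {b : Fin k → F} (hb : ActsSL M.e U D a fun i => up (b i)) {v : G} (hv : v ∈ U)
    (hz : a * v * a⁻¹ * v⁻¹ ∈ U) (i : Fin k) :
    M.e (a * v * a⁻¹ * v⁻¹) i 0 = b i * M.e v i 1 ∧ M.e (a * v * a⁻¹ * v⁻¹) i 1 = 0 := by
  have h1 := hb.1 v hv i
  have h2 := M.mul _ hz v hv
  rw [show a * v * a⁻¹ * v⁻¹ * v = a * v * a⁻¹ by group] at h2
  rw [h2] at h1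
  have h3 := congrFun h1 0
  have h4 := congrFun h1 1
  simp only [Pi.add_apply, ap, up] at h3 h4
  simp at h3 h4
  constructor
  · linear_combination h3
  · exact h4

omit h hU [Finite G] in
theorem exists_e (i : Fin k) : ∃ v ∈ U, M.e v i 1 = 1 := by
  obtain ⟨v, hv, hv'⟩ := M.surj fun _ => ![0, 1]
  exact ⟨v, hv, by rw [hv']; rfl⟩

omit hU in
/-- an element with a nontrivial coordinate does not centralise `U` -/
theorem not_mem_cent {a : G} {b : Fin k → F} (hb : ActsSL M.e U D a fun i => up (b i)) {i : Fin k}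
    (hi : b i ≠ 0) : ∃ v ∈ U, a * v ≠ v * a := by
  obtain ⟨v, hv, hv'⟩ := exists_e M i
  refine ⟨v, hv, fun hc => hi ?_⟩
  have h1 := comm_iff.2 hc
  have h2 := (ez M hb hv (by rw [h1]; exact one_mem _) i).1
  rw [h1, hv', mul_one] at h2
  rw [← h2]
  have h3 := M.mul 1 (one_mem _) 1 (one_mem _)
  rw [mul_one] at h3
  rw [left_eq_add.1 h3]; rfl

include hSP hno hZU

/-- (3c) -/
theorem supp {E : Subgroup G} (hE : E ∈ Λ) {a : G} (ha : a ∈ E) {b : Fin k → F}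
    (hb : ActsSL M.e U D a fun i => up (b i)) {i : Fin k} (hi : b i ≠ 0) :
    (∃ I : Set (Fin k), i ∈ I ∧ ∀ c : Fin k → F, (∀ j, j ∉ I → c j = 0) →
      ∃ a' ∈ E, ActsSL M.e U D a' fun j => up (c j)) ∧ ∀ z ∈ Z, ∀ j, j ≠ i → M.e z j = 0 := by
  obtain ⟨v, hv, hav⟩ := not_mem_cent h M hb hi
  obtain ⟨I, hI, hI'⟩ := M.off E (h.E_le E hE) (off h hU hE ha hv hav)
  have hiI : i ∈ I := by
    by_contra hiI
    obtain ⟨b', hb', hb''⟩ := hI a ha
    obtain ⟨w, hw, hw'⟩ := exists_e M i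
    have hz := hZU (h.E_Z E hE a ha w (hU hw))
    have h1 := (ez M hb hw hz i).1
    have h2 := (ez M hb'' hw hz i).1
    rw [h1, hb' i hiI, hw', mul_one, zero_mul] at h2
    exact hi h2
  refine ⟨⟨I, hiI, hI'⟩, ?_⟩
  obtain ⟨a', ha', hc⟩ := hI' (Pi.single i 1) fun j hj => by
    rw [Pi.single_eq_of_ne]
    rintro rfl
    exact hj hiI
  obtain ⟨v', hv', hav'⟩ := not_mem_cent h M hc (i := i) (by simp)
  intro z hz j hj
  obtain ⟨w, hw, rfl⟩ := surjE h hU hSP hno hE ha'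
    (fun h1 => hav' (mem_centralizer_iff.1 h1 v' hv').symm) z hz
  have h1 := ez M hc hw (hZU hz) j
  rw [Pi.single_eq_of_ne hj, zero_mul] at h1
  exact NatPair.ext2 h1.1 h1.2

include hZD

omit hSP hno hU in
theorem exists_z : ∃ z ∈ Z, M.e z ≠ 0 := by
  by_contra hc
  push Not at hc
  exact hZD fun z hz => (M.ker z (hZU hz)).1 (hc z hz)

/-- (3b) -/
theorem exists_b {E : Subgroup G} (hE : E ∈ Λ) {a : G} (ha : a ∈ E) (haU : a ∉ centralizer (U : Set G)) :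
    ∃ b : Fin k → F, (ActsSL M.e U D a fun i => up (b i)) ∧ ∃ i, b i ≠ 0 := by
  obtain ⟨v, hv, hav⟩ : ∃ v ∈ U, a * v ≠ v * a := by
    by_contra hc
    push Not at hc
    exact haU (mem_centralizer_iff.2 fun x hx => (hc x hx).symm)
  obtain ⟨I, hI, -⟩ := M.off E (h.E_le E hE) (off h hU hE ha hv hav)
  obtain ⟨b, -, hb⟩ := hI a ha
  refine ⟨b, hb, ?_⟩
  by_contra hc
  push Not at hc
  obtain ⟨z, hz, hz'⟩ := exists_z h hZU hZD M
  apply hz'
  obtain ⟨w, hw, rfl⟩ := surjE h hU hSP hno hE ha haU z hz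
  funext j
  have h1 := ez M hb hw (hZU hz) j
  rw [hc j, zero_mul] at h1
  exact NatPair.ext2 h1.1 h1.2

/-- (3e) -/
theorem z_inj {E : Subgroup G} (hE : E ∈ Λ) {a : G} (ha : a ∈ E) (haU : a ∉ centralizer (U : Set G))
    {z : G} (hz : z ∈ Z) (hez : M.e z = 0) : z = 1 := by
  obtain ⟨b, hb, i, hi⟩ := exists_b h hU hSP hno hZU hZD M hE ha haU
  have hsupp := (supp h hU hSP hno hZU M hE ha hb hi).2
  by_contra hz1
  obtain ⟨v, hv, rfl⟩ := surjE h hU hSP hno hE ha haU z hz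
  have h1 := (ez M hb hv (hZU hz) i).1
  rw [hez] at h1
  have h2 : M.e v i 1 = 0 := by
    rcases mul_eq_zero.1 h1.symm with h3 | h3
    · exact absurd h3 hi
    · exact h3
  have hav : a * v ≠ v * a := fun hc => hz1 (comm_iff.2 hc)
  obtain ⟨z', hz', hz''⟩ := exists_z h hZU hZD M
  apply hz''
  obtain ⟨a', ha', rfl⟩ := h.onto E hE v (hU hv) ⟨a, ha, hav⟩ z' hz'
  by_cases ha'U : a' ∈ centralizer (U : Set G)
  · exfalso
    apply hz''
    rw [comm_iff.2 (mem_centralizer_iff.1 ha'U v hv).symm]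
    exact (M.ker 1 (one_mem _)).2 (one_mem _)
  · obtain ⟨b', hb', -⟩ := exists_b h hU hSP hno hZU hZD M hE ha' ha'U
    funext j
    by_cases hj : j = i
    · subst hj
      have h3 := ez M hb' hv (hZU hz') j
      rw [h2, mul_zero] at h3
      exact NatPair.ext2 h3.1 h3.2
    · exact hsupp _ hz' j hj

include M in
/-- (3f): all `E` which are nontrivial on `U` induce the same group on `U` -/
theorem same_nat {E E' : Subgroup G} (hE : E ∈ Λ) (hE' : E' ∈ Λ) (hEU : ¬ E' ≤ centralizer (U : Set G))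
    {a : G} (ha : a ∈ E) : ∃ a' ∈ E', ∀ v ∈ U, a * v * a⁻¹ = a' * v * a'⁻¹ := by
  by_cases haU : a ∈ centralizer (U : Set G)
  · refine ⟨1, one_mem _, fun v hv => ?_⟩
    rw [← mem_centralizer_iff.1 haU v hv]; group
  obtain ⟨b, hb, i, hi⟩ := exists_b h hU hSP hno hZU hZD M hE ha haU
  have hsupp := (supp h hU hSP hno hZU M hE ha hb hi).2
  obtain ⟨z₀, hz₀, hz₀'⟩ := exists_z h hZU hZD M
  have huniq : ∀ E₁ ∈ Λ, ∀ a₁ ∈ E₁, ∀ b₁ : Fin k → F, (ActsSL M.e U D a₁ fun i => up (b₁ i)) →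
      ∀ j, b₁ j ≠ 0 → j = i := by
    intro E₁ hE₁ a₁ ha₁ b₁ hb₁ j hj
    by_contra hji
    apply hz₀'
    have h1 := (supp h hU hSP hno hZU M hE₁ ha₁ hb₁ hj).2
    funext l
    by_cases hl : l = i
    · rw [hl]
      exact h1 z₀ hz₀ i (Ne.symm hji)
    · exact hsupp z₀ hz₀ l hl
  obtain ⟨c, hc, hcU⟩ := SetLike.not_le_iff_exists.1 hEU
  obtain ⟨bc, hbc, ic, hic⟩ := exists_b h hU hSP hno hZU hZD M hE' hc hcU
  obtain rfl := huniq E' hE' c hc bc hbc ic hic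
  obtain ⟨I, hI, hI'⟩ := (supp h hU hSP hno hZU M hE' hc hbc hic).1
  obtain ⟨a', ha', hba'⟩ := hI' b fun j hj => by
    by_contra hbj
    have := huniq E hE a ha b hb j hbj
    rw [this] at hj
    exact hj hI
  refine ⟨a', ha', fun v hv => ?_⟩
  have hz1 := h.E_Z E hE a ha v (hU hv)
  have hz2 := h.E_Z E' hE' a' ha' v (hU hv)
  have h1 : M.e (a * v * a⁻¹ * v⁻¹) = M.e (a' * v * a'⁻¹ * v⁻¹) := by
    funext j
    have h3 := ez M hb hv (hZU hz1) j
    have h4 := ez M hba' hv (hZU hz2) j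
    exact NatPair.ext2 (h3.1.trans h4.1.symm) (h3.2.trans h4.2.symm)
  have h2 : (a * v * a⁻¹ * v⁻¹)⁻¹ * (a' * v * a'⁻¹ * v⁻¹) = 1 := by
    apply z_inj h hU hSP hno hZU hZD M hE ha haU (mul_mem (inv_mem hz1) hz2)
    have h3 := M.mul _ (hZU hz1) _ (hZU (mul_mem (inv_mem hz1) hz2))
    rw [mul_inv_cancel_left, ← h1] at h3
    exact left_eq_add.1 h3
  have h3 := inv_mul_eq_one.1 h2
  calc a * v * a⁻¹ = (a * v * a⁻¹ * v⁻¹) * v := by group
    _ = (a' * v * a'⁻¹ * v⁻¹) * v := by rw [h3]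
    _ = _ := by group

end nat

/-! ### `U` a sum of even-subset modules: impossible -/

section sym

variable {P D : Subgroup G} (hSP : (S : Subgroup G) ≤ P) (hno : NoOver U P) (hZU : Z ≤ U) (hZD : ¬ Z ≤ D)
  {k m : ℕ} (M : SymK (S : Subgroup G) P U D k m) (hm : 2 ≤ m)

omit h hU [Finite G] in
theorem sym_one : M.e 1 = 0 := (M.ker 1 (one_mem _)).2 (one_mem _)

omit h hU [Finite G] in
/-- `e([b,v])` for a transposition `b` -/
theorem ez_sym {b : G} {i : Fin k} {x y : Fin (2 ^ m + 1)}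
    (hb : ActsSym M.e U b 1 (Function.update 1 i (Equiv.swap x y))) {v : G} (hv : v ∈ U)
    (hz : b * v * b⁻¹ * v⁻¹ ∈ U) : (∀ j, j ≠ i → M.e (b * v * b⁻¹ * v⁻¹) j = 0) ∧
      (∀ w, w ≠ x → w ≠ y → M.e (b * v * b⁻¹ * v⁻¹) i w = 0) ∧
      M.e (b * v * b⁻¹ * v⁻¹) i x = M.e v i x + M.e v i y ∧
      M.e (b * v * b⁻¹ * v⁻¹) i y = M.e v i x + M.e v i y := by
  have h2 := M.mul _ hz v hv
  rw [show b * v * b⁻¹ * v⁻¹ * v = b * v * b⁻¹ by group] at h2
  set z := b * v * b⁻¹ * v⁻¹ with hzdef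
  have hadd : ∀ t : ZMod 2, t + t = 0 := by decide
  have key : ∀ j w, M.e z j w = M.e (b * v * b⁻¹) j w + M.e v j w := by
    intro j w
    rw [h2]
    simp only [Pi.add_apply]
    rw [add_assoc, hadd, add_zero]
  refine ⟨fun j hj => funext fun w => ?_, fun w hwx hwy => ?_, ?_, ?_⟩
  · have h3 := hb v hv j w
    rw [Function.update_of_ne hj] at h3
    simp only [Equiv.Perm.coe_one, id_eq, Pi.one_apply] at h3
    rw [key, h3, hadd]; rfl
  · have h3 := hb v hv i w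
    rw [Function.update_self, Equiv.swap_apply_of_ne_of_ne hwx hwy] at h3
    simp only [Equiv.Perm.coe_one, id_eq] at h3
    rw [key, h3, hadd]
  · have h3 := hb v hv i y
    rw [Function.update_self, Equiv.swap_apply_right] at h3
    simp only [Equiv.Perm.coe_one, id_eq] at h3
    rw [key, h3, add_comm]
  · have h3 := hb v hv i x
    rw [Function.update_self, Equiv.swap_apply_left] at h3
    simp only [Equiv.Perm.coe_one, id_eq] at h3
    rw [key, h3]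

include hm in
omit h hU [Finite G] in
theorem not_mem_cent_sym {b : G} {i : Fin k} {x y : Fin (2 ^ m + 1)} (hxy : y ≠ x)
    (hb : ActsSym M.e U b 1 (Function.update 1 i (Equiv.swap x y))) : b ∉ centralizer (U : Set G) := by
  intro hbU
  obtain ⟨w, hwx, hwy⟩ : ∃ w : Fin (2 ^ m + 1), w ≠ x ∧ w ≠ y := by
    by_contra hc
    push Not at hc
    have h1 : (Finset.univ : Finset (Fin (2 ^ m + 1))) ⊆ {x, y} := by
      intro w _
      rw [Finset.mem_insert, Finset.mem_singleton]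
      by_cases hw : w = x
      · exact Or.inl hw
      · exact Or.inr (hc w hw)
    have h2 := Finset.card_le_card h1
    rw [Finset.card_univ, Fintype.card_fin] at h2
    have h3 := Finset.card_le_two (a := x) (b := y)
    have h4 : 2 ^ 2 ≤ 2 ^ m := Nat.pow_le_pow_right (by norm_num) hm
    omega
  obtain ⟨v, hv, hev⟩ := M.surj (Pi.single i (Pi.single x 1 + Pi.single w 1)) fun j => by
    by_cases hj : j = i
    · subst hj
      simp only [Pi.single_eq_same, Pi.add_apply, Finset.sum_add_distrib, Finset.sum_pi_single',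
        Finset.mem_univ, if_true]
      exact CharTwo.add_self_eq_zero 1
    · simp [Pi.single_eq_of_ne hj]
  have h1 : b * v * b⁻¹ * v⁻¹ = 1 := comm_iff.2 (mem_centralizer_iff.1 hbU v hv).symm
  have h2 := (ez_sym M hb hv (by rw [h1]; exact one_mem _)).2.2.1
  rw [h1, sym_one, hev] at h2
  simp [hxy, hwx.symm, hwy.symm] at h2

include hSP hno hZU hZD hm in
/-- `SymK` is impossible for `|Z| ≥ 4` -/
theorem not_symK (M : SymK (S : Subgroup G) P U D k m) {E : Subgroup G} (hE : E ∈ Λ)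
    (hEU : ¬ E ≤ centralizer (U : Set G)) : False := by
  have hadd : ∀ t : ZMod 2, t + t = 0 := by decide
  have hadd' : ∀ s t : ZMod 2, s + t = 0 → s = t := by decide
  obtain ⟨z₀, hz₀, hz₀'⟩ : ∃ z ∈ Z, M.e z ≠ 0 := by
    by_contra hc
    push Not at hc
    exact hZD fun z hz => (M.ker z (hZU hz)).1 (hc z hz)
  obtain ⟨a, ha, haU⟩ := SetLike.not_le_iff_exists.1 hEU
  obtain ⟨v₀, hv₀, hav₀⟩ : ∃ v ∈ U, a * v ≠ v * a := by
    by_contra hc
    push Not at hc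
    exact haU (mem_centralizer_iff.2 fun x hx => (hc x hx).symm)
  have hoff := M.off E (h.E_le E hE) (off h hU hE ha hv₀ hav₀)
  obtain ⟨τ, hτ, hτ'⟩ := hoff.2 a ha
  -- `a` moves a point
  have hmove : ∃ i x, τ i x ≠ x := by
    by_contra hc
    push Not at hc
    apply hz₀'
    obtain ⟨v, hv, rfl⟩ := surjE h hU hSP hno hE ha haU z₀ hz₀
    have h2 := M.mul _ (hZU hz₀) v hv
    rw [show a * v * a⁻¹ * v⁻¹ * v = a * v * a⁻¹ by group] at h2
    funext j w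
    have h3 := hτ v hv j w
    rw [hc j w, h2] at h3
    simp only [Equiv.Perm.coe_one, id_eq, Pi.add_apply] at h3
    rw [Pi.zero_apply, Pi.zero_apply]
    exact add_eq_right.1 h3
  obtain ⟨i, x, hx⟩ := hmove
  obtain ⟨-, b, hb, hbs⟩ := hτ' i x hx
  set y := τ i x with hy
  have hbU := not_mem_cent_sym M hm hx hbs
  -- the values of `e` on `Z`
  have hval : ∀ z ∈ Z, (∀ j, j ≠ i → M.e z j = 0) ∧ (∀ w, w ≠ x → w ≠ y → M.e z i w = 0) ∧
      M.e z i x = M.e z i y := by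
    intro z hz
    obtain ⟨v, hv, rfl⟩ := surjE h hU hSP hno hE hb hbU z hz
    obtain ⟨h1, h2, h3, h4⟩ := ez_sym M hbs hv (hZU hz)
    exact ⟨h1, h2, h3.trans h4.symm⟩
  have hzero : ∀ z ∈ Z, M.e z i x = 0 → M.e z = 0 := by
    intro z hz h0
    obtain ⟨h1, h2, h3⟩ := hval z hz
    funext j w
    by_cases hj : j = i
    · subst hj
      by_cases hwx : w = x
      · rw [hwx, h0]; rfl
      · by_cases hwy : w = y
        · rw [hwy, ← h3, h0]; rfl
        · rw [h2 w hwx hwy]; rfl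
    · rw [h1 j hj]; rfl
  -- `e` is injective on `Z`
  have hinj : ∀ z ∈ Z, M.e z = 0 → z = 1 := by
    intro z hz hez
    by_contra hz1
    obtain ⟨v, hv, rfl⟩ := surjE h hU hSP hno hE hb hbU z hz
    have hbv : b * v ≠ v * b := fun hc => hz1 (comm_iff.2 hc)
    have hxy : M.e v i x = M.e v i y := by
      have h1 := (ez_sym M hbs hv (hZU hz)).2.2.1
      rw [hez] at h1
      exact hadd' _ _ h1.symm
    apply hz₀'
    obtain ⟨a', ha', rfl⟩ := h.onto E hE v (hU hv) ⟨b, hb, hbv⟩ z₀ hz₀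
    apply hzero _ hz₀
    obtain ⟨τ', hτ1, hτ2⟩ := hoff.2 a' ha'
    have h2 := M.mul _ (hZU hz₀) v hv
    rw [show a' * v * a'⁻¹ * v⁻¹ * v = a' * v * a'⁻¹ by group] at h2
    have h3 : M.e (a' * v * a'⁻¹ * v⁻¹) i x = M.e (a' * v * a'⁻¹) i x + M.e v i x := by
      rw [h2]
      simp only [Pi.add_apply]
      rw [add_assoc, hadd, add_zero]
    set x'' := (τ' i).symm x with hx''
    have h4 : M.e (a' * v * a'⁻¹) i x = M.e v i x'' := by
      have h5 := hτ1 v hv i x''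
      rw [hx'', Equiv.apply_symm_apply] at h5
      exact h5
    by_cases hxx : x'' = x
    · rw [h3, h4, hxx, hadd]
    · by_cases hxy' : x'' = y
      · rw [h3, h4, hxy', ← hxy, hadd]
      · exfalso
        apply hz₀'
        apply hzero _ hz₀
        have hmv : τ' i x'' ≠ x'' := by
          rw [hx'', Equiv.apply_symm_apply]
          exact Ne.symm hxx
        obtain ⟨-, b', hb', hbs'⟩ := hτ2 i x'' hmv
        have h6 : τ' i x'' = x := by rw [hx'', Equiv.apply_symm_apply]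
        rw [h6] at hbs'
        have hb'U := not_mem_cent_sym M hm (Ne.symm hxx) hbs'
        obtain ⟨v', hv', hvz⟩ := surjE h hU hSP hno hE hb' hb'U _ hz₀
        have h7 := ez_sym M hbs' hv' (by rw [hvz]; exact hZU hz₀)
        rw [hvz] at h7
        rw [h7.2.2.2, ← h7.2.2.1]
        exact (hval _ hz₀).2.1 x'' hxx hxy'
  -- `|Z| ≤ 2`
  have hcard : Nat.card Z ≤ 2 := by
    have h1 : Function.Injective (fun z : Z => M.e z i x) := by
      intro z z' hzz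
      have hzz' : M.e (z : G) i x = M.e (z' : G) i x := hzz
      have h2 : M.e ((z : G)⁻¹ * z') i x = 0 := by
        have h3 := M.mul _ (hZU z.2) _ (hZU (mul_mem (inv_mem z.2) z'.2))
        rw [mul_inv_cancel_left] at h3
        have h4 := congrFun (congrFun h3 i) x
        simp only [Pi.add_apply] at h4
        rw [← hzz'] at h4
        exact left_eq_add.1 h4
      have h3 := hinj _ (mul_mem (inv_mem z.2) z'.2) (hzero _ (mul_mem (inv_mem z.2) z'.2) h2)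
      exact Subtype.ext (inv_mul_eq_one.1 h3)
    have h2 := Nat.card_le_card_of_injective _ h1
    rwa [Nat.card_zmod] at h2
  have := h.Z_card
  omega

end sym

end U

/-! ### The end -/

/-- if all `E` which are nontrivial on `U` induce the same group on `U`, then `[U,S] ≤ Z` -/
theorem fix_of_same {U : Subgroup G} (hU : U ≤ W) (hSU : (S : Subgroup G) ≤ normalizer (U : Set G))
    {d : G} (hd : d ∈ U) (hdZ : d ∉ Z) (hdS : ∀ s ∈ (S : Subgroup G), s * d * s⁻¹ * d⁻¹ ∈ Z)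
    (hsame : ∀ E ∈ Λ, ∀ E' ∈ Λ, ¬ E' ≤ centralizer (U : Set G) → ∀ a ∈ E, ∃ a' ∈ E',
      ∀ v ∈ U, a * v * a⁻¹ = a' * v * a'⁻¹) :
    ∀ v ∈ U, ∀ s ∈ (S : Subgroup G), s * v * s⁻¹ * v⁻¹ ∈ Z := by
  -- some `E` does not commute with `d`
  obtain ⟨E₀, hE₀, a₀, ha₀, had⟩ : ∃ E ∈ Λ, ∃ a ∈ E, a * d ≠ d * a := by
    by_contra hc
    push Not at hc
    exact hdZ (h.sep d (hU hd) hc)
  have hE₀U : ¬ E₀ ≤ centralizer (U : Set G) := fun h1 => had (mem_centralizer_iff.1 (h1 ha₀) d hd).symm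
  -- the elements of `E₀` commute with `S` modulo `C(U)`
  have key : ∀ s ∈ (S : Subgroup G), ∀ a ∈ E₀, ∀ v ∈ U, (s * a * s⁻¹) * v * (s * a * s⁻¹)⁻¹ = a * v * a⁻¹ := by
    intro s hs a ha
    obtain ⟨E', hE', hsE⟩ := h.S_inv E₀ hE₀ s hs
    obtain ⟨a', ha', haa⟩ := hsame E' hE' E₀ hE₀ hE₀U _ (hsE a ha)
    -- `[d,a'] = [d,a]`
    have h1 : a' * d * a'⁻¹ = a * d * a⁻¹ := by
      rw [← haa d hd]
      have h2 := hdS s hs
      have h3 := hdS s⁻¹ (inv_mem hs)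
      rw [inv_inv] at h3
      set c := s⁻¹ * d * s * d⁻¹ with hc
      have hsd : s⁻¹ * d * s = c * d := by rw [hc]; group
      have haS : a ∈ (S : Subgroup G) := h.E_le E₀ hE₀ ha
      have hcs : s * c = c * s := h.Z_cen c h3 s hs
      have hca : a * c = c * a := h.Z_cen c h3 a haS
      have hz := h.E_Z E₀ hE₀ a ha d (hU hd)
      have hzs := h.Z_cen _ hz s hs
      calc s * a * s⁻¹ * d * (s * a * s⁻¹)⁻¹ = s * a * (s⁻¹ * d * s) * a⁻¹ * s⁻¹ := by group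
        _ = s * (a * c) * d * a⁻¹ * s⁻¹ := by rw [hsd]; group
        _ = (s * c) * (a * d * a⁻¹) * s⁻¹ := by rw [hca]; group
        _ = c * (s * (a * d * a⁻¹ * d⁻¹)) * d * s⁻¹ := by rw [hcs]; group
        _ = c * ((a * d * a⁻¹ * d⁻¹) * s) * d * s⁻¹ := by rw [hzs]
        _ = c * (a * d * a⁻¹ * d⁻¹) * (s * d * s⁻¹) := by group
        _ = (a * d * a⁻¹ * d⁻¹) * c * (s * d * s⁻¹) := by rw [Z_comm h h3 hz]
        _ = (a * d * a⁻¹ * d⁻¹) * (c * s) * d * s⁻¹ := by group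
        _ = (a * d * a⁻¹ * d⁻¹) * (s * c) * d * s⁻¹ := by rw [hcs]
        _ = (a * d * a⁻¹ * d⁻¹) * s * (c * d) * s⁻¹ := by group
        _ = (a * d * a⁻¹ * d⁻¹) * s * (s⁻¹ * d * s) * s⁻¹ := by rw [hsd]
        _ = a * d * a⁻¹ := by group
    have h2 : (a⁻¹ * a') * d = d * (a⁻¹ * a') := by
      calc (a⁻¹ * a') * d = a⁻¹ * (a' * d * a'⁻¹) * a' := by group
        _ = a⁻¹ * (a * d * a⁻¹) * a' := by rw [h1]
        _ = _ := by group
    have h3 : ∀ x ∈ W, (a⁻¹ * a') * x = x * (a⁻¹ * a') := by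
      rcases h.reg E₀ hE₀ _ (mul_mem (inv_mem ha) ha') d (hU hd) h2 with h4 | h4
      · exact h4
      · exact absurd (h4 a₀ ha₀) had
    intro v hv
    rw [haa v hv]
    calc a' * v * a'⁻¹ = a * ((a⁻¹ * a') * v) * a'⁻¹ := by group
      _ = a * (v * (a⁻¹ * a')) * a'⁻¹ := by rw [h3 v (hU hv)]
      _ = _ := by group
  intro v hv s hs
  have hsv : s * v * s⁻¹ ∈ U := (mem_normalizer_iff.1 (hSU hs) v).1 hv
  apply h.sep _ (mul_mem (hU hsv) (inv_mem (hU hv)))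
  -- enough for `E₀`
  have h0 : ∀ a ∈ E₀, a * (s * v * s⁻¹ * v⁻¹) = s * v * s⁻¹ * v⁻¹ * a := by
    intro a ha
    have h1 := key s hs a ha _ hsv
    have hz := h.E_Z E₀ hE₀ a ha v (hU hv)
    have hzs := h.Z_cen _ hz s hs
    have h2 : a * (s * v * s⁻¹) * a⁻¹ = (a * v * a⁻¹ * v⁻¹) * (s * v * s⁻¹) := by
      rw [← h1]
      calc s * a * s⁻¹ * (s * v * s⁻¹) * (s * a * s⁻¹)⁻¹ = s * (a * v * a⁻¹ * v⁻¹) * v * s⁻¹ := by group
        _ = (a * v * a⁻¹ * v⁻¹) * s * v * s⁻¹ := by rw [hzs]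
        _ = _ := by group
    have h3 : s * v * s⁻¹ * v⁻¹ ∈ W := mul_mem (hU hsv) (inv_mem (hU hv))
    have h4 := h.W_comm _ (h.Z_le hz) _ h3
    have h5 : a * (s * v * s⁻¹ * v⁻¹) * a⁻¹ = s * v * s⁻¹ * v⁻¹ := by
      calc a * (s * v * s⁻¹ * v⁻¹) * a⁻¹ = (a * (s * v * s⁻¹) * a⁻¹) * (a * v * a⁻¹)⁻¹ := by group
        _ = (a * v * a⁻¹ * v⁻¹) * (s * v * s⁻¹) * (a * v * a⁻¹)⁻¹ := by rw [h2]
        _ = (a * v * a⁻¹ * v⁻¹) * (s * v * s⁻¹ * v⁻¹) * (a * v * a⁻¹ * v⁻¹)⁻¹ := by group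
        _ = (s * v * s⁻¹ * v⁻¹) * (a * v * a⁻¹ * v⁻¹) * (a * v * a⁻¹ * v⁻¹)⁻¹ := by rw [h4]
        _ = _ := by group
    exact mul_inv_eq_iff_eq_mul.1 h5
  intro E hE a ha
  obtain ⟨a', ha', haa⟩ := hsame E hE E₀ hE₀ hE₀U a ha
  have h1 := haa _ (mul_mem hsv (inv_mem hv))
  rw [h0 a' ha'] at h1
  have h2 : s * v * s⁻¹ * v⁻¹ * a' * a'⁻¹ = s * v * s⁻¹ * v⁻¹ := by group
  rw [h2] at h1
  exact mul_inv_eq_iff_eq_mul.1 h1

omit h in
theorem not_le_cv {P : Subgroup G} (hP : IsParS (S : Subgroup G) P) (hZ : zc (S : Subgroup G) = Z) :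
    ¬ Z ≤ cv (S : Subgroup G) P := by
  intro h1
  apply hP.not_zc
  rw [hZ]
  have h2 : P ≤ centralizer (Z : Set G) := by
    have h3 := TTn.DiCoreAbs.oddGen_sup hP.le (MinSimple.Basic.not_dvd_relIndex S hP.le)
    rw [← h3]
    apply sup_le
    · exact le_centralizer_iff.1 (h1.trans inf_le_right)
    · rw [← hZ]
      exact MinSimple.VModule.le_centralizer_zc _
  exact h2.trans (centralizer_le_normalizer _)

omit h in
theorem not_le_Z {P : Subgroup G} (hP : IsParS (S : Subgroup G) P) (hZ : zc (S : Subgroup G) = Z) :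
    ¬ zl (S : Subgroup G) P ≤ Z := by
  intro h1
  apply hP.not_zc
  have h2 : zc (S : Subgroup G) = zl (S : Subgroup G) P := by
    apply le_antisymm (zc_le_zl _ _)
    rw [hZ]; exact h1
  rw [h2]
  exact le_normalizer_zl _ _

/-- **(F1), abstract form.** -/
theorem zl_le (hFF : FFThm.Stmt.{u}) {P : Subgroup G} (hP : IsParS (S : Subgroup G) P)
    (hc : P ⊓ centralizer (o2 P : Set G) ≤ o2 P) (hZ : zc (S : Subgroup G) = Z)
    (hU : zl (S : Subgroup G) P ≤ W) :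
    zl (S : Subgroup G) P ≤ V ∧ Nat.card Z * Nat.card Z ≤ Nat.card (zl (S : Subgroup G) P) := by
  set U := zl (S : Subgroup G) P with hUdef
  have hSP := hP.le
  have hZU : Z ≤ U := by rw [← hZ]; exact zc_le_zl _ _
  have hZD := not_le_cv hP hZ
  have hUZ := not_le_Z hP hZ
  have hSU : (S : Subgroup G) ≤ normalizer (U : Set G) := hSP.trans (le_normalizer_zl _ _)
  have hU2 : IsPGroup 2 U := (MinSimple.VModule.o2_isPGroup P).to_le
    ((MinSimple.VModule.zl_le_zc hP.le S.isPGroup' (MinSimple.Basic.not_dvd_relIndex S hP.le) hc).trans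
      (MinSimple.VModule.zc_le _))
  have hUS : U ≤ (S : Subgroup G) := le_of_le_normalizer S hU2 hSU
  have hSZ : (S : Subgroup G) ≤ normalizer (Z : Set G) := by
    intro s hs
    apply centralizer_le_normalizer
    rw [mem_centralizer_iff]
    exact fun z hz => (h.Z_cen z hz s hs).symm
  obtain ⟨d, hd, hdZ, hdS⟩ := exists_fix_mod S.isPGroup' (hZU.trans hUS) hUS hSZ hSU hUZ
  obtain ⟨E, hE, a, ha, had⟩ : ∃ E ∈ Λ, ∃ a ∈ E, a * d ≠ d * a := by
    by_contra hcon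
    push Not at hcon
    exact hdZ (h.sep d (hU hd) hcon)
  have haU : a ∉ centralizer (U : Set G) := fun h1 => had (mem_centralizer_iff.1 h1 d hd).symm
  obtain ⟨hno, hconcl⟩ := hFF G (S : Subgroup G) P ⟨hSP, S.isPGroup', fun _ _ hT hST => S.is_maximal' hT hST⟩
    hP.toIsMinPar hc ⟨E, (h.E_le E hE).trans hSP, off h hU hE ha hd had⟩
  refine ⟨?_, ?_⟩
  · have hsame : ∀ E ∈ Λ, ∀ E' ∈ Λ, ¬ E' ≤ centralizer (U : Set G) → ∀ a ∈ E, ∃ a' ∈ E',
        ∀ v ∈ U, a * v * a⁻¹ = a' * v * a'⁻¹ := by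
      rcases hconcl with ⟨F, _, _, _, k, hk, ⟨M⟩⟩ | ⟨k, m, hk, hm, ⟨M⟩⟩
      · intro E hE E' hE' hEU a ha
        exact same_nat h hU hSP hno hZU hZD M hE hE' hEU ha
      · exact (not_symK h hU hSP hno hZU hZD hm M hE fun h1 => haU (h1 ha)).elim
    have h1 := fix_of_same h hU hSU hd hdZ hdS hsame
    exact fun v hv => h.fix v (hU hv) (h1 v hv)
  · have h1 : Function.Surjective (homW h hE ha hU) := by
      rintro ⟨z, hz⟩
      obtain ⟨v, hv, hvz⟩ := surjE h hU hSP hno hE ha haU z hz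
      exact ⟨⟨v, hv⟩, Subtype.ext hvz⟩
    rw [card_eq_of_surj _ h1, card_ker h hU hE ha haU]
    apply Nat.mul_le_mul_left
    apply Subgroup.card_le_of_le
    refine le_inf hZU fun z hz => mem_centralizer_iff.2 fun x hx => ?_
    exact h.Z_cen z hz x (h.E_le E hE hx)

end fam

end Cfsg.Agent.Omega.TwoFFour.Fam
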