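import Cfsg.Agent.Omega.TwoFFour.Fam
import Cfsg.Agent.Omega.TwoFFour.Base

/-!
# (F1) for `²F₄(q)` (text #13707): the root groups of transvections of `W / Z`

`Sit.W3` : the preimage of `M³` in `W`; for `n` interchanging the coordinates of `V` the conjugates of `n W3 n⁻¹`
under `N(Z)` form a family `Fam S W V Z` (`Sit.fam`).
-/

set_option autoImplicit false
set_option linter.unusedSectionVars false

namespace Cfsg.Agent.Omega.TwoFFour

open Subgroup Matrix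
open Cfsg.Agent.ZN Cfsg.Agent.MinSimple.VModule Cfsg.Agent.Lib.SL2Mat
open Cfsg.Agent.LieRecognition.SzMatrix (Good)
open Cfsg.Agent.Omega.NatPair (NatMod ap ext2 cj mem_cj)

variable {G : Type*} [Group G]

namespace Sit

variable {F : Type*} [Field F] {θ : F →+* F} {e : ℕ} {H : Good F θ e} {S : Sylow 2 G} {V Z W : Subgroup G}
variable (h : Sit F H S V Z W)
include h

theorem card_Z : Nat.card Z = Nat.card F := by
  let f : F → Z := fun c => ⟨h.N.e ![c, 0], (h.e_memZ c 0).2 rfl⟩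
  refine (Nat.card_congr (Equiv.ofBijective f ⟨?_, ?_⟩)).symm
  · intro c d hcd
    exact (h.e_inj (congrArg Subtype.val hcd)).1
  · rintro ⟨g, hg⟩
    obtain ⟨c, hc⟩ := (h.memZ g).1 hg
    exact ⟨c, Subtype.ext hc⟩

theorem card_V : Nat.card V = Nat.card F * Nat.card F := by
  let f : F × F → V := fun p => ⟨h.N.e ![p.1, p.2], h.e_mem p.1 p.2⟩
  rw [← Nat.card_prod]
  refine (Nat.card_congr (Equiv.ofBijective f ⟨?_, ?_⟩)).symm
  · intro c d hcd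
    have h1 := h.e_inj (congrArg Subtype.val hcd)
    exact Prod.ext h1.1 h1.2
  · rintro ⟨g, hg⟩
    obtain ⟨x, y, hc⟩ := h.e_surj hg
    exact ⟨(x, y), Subtype.ext hc⟩

theorem eight_le : 8 ≤ Nat.card F := by
  rw [h.cardF]
  have : 2 ^ (2 * 1 + 1) ≤ 2 ^ (2 * h.mf + 1) := Nat.pow_le_pow_right (by norm_num) (by have := h.one_le; omega)
  omega

/-- the preimage of `M³` -/
def W3 : Subgroup G where
  carrier := {x | x ∈ W ∧ h.P.f x 3 = 0}
  mul_mem' := by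
    rintro x y ⟨hx, hx3⟩ ⟨hy, hy3⟩
    exact ⟨mul_mem hx hy, by rw [h.f_mul hx hy, Pi.add_apply, hx3, hy3, add_zero]⟩
  one_mem' := ⟨one_mem _, by rw [h.f_one]; rfl⟩
  inv_mem' := by
    rintro x ⟨hx, hx3⟩
    exact ⟨inv_mem hx, by rw [h.f_inv hx, hx3]⟩

theorem mem_W3 {x : G} : x ∈ h.W3 ↔ x ∈ W ∧ h.P.f x 3 = 0 := Iff.rfl

/-- the root group `c (n W3 n⁻¹) c⁻¹` -/
theorem mem_cj_W3 {c n a : G} : a ∈ cj (c * n) h.W3 ↔ ∃ x ∈ W, h.P.f x 3 = 0 ∧ a = c * (n * x * n⁻¹) * c⁻¹ := by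
  rw [mem_cj, mem_W3]
  constructor
  · rintro ⟨h1, h2⟩
    exact ⟨_, h1, h2, by group⟩
  · rintro ⟨x, h1, h2, rfl⟩
    have e : (c * n)⁻¹ * (c * (n * x * n⁻¹) * c⁻¹) * (c * n) = x := by group
    rw [e]
    exact ⟨h1, h2⟩

variable {n : G} (hn : h.Sw n)
include hn

theorem cj_W3_le [Finite G] {c a : G} (hc : c ∈ normalizer (Z : Set G)) (ha : a ∈ cj (c * n) h.W3) :
    a ∈ (S : Subgroup G) ⊓ h.P.K := by
  obtain ⟨x, hx, hx3, rfl⟩ := h.mem_cj_W3.1 ha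
  refine (mem_normalizer_iff.1 (h.C_norm_SK hc) _).1 ⟨(h.conj_mem hn hx).1, (h.conj_mem_K_iff hn hx).2 hx3⟩

/-- **regularity**: `n x n⁻¹`, `x ∈ W3`, centralises `w` only if `w ∈ W3` or `x ∈ I` -/
theorem reg_base [Finite G] {x w : G} (hx : x ∈ W) (hx3 : h.P.f x 3 = 0) (hw : w ∈ W) (hw3 : h.P.f w 3 ≠ 0)
    (hc : n * x * n⁻¹ * w = w * (n * x * n⁻¹)) : x ∈ h.I := by
  obtain ⟨c, hcZ, hcW⟩ := h.exists_w
  -- the decomposition `W = V₂ W³`
  have dec : ∀ y ∈ W, ∃ v ∈ V, h.P.f v = ![h.P.f y 3, 0, 0, 0] ∧ ∃ y' ∈ W, h.P.f y' 3 = 0 ∧ y = c * v * c⁻¹ * y' := by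
    intro y hy
    obtain ⟨v, hv, hvf⟩ := h.exists_V (h.P.f y 3)
    have h1 : c * v * c⁻¹ ∈ W := h.conjW hcZ (h.V_le_W hv)
    have h2 : h.P.f (c * v * c⁻¹) = ![0, 0, 0, h.P.f y 3] := by
      rw [h.f_conj hcZ (h.V_le_W hv), hcW, mv_W, hvf]
      apply ext4 <;> rfl
    refine ⟨v, hv, hvf, (c * v * c⁻¹)⁻¹ * y, mul_mem (inv_mem h1) hy, ?_, by group⟩
    rw [h.f_mul (inv_mem h1) hy, h.f_inv h1, Pi.add_apply, h2]
    exact H.add_self _
  obtain ⟨v, hv, hvf, w', hw', hw'3, hww⟩ := dec w hw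
  have hW' := h.comm_one hn hx hx3 hw' hw'3
  -- `n x n⁻¹` commutes with `c v c⁻¹`
  have h1 : n * x * n⁻¹ * (c * v * c⁻¹) = c * v * c⁻¹ * (n * x * n⁻¹) := by
    have e1 : c * v * c⁻¹ = w * w'⁻¹ := by rw [hww]; group
    have h2 : Commute (n * x * n⁻¹) w := hc
    have h3 : Commute (n * x * n⁻¹) w' := hW'
    rw [e1]
    exact h2.mul_right h3.inv_right
  -- `y = c⁻¹ (n x n⁻¹) c ∈ S` acts on `V` as `up a`
  have hyS : c⁻¹ * (n * x * n⁻¹) * c ∈ S := by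
    have h2 := (mem_normalizer_iff.1 (h.C_norm_SK (inv_mem hcZ)) _).1
      ⟨(h.conj_mem hn hx).1, (h.conj_mem_K_iff hn hx).2 hx3⟩
    rw [inv_inv] at h2
    exact h2.1
  obtain ⟨a, ha⟩ := h.exists_up hyS
  obtain ⟨p, q, hpq⟩ := h.e_surj hv
  have hq : q ≠ 0 := by
    rintro rfl
    have h2 : v ∈ Z := by
      rw [← hpq]
      exact (h.e_memZ p 0).2 rfl
    have h3 := (h.P.f_ker (h.V_le_W hv)).2 h2
    rw [hvf] at h3
    exact hw3 (congrFun h3 0)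
  have h2 : c⁻¹ * (n * x * n⁻¹) * c * v * (c⁻¹ * (n * x * n⁻¹) * c)⁻¹ = v := by
    calc c⁻¹ * (n * x * n⁻¹) * c * v * (c⁻¹ * (n * x * n⁻¹) * c)⁻¹
        = c⁻¹ * (n * x * n⁻¹ * (c * v * c⁻¹)) * (n * x * n⁻¹)⁻¹ * c := by group
      _ = c⁻¹ * (c * v * c⁻¹ * (n * x * n⁻¹)) * (n * x * n⁻¹)⁻¹ * c := by rw [h1]
      _ = v := by group
  have ha0 : a = 0 := by
    have h3 := ha p q
    rw [hpq, h2, ← hpq] at h3
    have h4 := (h.e_inj h3).1
    have h5 : a * q = 0 := by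
      have := H.add_self p
      linear_combination h4.symm
    exact (mul_eq_zero.1 h5).resolve_right hq
  rw [ha0] at ha
  have hcen := h.cen_of_up ha
  refine h.mem_I_of_commute hn hx fun y hy => ?_
  obtain ⟨u, hu, -, y', hy', hy'3, hyy⟩ := dec y hy
  have h3 : Commute (n * x * n⁻¹) (c * u * c⁻¹) := by
    have h4 := h.cen_comm hcen hu
    show n * x * n⁻¹ * (c * u * c⁻¹) = c * u * c⁻¹ * (n * x * n⁻¹)
    calc n * x * n⁻¹ * (c * u * c⁻¹) = c * (c⁻¹ * (n * x * n⁻¹) * c * u) * c⁻¹ := by group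
      _ = c * (u * (c⁻¹ * (n * x * n⁻¹) * c)) * c⁻¹ := by rw [h4]
      _ = _ := by group
  have h4 : Commute (n * x * n⁻¹) y' := h.comm_one hn hx hx3 hy' hy'3
  rw [hyy]
  exact h3.mul_right h4

/-- **surjectivity** of `x ↦ [n x n⁻¹, w]`, `f w ∉ M³` -/
theorem onto_base [Finite G] {w : G} (hw : w ∈ W) (hw3 : h.P.f w 3 ≠ 0) {z : G} (hz : z ∈ Z) :
    ∃ x ∈ W, h.P.f x 3 = 0 ∧ n * x * n⁻¹ * w * (n * x * n⁻¹)⁻¹ * w⁻¹ = z := by
  have := h.finF
  have hx : ∀ y : F, h.P.r ![0, 0, y, 0] ∈ W := fun y => h.P.r_mem _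
  have hx2 : ∀ y : F, h.P.f (h.P.r ![0, 0, y, 0]) 2 = y := fun y => by rw [h.P.f_r]; rfl
  have hx3 : ∀ y : F, h.P.f (h.P.r ![0, 0, y, 0]) 3 = 0 := fun y => by rw [h.P.f_r]; rfl
  have hinj : Function.Injective (fun y : F => h.cz (pg n (h.P.r ![0, 0, y, 0]) w)) := by
    intro y y' he
    have he' : h.cz (pg n (h.P.r ![0, 0, y, 0]) w) = h.cz (pg n (h.P.r ![0, 0, y', 0]) w) := he
    have hm : h.P.r ![0, 0, y, 0] * h.P.r ![0, 0, y', 0] ∈ W := mul_mem (hx y) (hx y')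
    have hm3 : h.P.f (h.P.r ![0, 0, y, 0] * h.P.r ![0, 0, y', 0]) 3 = 0 := by
      rw [h.f_mul (hx y) (hx y'), Pi.add_apply, hx3, hx3, add_zero]
    have h1 : pg n (h.P.r ![0, 0, y, 0] * h.P.r ![0, 0, y', 0]) w = 1 := by
      apply h.eq_one_of_cz (h.pg_mem hn hm hm3 hw)
      rw [h.pg_mul_left hn (hx y) (hx y') (hx3 y') hw, h.cz_mul (h.pg_mem hn (hx y) (hx3 y) hw)
        (h.pg_mem hn (hx y') (hx3 y') hw), he']
      exact H.add_self _
    have h2 : h.P.r ![0, 0, y, 0] * h.P.r ![0, 0, y', 0] ∈ h.I :=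
      h.reg_base hn hm hm3 hw hw3 (Fam.comm_iff.1 h1)
    have h3 := h2.2.1
    rw [h.f_mul (hx y) (hx y'), Pi.add_apply, hx2, hx2] at h3
    have h4 := H.add_self y'
    linear_combination h3 - h4
  obtain ⟨y, hy⟩ := Finite.surjective_of_injective hinj (h.cz z)
  refine ⟨_, hx y, hx3 y, ?_⟩
  have h1 := h.e_cz (h.pg_mem hn (hx y) (hx3 y) hw)
  have hy' : h.cz (pg n (h.P.r ![0, 0, y, 0]) w) = h.cz z := hy
  rw [hy', h.e_cz hz] at h1
  exact h1.symm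

omit hn

theorem conj_comm_iff {c a w : G} : c * a * c⁻¹ * w = w * (c * a * c⁻¹) ↔ a * (c⁻¹ * w * c) = c⁻¹ * w * c * a := by
  constructor
  · intro h1
    calc a * (c⁻¹ * w * c) = c⁻¹ * (c * a * c⁻¹ * w) * c := by group
      _ = c⁻¹ * (w * (c * a * c⁻¹)) * c := by rw [h1]
      _ = _ := by group
  · intro h1
    calc c * a * c⁻¹ * w = c * (a * (c⁻¹ * w * c)) * c⁻¹ := by group
      _ = c * (c⁻¹ * w * c * a) * c⁻¹ := by rw [h1]
      _ = _ := by group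

/-- **the family** -/
theorem fam [Finite G] : ∃ Λ : Set (Subgroup G), Fam.Fam (S : Subgroup G) W V Z Λ := by
  have := h.finF
  obtain ⟨n, hn⟩ := h.exists_sw
  refine ⟨{E | ∃ c ∈ normalizer (Z : Set G), E = cj (c * n) h.W3}, ?_⟩
  refine
    { W_comm := h.ab
      Z_le := h.Z_le_W
      Z_cen := fun z hz s hs => h.S_comm_Z hs hz
      Z_card := by rw [h.card_Z]; have := h.eight_le; omega
      E_le := ?_
      E_el := ?_
      E_Z := ?_
      reg := ?_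
      onto := ?_
      S_inv := ?_
      sep := ?_
      fix := ?_ }
  · rintro E ⟨c, hc, rfl⟩ a ha
    exact (h.cj_W3_le hn hc ha).1
  · rintro E ⟨c, hc, rfl⟩
    constructor
    · refine ⟨⟨fun ⟨a, ha⟩ ⟨b, hb⟩ => Subtype.ext ?_⟩⟩
      show a * b = b * a
      rw [mem_cj] at ha hb
      have h1 := h.ab _ ha.1 _ hb.1
      calc a * b = c * n * ((c * n)⁻¹ * a * (c * n) * ((c * n)⁻¹ * b * (c * n))) * (c * n)⁻¹ := by group
        _ = c * n * ((c * n)⁻¹ * b * (c * n) * ((c * n)⁻¹ * a * (c * n))) * (c * n)⁻¹ := by rw [h1]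
        _ = b * a := by group
    · intro a ha
      rw [mem_cj] at ha
      have h1 := h.sq _ ha.1
      have e1 : (c * n)⁻¹ * a * (c * n) * ((c * n)⁻¹ * a * (c * n)) = (c * n)⁻¹ * (a * a) * (c * n) := by group
      rw [e1] at h1
      rw [pow_two]
      have h2 : c * n * ((c * n)⁻¹ * (a * a) * (c * n)) * (c * n)⁻¹ = 1 := by rw [h1]; group
      have e2 : c * n * ((c * n)⁻¹ * (a * a) * (c * n)) * (c * n)⁻¹ = a * a := by group
      rwa [e2] at h2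
  · rintro E ⟨c, hc, rfl⟩ a ha w hw
    exact h.K_comm (h.cj_W3_le hn hc ha).2 hw
  · rintro E ⟨c, hc, rfl⟩ a ha w hw hcomm
    obtain ⟨x, hx, hx3, rfl⟩ := h.mem_cj_W3.1 ha
    have hw' : c⁻¹ * w * c ∈ W := h.conjW' hc hw
    by_cases hw3 : h.P.f (c⁻¹ * w * c) 3 = 0
    · right
      intro b hb
      obtain ⟨y, hy, hy3, rfl⟩ := h.mem_cj_W3.1 hb
      rw [h.conj_comm_iff]
      exact h.comm_one hn hy hy3 hw' hw3
    · left
      have hI := h.reg_base hn hx hx3 hw' hw3 (h.conj_comm_iff.1 hcomm)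
      intro y hy
      rw [h.conj_comm_iff]
      exact h.ab _ (h.I_conj' hn hI) _ (h.conjW' hc hy)
  · rintro E ⟨c, hc, rfl⟩ w hw ⟨b, hb, hbw⟩ z hz
    obtain ⟨y, hy, hy3, rfl⟩ := h.mem_cj_W3.1 hb
    have hw' : c⁻¹ * w * c ∈ W := h.conjW' hc hw
    have hw3 : h.P.f (c⁻¹ * w * c) 3 ≠ 0 := by
      intro hw3
      exact hbw (h.conj_comm_iff.2 (h.comm_one hn hy hy3 hw' hw3))
    have hz' : c⁻¹ * z * c ∈ Z := by
      have := h.conjZ (inv_mem hc) hz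
      rwa [inv_inv] at this
    obtain ⟨x, hx, hx3, hxz⟩ := h.onto_base hn hw' hw3 hz'
    refine ⟨_, h.mem_cj_W3.2 ⟨x, hx, hx3, rfl⟩, ?_⟩
    have e : c * (n * x * n⁻¹) * c⁻¹ * w * (c * (n * x * n⁻¹) * c⁻¹)⁻¹ * w⁻¹ =
      c * (n * x * n⁻¹ * (c⁻¹ * w * c) * (n * x * n⁻¹)⁻¹ * (c⁻¹ * w * c)⁻¹) * c⁻¹ := by group
    rw [e, hxz]
    group
  · rintro E ⟨c, hc, rfl⟩ s hs
    refine ⟨cj (s * c * n) h.W3, ⟨s * c, mul_mem (h.S_le_C hs) hc, rfl⟩, fun a ha => ?_⟩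
    obtain ⟨x, hx, hx3, rfl⟩ := h.mem_cj_W3.1 ha
    exact h.mem_cj_W3.2 ⟨x, hx, hx3, by group⟩
  · intro w hw hall
    -- all conjugates of `w` lie over `M³`
    have key : ∀ c ∈ normalizer (Z : Set G), h.P.f (c * w * c⁻¹) 3 = 0 := by
      intro c hc
      by_contra h3
      have hx : h.P.r ![0, 0, 1, 0] ∈ W := h.P.r_mem _
      have hx2 : h.P.f (h.P.r ![0, 0, 1, 0]) 2 = 1 := by rw [h.P.f_r]; rfl
      have hx3 : h.P.f (h.P.r ![0, 0, 1, 0]) 3 = 0 := by rw [h.P.f_r]; rfl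
      have h1 := hall _ ⟨c⁻¹, inv_mem hc, rfl⟩ _ (h.mem_cj_W3.2 ⟨_, hx, hx3, rfl⟩)
      rw [h.conj_comm_iff, inv_inv] at h1
      have h2 := h.reg_base hn hx hx3 (h.conjW hc hw) h3 h1
      rw [h.mem_I, hx2] at h2
      exact one_ne_zero h2.2.1
    have act3 : ∀ A ∈ Cfsg.Lie.Sz F e, mv A (h.P.f w) 3 = 0 := by
      intro A hA
      obtain ⟨g, hg, hgA⟩ := h.P.exists_ind hA
      rw [← hgA, ← h.f_conj hg hw]
      exact key g hg
    have hU : ∀ a b, mv (H.U a b) (h.P.f w) 0 = 0 := by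
      intro a b
      have h1 := act3 _ (mul_mem H.W_mem (H.U_mem a b))
      rw [mv_mul, mv_W] at h1
      exact h1
    have h3 : h.P.f w 3 = 0 := by
      have := act3 1 (one_mem _)
      rwa [mv_one] at this
    have h0 := hU 0 0
    have h1 := hU 1 0
    have h2 := hU 0 1
    rw [mv_U] at h0 h1 h2
    simp only [Matrix.cons_val_zero, h3, mul_zero, add_zero, zero_mul, one_mul] at h0 h1 h2
    rw [h0, zero_add] at h1 h2
    rw [← h.P.f_ker hw]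
    exact ext4 h0 h1 h2 h3
  · intro w hw hfix
    have hU : ∀ a b, mv (H.U a b) (h.P.f w) = h.P.f w := by
      intro a b
      obtain ⟨s, hs, hsU⟩ := h.Ad.surj a b
      rw [← hsU, ← h.f_conj (h.S_le_C hs) hw]
      have h1 := (h.P.f_ker (mul_mem (h.conjW (h.S_le_C hs) hw) (inv_mem hw))).2 (hfix s hs)
      rw [h.f_mul (h.conjW (h.S_le_C hs) hw) (inv_mem hw), h.f_inv hw] at h1
      funext i
      have h2 := congrFun h1 i
      rw [Pi.add_apply, Pi.zero_apply] at h2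
      have h3 := H.add_self (h.P.f w i)
      linear_combination h2 - h3
    have h1 := hU 1 0
    rw [mv_U] at h1
    have e2 := congrFun h1 2
    have e1 := congrFun h1 1
    have e0 := congrFun h1 0
    simp only [Matrix.cons_val, one_mul, add_eq_left] at e2
    simp only [Matrix.cons_val, e2, map_one, one_mul, mul_zero, add_zero, add_eq_left] at e1
    simp only [Matrix.cons_val, e2, e1, map_one, one_mul, mul_zero, add_zero, add_eq_left] at e0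
    refine (h.memV w).2 ⟨hw, h.P.f w 0, ?_⟩
    exact ext4 rfl e0 e1 e2

end Sit

end Cfsg.Agent.Omega.TwoFFour
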