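import Cfsg.Agent.Omega.TwoFFour.AllPar
import Cfsg.Agent.Omega.TwoFFour.ExtOf
import Cfsg.Agent.Omega.TwoFFour.Known

/-!
# THEOREM 2F4: the end in the leaf NO-3S, without UNIQ

`Sit.all_par_of` : `Sit` with `Z = Ω₁(Z(S))`, `V = V_P`, `V_R ≤ O₂(C_G(Z))` for all `R ∈ P*(S)`, no mutual pair: all
minimal parabolic subgroups and `N(S)` lie in `⟨N(Z), N(V)⟩` (the FF theorem; text #13707);
`Sit.known` : closing.
-/

set_option autoImplicit false

namespace Cfsg.Agent.Omega.TwoFFour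

open Subgroup Cfsg Cfsg.Agent.ZN Cfsg.Agent.Omega.MinPar Cfsg.Agent.Omega.Frame Cfsg.Agent.Omega.FrameLE
open Cfsg.Agent.MinSimple.VModule
open Cfsg.Agent.LieRecognition.SzMatrix (Good)

universe u

namespace Sit

variable {G : Type u} [Group G] [Finite G]
variable {F : Type*} [Field F] {θ : F →+* F} {e : ℕ} {H : Good F θ e} {S : Sylow 2 G} {V Z W : Subgroup G}

/-- `C_G(v)` is of characteristic 2 -/
theorem char2_cen' (hG : IsCharacteristicTwoType G) (hZ : zc (S : Subgroup G) = Z) :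
    ∀ v ∈ Z, v ≠ 1 → centralizer ({v} : Set G) ⊓ centralizer (o2 (centralizer ({v} : Set G)) : Set G) ≤
      o2 (centralizer ({v} : Set G)) := by
  intro v hv hv1
  rw [← hZ] at hv
  obtain ⟨h1, h2, h3⟩ := mem_zc.1 hv
  refine (isLoc_centralizer S h3 hv1 fun s hs => ?_).char2 S hG
  rw [mem_centralizer_singleton_iff]
  exact h2 s hs

/-- **All minimal parabolic subgroups and `N(S)` lie in `⟨N(V), N(Z)⟩`.** -/
theorem all_par_of (h : Sit F H S V Z W) (hFF : FFThm.Stmt.{u}) (hG : IsCharacteristicTwoType G)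
    (hZ : zc (S : Subgroup G) = Z) {P₀ : Subgroup G} (hP₀ : IsParS (S : Subgroup G) P₀)
    (hV : zl (S : Subgroup G) P₀ = V) (hin : AllIn (S : Subgroup G)) (hno : ¬ FF (S : Subgroup G)) :
    (∀ R : Subgroup G, IsPar (S : Subgroup G) R → R ≤ normalizer (Z : Set G) ⊔ normalizer (V : Set G)) ∧
      normalizer ((S : Subgroup G) : Set G) ≤ normalizer (Z : Set G) ⊔ normalizer (V : Set G) :=
  h.all_par hFF hG hZ hP₀ hV hin hno (h.mem_W_of_sq (char2_cen' hG hZ))

/-- **closing** -/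
theorem known (h : Sit F H S V Z W) (hB : RootLemma.Bender.{u}) (h44 : Exits.St1144.{u}) (hFF : FFThm.Stmt.{u})
    (hG : Ctx G) (hF : Full (S : Subgroup G)) (hZ : zc (S : Subgroup G) = Z) {P₀ : Subgroup G}
    (hP₀ : IsParS (S : Subgroup G) P₀) (hV : zl (S : Subgroup G) P₀ = V) (hin : AllIn (S : Subgroup G))
    (hno : ¬ FF (S : Subgroup G)) : IsKnownSimple' G := by
  obtain ⟨h1, h2⟩ := h.all_par_of hFF hG.char2 hZ hP₀ hV hin hno
  exact h.known_of_par hB h44 hG (char2_cen' hG.char2 hZ) hF h2 h1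

end Sit

end Cfsg.Agent.Omega.TwoFFour
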