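import Cfsg.Agent.Omega.TwoFFour.Head

/-!
# THEOREM 2F4, (4): the two field structures

* `phi` : `V / Z` in the two coordinates: `f (e (x, y)) = (phi y, 0, 0, 0)`;
* `exists_cZ_D`, `exists_cZ_W` : the elements `D k`, `W` of `Sz` are induced by elements of `C(Z)`;
* `exists_sig` : `phi (c d) = σ c * phi d` with a field automorphism `σ`;
* `form` : the elements of `B` on `V`.
-/

set_option autoImplicit false
set_option linter.unusedSectionVars false

namespace Cfsg.Agent.Omega.TwoFFour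

open Subgroup Matrix
open Cfsg.Agent.ZN Cfsg.Agent.MinSimple.VModule Cfsg.Agent.Lib.SL2Mat
open Cfsg.Agent.LieRecognition.SzMatrix (Good Umat Umat_def Dmat Dmat_def W_mul_W)
open Cfsg.Agent.Omega.NatPair (NatMod ap ext2)

variable {G : Type*} [Group G]

namespace Sit

variable {F : Type*} [Field F] {θ : F →+* F} {e : ℕ} {H : Good F θ e} {S : Sylow 2 G} {V Z W : Subgroup G}
variable (h : Sit F H S V Z W)

/-- the coordinate of `V / Z` in `W / Z` -/
noncomputable def phi (c : F) : F := h.P.f (h.N.e ![0, c]) 0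

/-- the group `B` -/
abbrev Bo (_h : Sit F H S V Z W) : Subgroup G := normalizer (V : Set G) ⊓ normalizer (Z : Set G)

include h

theorem f_e0 (c : F) : h.P.f (h.N.e ![0, c]) = ![h.phi c, 0, 0, 0] := by
  obtain ⟨-, d, hd⟩ := (h.memV _).1 (h.e_mem 0 c)
  unfold phi
  rw [hd]
  rfl

theorem f_e (x y : F) : h.P.f (h.N.e ![x, y]) = ![h.phi y, 0, 0, 0] := by
  have h1 : h.N.e ![x, y] = h.N.e ![x, 0] * h.N.e ![0, y] := by
    rw [h.e_mul, add_zero, zero_add]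
  have h2 : h.P.f (h.N.e ![x, 0]) = 0 := (h.P.f_ker (h.V_le_W (h.e_mem _ _))).2 ((h.e_memZ x 0).2 rfl)
  rw [h1, h.f_mul (h.V_le_W (h.e_mem _ _)) (h.V_le_W (h.e_mem _ _)), h2, zero_add, h.f_e0]

theorem phi_add (c d : F) : h.phi (c + d) = h.phi c + h.phi d := by
  have h1 : h.N.e ![0, c + d] = h.N.e ![0, c] * h.N.e ![0, d] := by rw [h.e_mul, add_zero]
  unfold phi
  rw [h1, h.f_mul (h.V_le_W (h.e_mem _ _)) (h.V_le_W (h.e_mem _ _))]
  rfl

theorem phi_eq_zero {c : F} : h.phi c = 0 ↔ c = 0 := by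
  rw [← h.e_memZ 0 c, ← h.P.f_ker (h.V_le_W (h.e_mem _ _)), h.f_e]
  constructor
  · intro h1
    rw [h1]
    ext i; fin_cases i <;> rfl
  · intro h1
    exact congrFun h1 0

theorem phi_zero : h.phi 0 = 0 := h.phi_eq_zero.2 rfl

theorem phi_inj : Function.Injective h.phi := by
  intro c d hcd
  have h1 : h.phi (c + d) = 0 := by rw [h.phi_add, hcd]; exact H.add_self _
  have h2 := h.phi_eq_zero.1 h1
  have h3 := H.add_self d
  linear_combination h2 - h3

/-! ### Elements of `C(Z)` -/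

theorem cZ_le : centralizer (Z : Set G) ≤ normalizer (Z : Set G) := centralizer_le_normalizer _

theorem C_norm_cZ {g c : G} (hg : g ∈ normalizer (Z : Set G)) (hc : c ∈ centralizer (Z : Set G)) :
    g * c * g⁻¹ ∈ centralizer (Z : Set G) := by
  rw [mem_centralizer_iff] at hc ⊢
  intro z hz
  have h1 := hc _ (h.conjZ (inv_mem hg) hz)
  rw [inv_inv] at h1
  calc z * (g * c * g⁻¹) = g * ((g⁻¹ * z * g) * c) * g⁻¹ := by group
    _ = g * (c * (g⁻¹ * z * g)) * g⁻¹ := by rw [h1]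
    _ = g * c * g⁻¹ * z := by group

theorem ind_U [Finite G] (a b : F) : ∃ g ∈ centralizer (Z : Set G), h.P.Ind g (H.U a b) := by
  obtain ⟨s, hs, hsU⟩ := h.Ad.surj a b
  exact ⟨s, h.SZ hs, hsU⟩

theorem ind_mul {A B : GL (Fin 4) F} (hA : ∃ g ∈ centralizer (Z : Set G), h.P.Ind g A)
    (hB : ∃ g ∈ centralizer (Z : Set G), h.P.Ind g B) : ∃ g ∈ centralizer (Z : Set G), h.P.Ind g (A * B) := by
  obtain ⟨g, hg, hgA⟩ := hA
  obtain ⟨k, hk, hkB⟩ := hB
  exact ⟨g * k, mul_mem hg hk, hgA.mul (h.cZ_le hg) (h.cZ_le hk) hkB⟩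

theorem ind_inv {A : GL (Fin 4) F} (hA : ∃ g ∈ centralizer (Z : Set G), h.P.Ind g A) :
    ∃ g ∈ centralizer (Z : Set G), h.P.Ind g A⁻¹ := by
  obtain ⟨g, hg, hgA⟩ := hA
  exact ⟨g⁻¹, inv_mem hg, hgA.inv (h.cZ_le hg)⟩

theorem ind_conj {A B : GL (Fin 4) F} (hA : ∃ g ∈ centralizer (Z : Set G), h.P.Ind g A)
    (hB : B ∈ Cfsg.Lie.Sz F e) : ∃ g ∈ centralizer (Z : Set G), h.P.Ind g (B * A * B⁻¹) := by
  obtain ⟨g, hg, hgA⟩ := hA
  obtain ⟨k, hk, hkB⟩ := h.P.exists_ind hB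
  exact ⟨k * g * k⁻¹, h.C_norm_cZ hk hg,
    SzMod.Ind.mul (mul_mem hk (h.cZ_le hg)) (inv_mem hk) (hkB.mul hk (h.cZ_le hg) hgA) (hkB.inv hk)⟩

theorem exists_cZ_aux [Finite G] : ∃ k : Fˣ, ∃ g ∈ centralizer (Z : Set G),
    h.P.Ind g (Cfsg.Agent.LieRecognition.SzMatrix.W F * H.D k) := by
  set w := Cfsg.Agent.LieRecognition.SzMatrix.W F with hw
  have hww : w * w = 1 := W_mul_W
  have hwi : w⁻¹ = w := inv_eq_of_mul_eq_one_left hww
  have h1 := h.ind_conj (h.ind_U 0 1) H.W_mem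
  rw [← hw, hwi] at h1
  have hmem : w * H.U 0 1 * w ∈ Cfsg.Lie.Sz F e := mul_mem (mul_mem H.W_mem (H.U_mem 0 1)) H.W_mem
  rcases H.bruhat hmem with ⟨a, b, k, hk⟩ | ⟨a, b, c, d, k, hk⟩
  · exfalso
    have h2 : mv (w * H.U 0 1 * w) ![1, 0, 0, 0] 2 = 1 := by
      rw [mv_mul, mv_mul, mv_W, mv_U, mv_W]
      simp
    rw [hk, mv_mul, mv_D, mv_U] at h2
    simp at h2
  · refine ⟨k, ?_⟩
    rw [hk, ← hw] at h1
    have h3 := h.ind_mul (h.ind_inv (h.ind_U a b)) h1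
    have e1 : (H.U a b)⁻¹ * (H.U a b * w * (H.U c d * H.D k)) = w * H.U c d * H.D k := by group
    rw [e1] at h3
    -- remove the middle factor: conjugate it
    obtain ⟨c', d', hcd⟩ : ∃ c' d', H.U c d * H.D k = H.D k * H.U c' d' := by
      have h4 := H.D_mul_U k⁻¹ c d
      refine ⟨c * ((k⁻¹ : Fˣ) : F) ^ 2 * (θ ((k⁻¹ : Fˣ) : F))⁻¹, d * θ ((k⁻¹ : Fˣ) : F), ?_⟩
      have h5 : H.D k * (H.D k⁻¹ * H.U c d) = H.U c d := by
        rw [← mul_assoc, H.D_mul, mul_inv_cancel, H.D_one, one_mul]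
      rw [h4] at h5
      rw [← h5, mul_assoc, mul_assoc, H.D_mul, inv_mul_cancel, H.D_one, mul_one]
    have h4 := h.ind_mul h3 (h.ind_inv (h.ind_U c' d'))
    have e2 : w * H.U c d * H.D k * (H.U c' d')⁻¹ = w * H.D k := by
      rw [mul_assoc w, hcd]; group
    rwa [e2] at h4

/-- the torus of `Sz` is induced by elements of `C(Z)` -/
theorem exists_cZ_D [Finite G] (k : Fˣ) : ∃ g ∈ centralizer (Z : Set G), h.P.Ind g (H.D k) := by
  have := h.finF
  have := h.char_two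
  obtain ⟨k₀, h1⟩ := h.exists_cZ_aux
  obtain ⟨l, hl⟩ : ∃ l : Fˣ, l⁻¹ * l⁻¹ = k := by
    have hinj : Function.Injective (fun l : Fˣ => l⁻¹ * l⁻¹) := by
      intro x y hxy
      have h2 : (x⁻¹ * y) * (x⁻¹ * y) = 1 := by
        have hxy' : x⁻¹ * x⁻¹ = y⁻¹ * y⁻¹ := hxy
        calc (x⁻¹ * y) * (x⁻¹ * y) = (x⁻¹ * x⁻¹) * (y * y) := by
              rw [mul_mul_mul_comm]
          _ = 1 := by rw [hxy']; group
      have h3 : ((x⁻¹ * y : Fˣ) : F) * ((x⁻¹ * y : Fˣ) : F) = 1 := by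
        have := congrArg Units.val h2
        simpa using this
      have h4 : (((x⁻¹ * y : Fˣ) : F) + 1) ^ 2 = 0 := by
        have := H.two
        linear_combination h3 + (((x⁻¹ * y : Fˣ) : F) + 1) * this
      have h5 : ((x⁻¹ * y : Fˣ) : F) = 1 := by
        have h6 := pow_eq_zero_iff (two_ne_zero) |>.1 h4
        have := H.two
        linear_combination h6 - this
      have h6 : x⁻¹ * y = 1 := Units.ext h5
      exact inv_mul_eq_one.1 h6
    exact Finite.surjective_of_injective hinj k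
  have h2 := h.ind_conj h1 (H.D_mem l)
  have h3 := h.ind_mul h1 h2
  have e1 : Cfsg.Agent.LieRecognition.SzMatrix.W F * H.D k₀ *
      (H.D l * (Cfsg.Agent.LieRecognition.SzMatrix.W F * H.D k₀) * (H.D l)⁻¹) = H.D k := by
    have h4 : H.D l * Cfsg.Agent.LieRecognition.SzMatrix.W F = Cfsg.Agent.LieRecognition.SzMatrix.W F * H.D l⁻¹ := by
      rw [H.W_mul_D, inv_inv]
    calc Cfsg.Agent.LieRecognition.SzMatrix.W F * H.D k₀ *
        (H.D l * (Cfsg.Agent.LieRecognition.SzMatrix.W F * H.D k₀) * (H.D l)⁻¹)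
        = Cfsg.Agent.LieRecognition.SzMatrix.W F * H.D k₀ * ((H.D l * Cfsg.Agent.LieRecognition.SzMatrix.W F) *
            H.D k₀ * (H.D l)⁻¹) := by group
      _ = (Cfsg.Agent.LieRecognition.SzMatrix.W F * H.D k₀) * Cfsg.Agent.LieRecognition.SzMatrix.W F *
            (H.D l⁻¹ * H.D k₀ * (H.D l)⁻¹) := by rw [h4]; group
      _ = H.D k := by
        rw [H.W_mul_D, H.D_inv, mul_assoc (H.D k₀⁻¹), W_mul_W, mul_one, H.D_mul, H.D_mul, H.D_mul]
        congr 1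
        rw [← hl]
        calc k₀⁻¹ * (l⁻¹ * k₀ * l⁻¹) = (k₀⁻¹ * k₀) * (l⁻¹ * l⁻¹) := by
              rw [mul_comm l⁻¹ k₀, mul_assoc k₀, mul_assoc]
          _ = _ := by rw [inv_mul_cancel, one_mul]
  rwa [e1] at h3

theorem exists_cZ_W [Finite G] : ∃ g ∈ centralizer (Z : Set G), h.P.Ind g (Cfsg.Agent.LieRecognition.SzMatrix.W F) := by
  obtain ⟨k₀, h1⟩ := h.exists_cZ_aux
  have h2 := h.ind_mul h1 (h.ind_inv (h.exists_cZ_D k₀))
  rwa [mul_inv_cancel_right] at h2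

/-! ### The elements of `B` on `V` -/

theorem mem_M_of_line [Finite G] {g : G} (hg : g ∈ normalizer (Z : Set G))
    (hl : ∀ c, ∃ d, h.P.act g ![c, 0, 0, 0] = ![d, 0, 0, 0]) : g ∈ normalizer (V : Set G) := by
  refine mem_normalizer_of_map_le ?_
  rintro _ ⟨v, hv, rfl⟩
  obtain ⟨hvW, c, hc⟩ := (h.memV v).1 hv
  obtain ⟨d, hd⟩ := hl c
  refine (h.memV _).2 ⟨h.conjW hg hvW, d, ?_⟩
  show h.P.f (g * v * g⁻¹) = _
  rw [h.f_conj hg hvW, hc, hd]

theorem form_cZ {g : G} (hg : g ∈ normalizer (V : Set G)) (hgZ : g ∈ centralizer (Z : Set G)) :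
    ∃ τ l : F, ∀ x y, g * h.N.e ![x, y] * g⁻¹ = h.N.e ![x + τ * y, l * y] := by
  have := h.finF
  obtain ⟨s, hs⟩ := h.N.exists_semi hg
  have h1 : ∀ c, h.N.act g ![c, 0] = ![c, 0] := fun c =>
    (h.N.commute_e hg).1 (mem_centralizer_iff.1 hgZ _ ((h.e_memZ c 0).2 rfl)).symm
  have h2 : ∀ c, s c = c := by
    intro c
    have h3 := hs c ![1, 0]
    rw [h1] at h3
    have h4 : (c • ![1, 0] : Fin 2 → F) = ![c, 0] := by apply ext2 <;> simp
    rw [h4, h1] at h3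
    have h5 := congrFun h3 0
    simpa using h5.symm
  refine ⟨h.N.act g ![0, 1] 0, h.N.act g ![0, 1] 1, fun x y => ?_⟩
  have e1 : (![x, y] : Fin 2 → F) = ![x, 0] + y • ![0, 1] := by apply ext2 <;> simp
  rw [← h.N.e_act hg, e1, h.N.act_add hg, h1, hs, h2]
  congr 1
  apply ext2
  · simp [mul_comm]
  · simp [mul_comm]

theorem form {g : G} (hg : g ∈ h.Bo) : ∃ (ρ : F ≃+* F) (a τ l : F),
    ∀ x y, g * h.N.e ![x, y] * g⁻¹ = h.N.e ![a * ρ x + τ * ρ y, l * ρ y] := by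
  have := h.finF
  obtain ⟨s, hs⟩ := h.N.exists_semi hg.1
  have h1 : h.N.act g ![1, 0] 1 = 0 := by
    have h2 := h.conjZ hg.2 ((h.e_memZ 1 0).2 rfl)
    rw [← h.N.e_act hg.1] at h2
    have h3 : h.N.act g ![1, 0] = ![h.N.act g ![1, 0] 0, h.N.act g ![1, 0] 1] := by apply ext2 <;> simp
    rw [h3, h.e_memZ] at h2
    exact h2
  refine ⟨s, h.N.act g ![1, 0] 0, h.N.act g ![0, 1] 0, h.N.act g ![0, 1] 1, fun x y => ?_⟩
  have e1 : (![x, y] : Fin 2 → F) = x • ![1, 0] + y • ![0, 1] := by apply ext2 <;> simp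
  rw [← h.N.e_act hg.1, e1, h.N.act_add hg.1, hs, hs]
  congr 1
  apply ext2
  · simp [mul_comm]
  · simp [h1, mul_comm]

theorem phi_one_ne : h.phi 1 ≠ 0 := fun h1 => one_ne_zero (h.phi_eq_zero.1 h1)

theorem exists_scale [Finite G] (k : Fˣ) : ∃ l : F, ∀ y, h.phi (l * y) = k * h.phi y := by
  obtain ⟨g, hg, hgD⟩ := h.exists_cZ_D k
  have hgC := h.cZ_le hg
  have hgM : g ∈ normalizer (V : Set G) := by
    refine h.mem_M_of_line hgC fun c => ⟨k * c, ?_⟩
    rw [hgD, mv_D]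
    simp
  obtain ⟨τ, l, hgl⟩ := h.form_cZ hgM hg
  refine ⟨l, fun y => ?_⟩
  have h1 := h.f_conj hgC (h.V_le_W (h.e_mem 0 y))
  rw [hgl, h.f_e, h.f_e, hgD, mv_D] at h1
  exact congrFun h1 0

/-- **The two field structures of `V / Z`.** -/
theorem exists_sig [Finite G] : ∃ σ : F ≃+* F, ∀ c d, h.phi (c * d) = σ c * h.phi d := by
  have := h.finF
  have h1 := h.phi_one_ne
  have key : ∀ c d, h.phi (c * d) = h.phi c / h.phi 1 * h.phi d := by
    intro c d
    by_cases hc : c = 0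
    · rw [hc, zero_mul, h.phi_zero, zero_div, zero_mul]
    · have hk : h.phi c / h.phi 1 ≠ 0 := div_ne_zero (fun h2 => hc (h.phi_eq_zero.1 h2)) h1
      obtain ⟨l, hl⟩ := h.exists_scale (Units.mk0 _ hk)
      have h2 := hl 1
      rw [mul_one, Units.val_mk0, div_mul_cancel₀ _ h1] at h2
      have h3 := h.phi_inj h2
      have h4 := hl d
      rw [h3, Units.val_mk0] at h4
      exact h4
  let f : F →+* F :=
    { toFun := fun c => h.phi c / h.phi 1
      map_one' := div_self h1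
      map_mul' := fun c d => by rw [key, mul_div_assoc]
      map_zero' := by rw [h.phi_zero, zero_div]
      map_add' := fun c d => by rw [h.phi_add, add_div] }
  exact ⟨RingEquiv.ofBijective f ⟨f.injective, Finite.surjective_of_injective f.injective⟩, key⟩

/-- the field automorphism -/
noncomputable def sig [Finite G] : F ≃+* F := h.exists_sig.choose

theorem phi_mul [Finite G] (c d : F) : h.phi (c * d) = h.sig c * h.phi d := h.exists_sig.choose_spec c d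

omit h in
theorem aut_theta (H : Good F θ e) (ρ : F ≃+* F) (x : F) : ρ (θ x) = θ (ρ x) := by
  rw [← H.pow, ← H.pow, map_pow]

end Sit

end Cfsg.Agent.Omega.TwoFFour
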