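import Cfsg.Agent.Omega.TwoFFour.Path

/-!
# THEOREM 2F4, (GEN) and the centralisers of the weights

* `Oct.gen` : a subgroup of `B` which centralises `W₋₂`, `W₂`, `W₄` is trivial;
* `Oct.mem_Q`, `Oct.mem_cen` : an element of a Sylow group of an edge, resp. of `Q_j`, which commutes with a
  torus element without fixed points on the section lies in `Q_j`, resp. centralises `W_j`.
-/

set_option autoImplicit false
set_option linter.unusedSectionVars false

namespace Cfsg.Agent.Omega.TwoFFour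

open Subgroup Cfsg.Agent.Omega.BTwo Cfsg.Agent.RankTwoClose

namespace Oct

variable {G : Type*} [Group G] {P Q : Bool → Subgroup G} {n : Bool → G} {B S H Z W O : Subgroup G}
  {N : ℕ} {θ : ZMod N} {x y : G → ZMod N}

section gen

variable (h : Oct P Q n B S H Z W O θ x y)
include h

theorem sq_mem (i : Bool) : n i * n i ∈ B := h.frame.H₁_le (h.frame.sq_mem i)

theorem sq_mem' (i : Bool) : (n i)⁻¹ * (n i)⁻¹ ∈ B := by
  have := inv_mem (h.sq_mem i)
  rwa [mul_inv_rev] at this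

/-- conjugation by `n i` preserves `N_B(H)` -/
theorem conj_H₁ (i : Bool) {b : G} (hb : b ∈ B) (hb' : b ∈ normalizer (H : Set G)) :
    (n i)⁻¹ * b * n i ∈ B := h.frame.H₁_le (h.frame.conj_mem' i ⟨hb, hb'⟩)

theorem sq_norm (i : Bool) : n i * n i ∈ normalizer (H : Set G) := mul_mem (h.n_norm i) (h.n_norm i)

/-- `n₁ W₋₂ n₁⁻¹ = W₄` -/
theorem cj_W₄ : cj (n true) (cj (n true * n false)⁻¹ W) =
    cj ((n true * n false) * (n true * n false)) W := by
  have h1 : cj (((n true * n false) * (n true * n false))⁻¹ * (n true * (n true * n false)⁻¹)) W = W := by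
    apply h.cj_W
    -- the element is `n₀⁻¹ (n₁⁻¹ (n₀⁻¹ n₀⁻¹) n₁) (n₁⁻¹ n₁⁻¹)`
    have e : ((n true * n false) * (n true * n false))⁻¹ * (n true * (n true * n false)⁻¹) =
        (n false)⁻¹ * (((n true)⁻¹ * ((n false)⁻¹ * (n false)⁻¹) * n true) *
          ((n true)⁻¹ * (n true)⁻¹)) := by group
    rw [e]
    refine mul_mem (inv_mem (h.n_mem false)) (h.B_le false (mul_mem ?_ (h.sq_mem' true)))
    exact h.conj_H₁ true (h.sq_mem' false)
      (mul_mem (inv_mem (h.n_norm false)) (inv_mem (h.n_norm false)))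
  rw [← cj_mul]
  conv_rhs => rw [← h1]
  rw [← cj_mul]
  congr 1
  group

/-- **(GEN)** -/
theorem gen {D : Subgroup G} (hD : D ≤ B)
    (h1 : ∀ d ∈ D, ∀ w ∈ cj (n true * n false)⁻¹ W, d * w = w * d)
    (h2 : ∀ d ∈ D, ∀ w ∈ cj (n true * n false) W, d * w = w * d)
    (h3 : ∀ d ∈ D, ∀ w ∈ cj ((n true * n false) * (n true * n false)) W, d * w = w * d) : D = ⊥ := by
  set C := centralizer (D : Set G) with hC
  have hmem : ∀ {g : G}, g ∈ C ↔ ∀ d ∈ D, d * g = g * d := fun {g} => mem_centralizer_iff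
  have hW1 : cj (n true * n false)⁻¹ W ≤ C := fun w hw => hmem.2 fun d hd => h1 d hd w hw
  have hW2 : cj (n true * n false) W ≤ C := fun w hw => hmem.2 fun d hd => h2 d hd w hw
  have hW3 : cj ((n true * n false) * (n true * n false)) W ≤ C :=
    fun w hw => hmem.2 fun d hd => h3 d hd w hw
  -- transitive on the panel of `P₀`
  have t0 : ∀ p ∈ P false, ∃ c ∈ C, c⁻¹ * p ∈ B := by
    intro p hp
    obtain ⟨c, hc, hcp⟩ := h.gen₀ p hp
    exact ⟨c, (sup_le hW2 hW1) hc, hcp⟩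
  -- transitive on the panel of `P₁`
  have t1 : ∀ p ∈ P true, ∃ c ∈ C, c⁻¹ * p ∈ B := by
    have key : ∀ s ∈ S, ∀ c ∈ B, ∃ r ∈ C, ∃ c' ∈ B, s * n true * c = r * n true * c' := by
      intro s hs c hc
      obtain ⟨r, hr, hrs⟩ := h.gen₁ s hs
      refine ⟨r, hW1 hr.1, (n true)⁻¹ * (r⁻¹ * s) * n true * c, ?_, by group⟩
      have h4 := h.Q_nrm true _ (inv_mem (h.n_mem true)) _ hrs
      rw [inv_inv] at h4
      exact mul_mem (h.S_le (h.Q_le true h4)) hc
    obtain ⟨s₀, hs₀, hs₀'⟩ := h.Q_ne true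
    obtain ⟨f, hf, hfs⟩ := h.gen₁ s₀ hs₀
    have hfQ : f ∉ Q true := by
      intro hfQ
      apply hs₀'
      have : s₀ = f * (f⁻¹ * s₀) := by group
      rw [this]
      exact mul_mem hfQ hfs
    have hfS : f ∈ S := h.Q_le false hf.2
    set e := n true * f * (n true)⁻¹ with he
    have heC : e ∈ C := by
      apply hW3
      rw [← h.cj_W₄]
      exact conj_mem_cj hf.1
    have heP : e ∈ P true := mul_mem (mul_mem (h.n_mem true) (h.B_le true (h.S_le hfS)))
      (inv_mem (h.n_mem true))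
    have heB : e ∉ B := by
      intro heB
      apply hfQ
      apply h.Q_max true f hfS
      have e1 : (n true)⁻¹ * f * n true = (n true * n true)⁻¹ * e * (n true * n true) := by
        rw [he]; group
      rw [e1]
      exact mul_mem (mul_mem (inv_mem (h.sq_mem true)) heB) (h.sq_mem true)
    have hn : ∃ c ∈ C, ∃ b ∈ B, n true = c * b := by
      rcases (h.memP true e).1 heP with h5 | ⟨s, hs, c, hc, e1⟩
      · exact absurd h5 heB
      · obtain ⟨r, hr, c', hc', h6⟩ := key s hs c hc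
        refine ⟨r⁻¹ * e, mul_mem (inv_mem hr) heC, c'⁻¹, inv_mem hc', ?_⟩
        rw [e1, h6]
        group
    obtain ⟨c₀, hc₀, b₀, hb₀, e₀⟩ := hn
    intro p hp
    rcases (h.memP true p).1 hp with h5 | ⟨s, hs, c, hc, rfl⟩
    · exact ⟨1, one_mem _, by rwa [inv_one, one_mul]⟩
    · obtain ⟨r, hr, c', hc', h6⟩ := key s hs c hc
      refine ⟨r * c₀, mul_mem hr hc₀, ?_⟩
      rw [h6, e₀]
      have : (r * c₀)⁻¹ * (r * (c₀ * b₀) * c') = b₀ * c' := by group
      rw [this]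
      exact mul_mem hb₀ hc'
  -- `C B` is closed under right multiplication
  have tt : ∀ i, ∀ p ∈ P i, ∃ c ∈ C, c⁻¹ * p ∈ B := by
    rintro (_ | _)
    · exact t0
    · exact t1
  let T : Set G := {g | ∃ c ∈ C, c⁻¹ * g ∈ B}
  have hT : ∀ i, ∀ p ∈ P i, ∀ g ∈ T, g * p ∈ T := by
    rintro i p hp g ⟨c, hc, hcg⟩
    obtain ⟨c', hc', h4⟩ := tt i (c⁻¹ * g * p) (mul_mem (h.B_le i hcg) hp)
    refine ⟨c * c', mul_mem hc hc', ?_⟩
    have : (c * c')⁻¹ * (g * p) = c'⁻¹ * (c⁻¹ * g * p) := by group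
    rwa [this]
  let St : Subgroup G :=
    { carrier := {g | (∀ t ∈ T, t * g ∈ T) ∧ ∀ t ∈ T, t * g⁻¹ ∈ T}
      one_mem' := ⟨fun t ht => by rwa [mul_one], fun t ht => by rwa [inv_one, mul_one]⟩
      mul_mem' := by
        rintro a b ⟨ha, ha'⟩ ⟨hb, hb'⟩
        refine ⟨fun t ht => ?_, fun t ht => ?_⟩
        · rw [← mul_assoc]; exact hb _ (ha _ ht)
        · rw [mul_inv_rev, ← mul_assoc]; exact ha' _ (hb' _ ht)
      inv_mem' := by
        rintro a ⟨ha, ha'⟩
        exact ⟨ha', fun t ht => by rw [inv_inv]; exact ha t ht⟩ }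
  have hSt : ∀ i, P i ≤ St := fun i p hp =>
    ⟨fun t ht => hT i p hp t ht, fun t ht => hT i _ (inv_mem hp) t ht⟩
  have hX : ∀ g ∈ P false ⊔ P true, ∃ c ∈ C, c⁻¹ * g ∈ B := by
    intro g hg
    have h4 : g ∈ St := (sup_le (hSt false) (hSt true)) hg
    have h5 := h4.1 1 ⟨1, one_mem _, by rw [inv_one, one_mul]; exact one_mem _⟩
    rwa [one_mul] at h5
  -- the kernel
  let X : Subgroup G := P false ⊔ P true
  let K : Subgroup G := ⨅ g : X, cj (g : G) B
  have hK : ∀ {k : G}, k ∈ K ↔ ∀ g ∈ X, g⁻¹ * k * g ∈ B := by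
    intro k
    rw [mem_iInf]
    exact ⟨fun h4 g hg => mem_cj.1 (h4 ⟨g, hg⟩), fun h4 g => mem_cj.2 (h4 g g.2)⟩
  have hKB : K ≤ B := by
    intro k hk
    have := hK.1 hk 1 (one_mem _)
    simpa using this
  have hPX : ∀ i, P i ≤ X := by
    rintro (_ | _)
    · exact le_sup_left
    · exact le_sup_right
  have hK1 := h.core K hKB (fun i p hp k hk => by
    rw [hK] at hk ⊢
    intro g hg
    have := hk (p⁻¹ * g) (mul_mem (inv_mem (hPX i hp)) hg)
    have e : (p⁻¹ * g)⁻¹ * k * (p⁻¹ * g) = g⁻¹ * (p * k * p⁻¹) * g := by group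
    rwa [e] at this)
  rw [eq_bot_iff, ← hK1]
  intro d hd
  rw [hK]
  intro g hg
  obtain ⟨c, hc, hcg⟩ := hX g hg
  set b := c⁻¹ * g with hb
  have e : g⁻¹ * d * g = b⁻¹ * d * b := by
    have e1 : g = c * b := by rw [hb]; group
    have e2 : c⁻¹ * d * c = d := by
      rw [mul_assoc, hmem.1 hc d hd, ← mul_assoc, inv_mul_cancel, one_mul]
    calc g⁻¹ * d * g = b⁻¹ * (c⁻¹ * d * c) * b := by rw [e1]; group
      _ = b⁻¹ * d * b := by rw [e2]
  rw [e]
  exact mul_mem (mul_mem (inv_mem hcg) (hD hd)) hcg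

end gen

section mem

variable (h : Oct P Q n B S H Z W O θ x y)
include h

/-- commuting with a torus element without fixed points on `S / Q i` -/
theorem mem_Q {i : Bool} {g a s : G} (hg : g ∈ normalizer (H : Set G)) (ha : a ∈ H)
    (hf : fr θ x y i (g⁻¹ * a * g) ≠ 0) (hs : s ∈ cj g S) (hc : a * s = s * a) :
    s ∈ cj g (Q i) := by
  rw [mem_cj] at hs ⊢
  refine h.free i _ (h.H_conj hg ha) hf _ hs ?_
  have e : g⁻¹ * a * g * (g⁻¹ * s * g) * (g⁻¹ * a * g)⁻¹ * (g⁻¹ * s * g)⁻¹ =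
      g⁻¹ * (a * s * a⁻¹ * s⁻¹) * g := by group
  rw [e, hc]
  have e2 : g⁻¹ * (s * a * a⁻¹ * s⁻¹) * g = 1 := by group
  rw [e2]
  exact one_mem _

/-- the element `s ∈ Q₀` centralises `W` -/
theorem mem_cen₀ {a s : G} (ha : a ∈ H) (hs : s ∈ Q false) (hc : a * s = s * a)
    (c1 : y a ≠ x a) (c2 : θ * x a - y a ≠ x a)
    (c3 : (θ - 1) * (x a + y a) ≠ x a ∨ ∀ z ∈ O, s * z = z * s)
    (c4 : (θ - 1) * (x a + (θ * x a - y a)) ≠ x a ∨ ∀ z ∈ cj (n false) O, s * z = z * s) :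
    s ∈ centralizer (W : Set G) := by
  set a' := (n false)⁻¹ * a * n false with ha'
  set s' := (n false)⁻¹ * s * n false with hs'
  have haH : a' ∈ H := h.n_conj' false ha
  have hsQ : s' ∈ Q false := by
    have := h.Q_nrm false _ (inv_mem (h.n_mem false)) s hs
    rwa [inv_inv] at this
  have hc' : a' * s' = s' * a' := by
    have e1 : a' * s' = (n false)⁻¹ * (a * s) * n false := by rw [ha', hs']; group
    have e2 : s' * a' = (n false)⁻¹ * (s * a) * n false := by rw [ha', hs']; group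
    rw [e1, e2, hc]
  -- transport through `n₀`
  have tr : ∀ {K : Subgroup G}, (∀ z ∈ K, s' * z = z * s') → ∀ z ∈ cj (n false) K, s * z = z * s := by
    intro K hK z hz
    have h1 := hK _ (mem_cj.1 hz)
    have e1 : s * z = n false * (s' * ((n false)⁻¹ * z * n false)) * (n false)⁻¹ := by
      rw [hs']; group
    have e2 : z * s = n false * (((n false)⁻¹ * z * n false) * s') * (n false)⁻¹ := by
      rw [hs']; group
    rw [e1, e2, h1]
  have hx' : x a' = x a := h.x₀ a ha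
  have hy' : y a' = θ * x a - y a := h.y₀ a ha
  have k0 : ∀ z ∈ Z, s * z = z * s := fun z hz => (h.Z_cen z hz s (h.Q_le false hs)).symm
  have k1 : ∀ z ∈ cj (n true) Z, s * z = z * s := h.fixZ a ha s hs hc c1
  have k2 : ∀ z ∈ cj (n false * n true) Z, s * z = z * s := by
    rw [cj_mul]
    exact tr (h.fixZ a' haH s' hsQ hc' (by rw [hx', hy']; exact c2))
  have k3 : ∀ z ∈ O, s * z = z * s := by
    rcases c3 with c3 | c3
    · exact h.fixO a ha s hs hc c3
    · exact c3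
  have k4 : ∀ z ∈ cj (n false) O, s * z = z * s := by
    rcases c4 with c4 | c4
    · exact tr (h.fixO a' haH s' hsQ hc' (by rw [hx', hy']; exact c4))
    · exact c4
  have hle : W ≤ centralizer ({s} : Set G) := by
    refine h.W_gen.trans ?_
    have aux : ∀ {K : Subgroup G}, (∀ z ∈ K, s * z = z * s) → K ≤ centralizer ({s} : Set G) :=
      fun hK z hz => mem_centralizer_singleton_iff.2 (hK z hz).symm
    exact sup_le (sup_le (sup_le (sup_le (aux k0) (aux k1)) (aux k2)) (aux k3)) (aux k4)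
  rw [mem_centralizer_iff]
  intro w hw
  exact mem_centralizer_singleton_iff.1 (hle hw)

/-- `mem_cen₀` at the vertex `g u₀`. -/
theorem mem_cen {g a s : G} (hg : g ∈ normalizer (H : Set G)) (ha : a ∈ H)
    (hs : s ∈ cj g (Q false)) (hc : a * s = s * a)
    (c1 : y (g⁻¹ * a * g) ≠ x (g⁻¹ * a * g))
    (c2 : θ * x (g⁻¹ * a * g) - y (g⁻¹ * a * g) ≠ x (g⁻¹ * a * g))
    (c3 : (θ - 1) * (x (g⁻¹ * a * g) + y (g⁻¹ * a * g)) ≠ x (g⁻¹ * a * g) ∨
      ∀ z ∈ cj g O, s * z = z * s)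
    (c4 : (θ - 1) * (x (g⁻¹ * a * g) + (θ * x (g⁻¹ * a * g) - y (g⁻¹ * a * g))) ≠ x (g⁻¹ * a * g) ∨
      ∀ z ∈ cj g (cj (n false) O), s * z = z * s) :
    s ∈ cj g (centralizer (W : Set G)) := by
  rw [mem_cj] at hs ⊢
  have tr : ∀ {K : Subgroup G}, (∀ z ∈ cj g K, s * z = z * s) →
      ∀ z ∈ K, g⁻¹ * s * g * z = z * (g⁻¹ * s * g) := by
    intro K hK z hz
    have h1 := hK _ (conj_mem_cj hz)
    have e1 : g⁻¹ * s * g * z = g⁻¹ * (s * (g * z * g⁻¹)) * g := by group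
    have e2 : z * (g⁻¹ * s * g) = g⁻¹ * ((g * z * g⁻¹) * s) * g := by group
    rw [e1, e2, h1]
  refine h.mem_cen₀ (h.H_conj hg ha) hs ?_ c1 c2 (c3.imp id tr) (c4.imp id tr)
  have e1 : g⁻¹ * a * g * (g⁻¹ * s * g) = g⁻¹ * (a * s) * g := by group
  have e2 : g⁻¹ * s * g * (g⁻¹ * a * g) = g⁻¹ * (s * a) * g := by group
  rw [e1, e2, hc]

end mem

end Oct

end Cfsg.Agent.Omega.TwoFFour
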