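import Cfsg.Agent.Omega.TwoFFour.SzModB

/-!
# Natural `Sz(q)`-modules: torus elements

* `Semi g mu A σ`: `g` acts as `v ↦ mu • A (σ v)`; `Semi.mul`, `Semi.inv`, `Semi.unique`, `Semi.conj_ind`;
* `Tor g mu k σ`: `g` acts as `v ↦ mu • D k (σ v)`: `Tor.coord`, `Tor.mul`, `Tor.inv`, `Tor.conj_U`;
* `exists_tor`: an element of `C` fixing `F e₀` and `F e₃` is a torus element; `exists_diag`: adapted coordinates such that
  a second line is `F e₃`.
-/

set_option autoImplicit false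
set_option linter.unusedSectionVars false

namespace Cfsg.Agent.Omega.TwoFFour

open Subgroup Cfsg.Agent.LieRecognition.SzMatrix Cfsg.Agent.ThreePrime.SzRel
open Cfsg.Agent.Omega.NatPair (cj mem_cj)

variable {F : Type*} [Field F] {θ : F →+* F} {e : ℕ}

/-- a field automorphism applied to a vector -/
def fa (σ : F ≃+* F) (v : Fin 4 → F) : Fin 4 → F := fun i => σ (v i)

theorem fa_smul (σ : F ≃+* F) (c : F) (v : Fin 4 → F) : fa σ (c • v) = σ c • fa σ v := by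
  funext i
  simp [fa]

theorem fa_mul (σ τ : F ≃+* F) (v : Fin 4 → F) : fa (σ * τ) v = fa σ (fa τ v) := rfl

theorem fa_one (v : Fin 4 → F) : fa 1 v = v := rfl

theorem fa_single (σ : F ≃+* F) (i : Fin 4) (c : F) : fa σ (Pi.single i c) = Pi.single i (σ c) := by
  funext j
  unfold fa
  by_cases h : j = i
  · subst h; simp
  · simp [h]

theorem fa_inv (σ : F ≃+* F) (v : Fin 4 → F) : fa σ⁻¹ (fa σ v) = v := by
  rw [← fa_mul, inv_mul_cancel, fa_one]

theorem fa_inv' (σ : F ≃+* F) (v : Fin 4 → F) : fa σ (fa σ⁻¹ v) = v := by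
  rw [← fa_mul, mul_inv_cancel, fa_one]

theorem σθ (H : Good F θ e) (σ : F ≃+* F) (x : F) : σ (θ x) = θ (σ x) := Std.theta_comm H (σ : F →+* F) x

theorem fa_U (H : Good F θ e) (σ : F ≃+* F) (a b : F) (v : Fin 4 → F) :
    fa σ (mv (H.U a b) v) = mv (H.U (σ a) (σ b)) (fa σ v) := by
  rw [mv_U, mv_U]
  apply ext4 <;> simp [fa, σθ H]

theorem fa_D (H : Good F θ e) (σ : F ≃+* F) (k : Fˣ) (v : Fin 4 → F) :
    fa σ (mv (H.D k) v) = mv (H.D (Units.map (σ : F →* F) k)) (fa σ v) := by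
  rw [mv_D, mv_D]
  apply ext4 <;> simp [fa, σθ H]

theorem fa_W (σ : F ≃+* F) (v : Fin 4 → F) : fa σ (mv (W F) v) = mv (W F) (fa σ v) := by
  rw [mv_W, mv_W]
  apply ext4 <;> rfl

/-- field automorphisms normalise `Sz` -/
theorem fa_Sz (H : Good F θ e) (σ : F ≃+* F) {A : GL (Fin 4) F} (hA : A ∈ Cfsg.Lie.Sz F e) :
    ∃ B ∈ Cfsg.Lie.Sz F e, ∀ v, fa σ (mv A v) = mv B (fa σ v) := by
  rcases H.bruhat hA with ⟨a, b, k, rfl⟩ | ⟨a, b, c, d, k, rfl⟩
  · refine ⟨H.U (σ a) (σ b) * H.D (Units.map (σ : F →* F) k), mul_mem (H.U_mem _ _) (H.D_mem _), fun v => ?_⟩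
    rw [mv_mul, fa_U, fa_D, mv_mul]
  · refine ⟨H.U (σ a) (σ b) * W F * (H.U (σ c) (σ d) * H.D (Units.map (σ : F →* F) k)),
      mul_mem (mul_mem (H.U_mem _ _) H.W_mem) (mul_mem (H.U_mem _ _) (H.D_mem _)), fun v => ?_⟩
    rw [mv_mul, mv_mul, mv_mul, fa_U, fa_W, fa_U, fa_D, mv_mul, mv_mul, mv_mul]

variable {G : Type*} [Group G]

namespace SzMod

variable {H : Good F θ e} {C W Z : Subgroup G} (M : SzMod H C W Z)

/-- `g` acts as `v ↦ mu • A (σ v)` -/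
def Semi (g : G) (mu : Fˣ) (A : GL (Fin 4) F) (σ : F ≃+* F) : Prop :=
  ∀ v, M.act g v = (mu : F) • mv A (fa σ v)

theorem semi_iff_ind {g : G} {A : GL (Fin 4) F} : M.Semi g 1 A 1 ↔ M.Ind g A := by
  constructor
  · intro h v
    rw [h, fa_one, Units.val_one, one_smul]
  · intro h v
    rw [h, fa_one, Units.val_one, one_smul]

theorem exists_Semi [Fintype F] {m : ℕ} (hm : 1 ≤ m) (hF : Fintype.card F = 2 ^ (2 * m + 1)) {g : G} (hg : g ∈ C) :
    ∃ mu, ∃ A ∈ Cfsg.Lie.Sz F e, ∃ σ, M.Semi g mu A σ := by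
  obtain ⟨mu, A, hA, σ, h⟩ := M.exists_semi hm hF hg
  exact ⟨mu, A, hA, σ, h⟩

theorem Semi.unique {M : SzMod H C W Z} {g : G} {mu mu' : Fˣ} {A A' : GL (Fin 4) F} {σ σ' : F ≃+* F}
    (hA : A ∈ Cfsg.Lie.Sz F e) (hA' : A' ∈ Cfsg.Lie.Sz F e) (h : M.Semi g mu A σ) (h' : M.Semi g mu' A' σ') :
    mu = mu' ∧ A = A' ∧ σ = σ' := by
  apply semi_unique H hA hA'
  intro v
  have h1 := h v
  rw [h' v] at h1
  exact h1.symm

/-- `g` acts as a scalar times a torus element times a field automorphism -/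
def Tor (g : G) (mu k : Fˣ) (σ : F ≃+* F) : Prop := M.Semi g mu (H.D k) σ

/-- the scalars of `mu • D k` -/
def ct (θ : F →+* F) (mu k : Fˣ) (i : Fin 4) : F := mu * Std.ch θ k i

theorem ct_zero (mu k : Fˣ) : ct θ mu k 0 = mu * k := rfl
theorem ct_one (mu k : Fˣ) : ct θ mu k 1 = mu * (θ k * (k : F)⁻¹) := rfl
theorem ct_two (mu k : Fˣ) : ct θ mu k 2 = mu * (k * (θ k)⁻¹) := rfl
theorem ct_three (mu k : Fˣ) : ct θ mu k 3 = mu * (k : F)⁻¹ := rfl

theorem Tor.coord {M : SzMod H C W Z} {g : G} {mu k : Fˣ} {σ : F ≃+* F} (h : M.Tor g mu k σ) (v : Fin 4 → F) (i : Fin 4) :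
    M.act g v i = ct θ mu k i * σ (v i) := by
  rw [h v, mv_D]
  fin_cases i <;> simp [ct, Std.ch, fa, mul_assoc]

theorem Tor.single {M : SzMod H C W Z} {g : G} {mu k : Fˣ} {σ : F ≃+* F} (h : M.Tor g mu k σ) (i : Fin 4) (x : F) :
    M.act g (Pi.single i x) = Pi.single i (ct θ mu k i * σ x) := by
  funext j
  rw [h.coord]
  by_cases hj : j = i
  · subst hj; simp
  · simp [hj]

theorem tor_one : M.Tor 1 1 1 1 := by
  intro v
  rw [M.act_one, H.D_one, mv_one, fa_one, Units.val_one, one_smul]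

theorem Tor.mul {M : SzMod H C W Z} {g h : G} (hg : g ∈ C) (hh : h ∈ C) {mu k mu' k' : Fˣ} {σ σ' : F ≃+* F}
    (h1 : M.Tor g mu k σ) (h2 : M.Tor h mu' k' σ') :
    M.Tor (g * h) (mu * Units.map (σ : F →* F) mu') (k * Units.map (σ : F →* F) k') (σ * σ') := by
  intro v
  rw [M.act_mul hg hh, h2, h1, fa_smul, fa_D, mv_smul, ← mv_mul, H.D_mul, fa_mul, smul_smul]
  rfl

theorem Tor.mul_lin {M : SzMod H C W Z} {g h : G} (hg : g ∈ C) (hh : h ∈ C) {mu k mu' k' : Fˣ}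
    (h1 : M.Tor g mu k 1) (h2 : M.Tor h mu' k' 1) : M.Tor (g * h) (mu * mu') (k * k') 1 := by
  have h3 := h1.mul hg hh h2
  rw [one_mul] at h3
  exact h3

theorem Tor.unique {M : SzMod H C W Z} {g : G} {mu mu' k k' : Fˣ} {σ σ' : F ≃+* F}
    (h : M.Tor g mu k σ) (h' : M.Tor g mu' k' σ') : mu = mu' ∧ k = k' ∧ σ = σ' := by
  obtain ⟨h1, h2, h3⟩ := Semi.unique (H.D_mem k) (H.D_mem k') h h'
  exact ⟨h1, H.D_inj h2, h3⟩

/-- conjugation of the elements of `T` -/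
theorem Tor.conj_U {M : SzMod H C W Z} {g s : G} (hg : g ∈ C) (hs : s ∈ C) {mu k : Fˣ} {σ : F ≃+* F}
    (h : M.Tor g mu k σ) {a b : F} (hab : M.Ind s (H.U a b)) :
    M.Ind (g * s * g⁻¹) (H.U (σ a * k ^ 2 * (θ k)⁻¹) (σ b * θ k)) := by
  intro v
  have h1 : M.act (g * s * g⁻¹) (M.act g (M.act g⁻¹ v)) =
      mv (H.U (σ a * k ^ 2 * (θ k)⁻¹) (σ b * θ k)) (M.act g (M.act g⁻¹ v)) := by
    generalize M.act g⁻¹ v = w
    rw [← M.act_mul (mul_mem (mul_mem hg hs) (inv_mem hg)) hg, inv_mul_cancel_right, M.act_mul hg hs, hab, h, h,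
      fa_U, mv_smul, ← mv_mul, ← mv_mul, H.D_mul_U]
  rwa [M.act_act_inv hg] at h1

/-- an element of `C` fixing the lines `F e₀`, `F e₃` -/
theorem exists_tor [Fintype F] {m : ℕ} (hm : 1 ≤ m) (hF : Fintype.card F = 2 ^ (2 * m + 1)) {g : G} (hg : g ∈ C)
    (h0 : M.act g (Pi.single 0 1) 3 = 0) (h3 : ∃ c, M.act g (Pi.single 3 1) = Pi.single 3 c) :
    ∃ mu k σ, M.Tor g mu k σ := by
  obtain ⟨mu, a, b, k, σ, h⟩ := M.exists_borel hm hF hg h0
  obtain ⟨c, hc⟩ := h3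
  have h4 : (fun i => σ ((Pi.single 3 1 : Fin 4 → F) i)) = Pi.single 3 1 := by
    apply ext4 <;> simp
  rw [h, h4, mv_mul, mv_D, mv_U] at hc
  have hmu := mu.ne_zero
  have hk := k.ne_zero
  have e2 := congrFun hc 2
  have e1 := congrFun hc 1
  have ha : a = 0 := by
    simp at e2
    exact e2
  subst ha
  have hb : b = 0 := by
    simp at e1
    exact e1
  subst hb
  refine ⟨mu, k, σ, fun v => ?_⟩
  rw [h, H.U_zero, one_mul]
  rfl

/-- `σ = 1` if `g` is linear on `F e₀` -/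
theorem Tor.eq_one {M : SzMod H C W Z} {g : G} {mu k : Fˣ} {σ : F ≃+* F} (h : M.Tor g mu k σ) {i : Fin 4}
    (hl : ∀ c : F, M.act g (Pi.single i c) = c • M.act g (Pi.single i 1)) : σ = 1 := by
  ext c
  have h1 := hl c
  rw [h.single, h.single] at h1
  have h2 := congrFun h1 i
  rw [Pi.smul_apply, Pi.single_eq_same, Pi.single_eq_same, map_one, mul_one, smul_eq_mul] at h2
  have h3 : ct θ mu k i ≠ 0 := by
    intro h0
    have h4 := h.single i 1
    rw [h0, zero_mul, Pi.single_zero] at h4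
    -- the map is injective
    have h5 : (mu : F) • mv (H.D k) (fa σ (Pi.single i 1)) = 0 := by rw [← h]; exact h4
    rcases smul_eq_zero.1 h5 with h6 | h6
    · exact mu.ne_zero h6
    · rw [fa_single, map_one] at h6
      refine mv_ne (H.D k) ?_ h6
      intro h7
      have := congrFun h7 i
      simp at this
  have h4 : ct θ mu k i * σ c = ct θ mu k i * c := by rw [h2, mul_comm]
  exact mul_left_cancel₀ h3 h4

/-- changing coordinates by an element of `T` -/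
theorem change_ad {S : Subgroup G} (hM : M.Ad S) (a b : F) : (M.change (H.u a b)).Ad S where
  le := hM.le
  exists_U s hs := by
    obtain ⟨x, y, h⟩ := hM.exists_U s hs
    have h1 := M.change_ind (H.u a b) (hM.le hs) h
    have h2 : H.U a b * H.U x y * (H.U a b)⁻¹ ∈ H.unip.map (Cfsg.Lie.Sz F e).subtype :=
      ⟨H.u a b * H.u x y * (H.u a b)⁻¹, mul_mem (mul_mem (H.u_mem_unip _ _) (H.u_mem_unip _ _))
        (inv_mem (H.u_mem_unip _ _)), rfl⟩
    obtain ⟨z, hz, hz'⟩ := h2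
    obtain ⟨c, d, rfl⟩ := (H.mem_unip_iff z).1 hz
    exact ⟨c, d, by rw [show H.U c d = _ from hz']; exact h1⟩
  surj x y := by
    have h2 : (H.u a b)⁻¹ * H.u x y * H.u a b ∈ H.unip :=
      mul_mem (mul_mem (inv_mem (H.u_mem_unip _ _)) (H.u_mem_unip _ _)) (H.u_mem_unip _ _)
    obtain ⟨c, d, hcd⟩ := (H.mem_unip_iff _).1 h2
    obtain ⟨s, hs, h⟩ := hM.surj c d
    refine ⟨s, hs, ?_⟩
    have h1 := M.change_ind (H.u a b) (hM.le hs) h
    have e1 : (H.u a b).1 * H.U c d * (H.u a b).1⁻¹ = H.U x y := by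
      have e2 : H.u a b * H.u c d * (H.u a b)⁻¹ = H.u x y := by rw [← hcd]; group
      exact congrArg Subtype.val e2
    rwa [e1] at h1

/-- every vector on a line `B (F e₀)` off the hyperplane `v₃ = 0` is `c • U a b e₃` -/
theorem exists_U_of (H : Good F θ e) {B : GL (Fin 4) F} (hB : B ∈ Cfsg.Lie.Sz F e) (h3 : mv B (Pi.single 0 1) 3 ≠ 0) :
    ∃ a b : F, ∃ c : F, c ≠ 0 ∧ mv B (Pi.single 0 1) = c • mv (H.U a b) (Pi.single 3 1) := by
  rcases H.bruhat hB with ⟨a, b, k, rfl⟩ | ⟨a, b, c, d, k, rfl⟩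
  · exfalso
    apply h3
    rw [mv_ud_zero]
    simp
  · refine ⟨a, b, k, k.ne_zero, ?_⟩
    rw [mv_mul, mv_ud_zero, mv_mul, ← mv_smul]
    congr 1
    rw [mv_W]
    apply ext4 <;> simp

/-- adapted coordinates in which `g (F e₀)` is `F e₃` -/
theorem exists_diag [Fintype F] {m : ℕ} (hm : 1 ≤ m) (hF : Fintype.card F = 2 ^ (2 * m + 1)) {S : Subgroup G}
    (hM : M.Ad S) {g : G} (hg : g ∈ C) (h3 : M.act g (Pi.single 0 1) 3 ≠ 0) :
    ∃ M' : SzMod H C W Z, M'.Ad S ∧ M'.K = M.K ∧ (∀ x c, M'.f x = Pi.single 0 c ↔ M.f x = Pi.single 0 c) ∧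
      ∃ A ∈ Cfsg.Lie.Sz F e, (∀ x, M'.f x = mv A (M.f x)) ∧ ∀ c, ∃ d, M'.act g (Pi.single 0 c) = Pi.single 3 d := by
  obtain ⟨mu, B, hB, σ, h⟩ := M.exists_semi hm hF hg
  have h4 : (fun i => σ ((Pi.single 0 1 : Fin 4 → F) i)) = Pi.single 0 1 := by
    apply ext4 <;> simp
  have h5 : mv B (Pi.single 0 1) 3 ≠ 0 := by
    intro h0
    apply h3
    rw [h, h4, Pi.smul_apply, h0, smul_zero]
  obtain ⟨a, b, c, hc, hBe⟩ := exists_U_of H hB h5
  -- the inverse of `U a b`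
  have hfix : ∀ (x y c : F), mv (H.U x y) (Pi.single 0 c) = Pi.single 0 c := by
    intro x y c
    exact (fix_T H).2 (by simp) x y
  refine ⟨M.change (H.u a b)⁻¹, ?_, M.change_K _, ?_, (H.U a b)⁻¹, inv_mem (H.U_mem a b), fun x => rfl, ?_⟩
  · rw [H.u_inv]
    exact M.change_ad hM _ _
  · intro x d
    show mv (H.U a b)⁻¹ (M.f x) = _ ↔ _
    constructor
    · intro h6
      rw [← mv_mv_inv (H.U a b) (M.f x), h6, hfix]
    · intro h6
      rw [h6]
      conv_lhs => rw [← hfix a b d]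
      rw [mv_inv_mv]
  · intro d
    refine ⟨mu * σ d * c, ?_⟩
    rw [M.change_act _ hg]
    show mv (H.U a b)⁻¹ (M.act g (mv (H.U a b)⁻¹⁻¹ (Pi.single 0 d))) = _
    rw [inv_inv, hfix, h]
    have h6 : (fun i => σ ((Pi.single 0 d : Fin 4 → F) i)) = σ d • Pi.single 0 1 := by
      apply ext4 <;> simp
    rw [h6, mv_smul, mv_smul, hBe, mv_smul, mv_smul, mv_inv_mv]
    apply ext4 <;> simp [mul_assoc]

end SzMod

end Cfsg.Agent.Omega.TwoFFour
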