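import Cfsg.Agent.Omega.TwoFFour.FOne
import Cfsg.Agent.Omega.TwoFFour.SzTor

/-!
# THEOREM 2F4 (helper279, #12906): the fields `gen₀`, `gen₁`, `omega` of `Oct`

`n` interchanges the coordinates of `V` (the reflection at the line `u₁`), `m ∈ N(Z)`, `m ∉ N(V)` (a reflection at the
point `u₀`).

* `gen_zero` : `W₂`, `W₋₂` generate a group which is transitive on the lines on `u₀`;
* `gen_one` : `W₋₂ ∩ K` is transitive on the points `≠ u₀` of `u₁`;
* `omega_four` : the involutions of `S / Q₀` come from `Z₄`.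
-/

set_option autoImplicit false
set_option linter.unusedSectionVars false

namespace Cfsg.Agent.Omega.TwoFFour

open Subgroup Matrix
open Cfsg.Agent.ZN Cfsg.Agent.MinSimple.VModule Cfsg.Agent.Lib.SL2Mat
open Cfsg.Agent.LieRecognition.SzMatrix (Good Umat Umat_def Dmat Dmat_def)
open Cfsg.Agent.Omega.NatPair (NatMod ap ext2 cj mem_cj)

variable {G : Type*} [Group G]

namespace Sit

variable {F : Type*} [Field F] {θ : F →+* F} {e : ℕ} {H : Good F θ e} {S : Sylow 2 G} {V Z W : Subgroup G}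
variable (h : Sit F H S V Z W)

include h

theorem mem_V_iff' {w : G} : w ∈ V ↔ w ∈ W ∧ ∃ c, h.P.f w = Pi.single 0 c := by
  rw [h.memV]
  have e1 : ∀ c : F, (Pi.single 0 c : Fin 4 → F) = ![c, 0, 0, 0] := by
    intro c
    apply ext4 <;> simp
  simp only [e1]

/-- an element of `C` fixing the line `F e₀` lies in `N(V)` -/
theorem mem_M_of_single [Finite G] {g : G} (hg : g ∈ normalizer (Z : Set G))
    (hl : ∀ c : F, ∃ d : F, h.P.act g (Pi.single 0 c) = Pi.single 0 d) : g ∈ normalizer (V : Set G) := by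
  refine mem_normalizer_of_map_le ?_
  rintro _ ⟨v, hv, rfl⟩
  show g * v * g⁻¹ ∈ V
  rw [SetLike.mem_coe, h.mem_V_iff'] at hv
  obtain ⟨hvW, c, hc⟩ := hv
  obtain ⟨d, hd⟩ := hl c
  rw [h.mem_V_iff']
  exact ⟨h.conjW hg hvW, d, by rw [h.f_conj hg hvW, hc, hd]⟩

/-- an element of `C` not in `N(V)` moves `F e₀` off the hyperplane `v₃ = 0` -/
theorem three_ne [Finite G] {g : G} (hg : g ∈ normalizer (Z : Set G)) (hgV : g ∉ normalizer (V : Set G)) :
    ∀ c : F, c ≠ 0 → h.P.act g (Pi.single 0 c) 3 ≠ 0 := by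
  have := h.finF
  have : Fintype F := Fintype.ofFinite F
  have hF : Fintype.card F = 2 ^ (2 * h.mf + 1) := by rw [← Nat.card_eq_fintype_card, h.cardF]
  obtain ⟨mu, A, hA, σ, hγ⟩ := h.P.exists_semi h.one_le hF hg
  have hform : ∀ c : F, h.P.act g (Pi.single 0 c) = ((mu : F) * σ c) • mv A (Pi.single 0 1) := by
    intro c
    have e1 : (fun i => σ ((Pi.single 0 c : Fin 4 → F) i)) = σ c • Pi.single 0 1 := by
      apply ext4 <;> simp
    rw [hγ, e1, mv_smul, smul_smul]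
  have hA3 : mv A (Pi.single 0 1) 3 ≠ 0 := by
    intro h3
    obtain ⟨a, b, k, rfl⟩ := exists_ud H hA h3
    apply hgV
    apply h.mem_M_of_single hg
    intro c
    refine ⟨mu * σ c * k, ?_⟩
    rw [hform, mv_ud_zero]
    apply ext4 <;> simp
  intro c hc h3
  rw [hform, Pi.smul_apply, smul_eq_mul] at h3
  refine mul_ne_zero (mul_ne_zero mu.ne_zero ?_) hA3 h3
  exact (map_ne_zero σ).2 hc

variable {n m : G} (hn : h.Sw n) (hm : m ∈ normalizer (Z : Set G)) (hmV : m ∉ normalizer (V : Set G))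
include hn hm hmV

/-- `W₂ = n W n⁻¹` -/
theorem mem_W_two {g : G} : g ∈ cj (n * m) W ↔ ∃ w ∈ W, g = n * w * n⁻¹ := by
  rw [mem_cj]
  constructor
  · intro hg
    refine ⟨n⁻¹ * g * n, ?_, by group⟩
    have h1 := h.conjW hm hg
    have e1 : m * ((n * m)⁻¹ * g * (n * m)) * m⁻¹ = n⁻¹ * g * n := by group
    rwa [e1] at h1
  · rintro ⟨w, hw, rfl⟩
    have h1 := h.conjW' hm hw
    have e1 : (n * m)⁻¹ * (n * w * n⁻¹) * (n * m) = m⁻¹ * w * m := by group
    rwa [e1]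

/-- `W₋₂ = m⁻¹ (n W n⁻¹) m` -/
theorem mem_W_neg {g : G} : g ∈ cj (n * m)⁻¹ W ↔ ∃ w ∈ W, g = m⁻¹ * (n * w * n⁻¹) * m := by
  rw [mem_cj]
  constructor
  · intro hg
    refine ⟨n⁻¹ * (m * g * m⁻¹) * n, ?_, by group⟩
    have h1 := h.conjW' (h.nn_C hn) hg
    have e1 : (n * n)⁻¹ * ((n * m)⁻¹⁻¹ * g * (n * m)⁻¹) * (n * n) = n⁻¹ * (m * g * m⁻¹) * n := by group
    rwa [e1] at h1
  · rintro ⟨w, hw, rfl⟩
    have h1 := h.conjW (h.nn_C hn) hw
    have e1 : (n * m)⁻¹⁻¹ * (m⁻¹ * (n * w * n⁻¹) * m) * (n * m)⁻¹ = n * n * w * (n * n)⁻¹ := by group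
    rwa [e1]

theorem W_two_le_C [Finite G] : cj (n * m) W ≤ normalizer (Z : Set G) := by
  intro g hg
  obtain ⟨w, hw, rfl⟩ := (h.mem_W_two hn hm hmV).1 hg
  exact h.conj_mem_C hn hw

theorem W_neg_le_C [Finite G] : cj (n * m)⁻¹ W ≤ normalizer (Z : Set G) := by
  intro g hg
  obtain ⟨w, hw, rfl⟩ := (h.mem_W_neg hn hm hmV).1 hg
  exact Subgroup.mul_mem _ (Subgroup.mul_mem _ (Subgroup.inv_mem _ hm) (h.conj_mem_C hn hw)) hm

/-- **`gen₀`** -/
theorem gen_zero [Finite G] : ∀ p ∈ normalizer (Z : Set G), ∃ c ∈ cj (n * m) W ⊔ cj (n * m)⁻¹ W,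
    c⁻¹ * p ∈ normalizer (Z : Set G) ⊓ normalizer (V : Set G) := by
  intro p hp
  have := h.finF
  have : Fintype F := Fintype.ofFinite F
  have hF : Fintype.card F = 2 ^ (2 * h.mf + 1) := by rw [← Nat.card_eq_fintype_card, h.cardF]
  have hmi := Subgroup.inv_mem _ hm
  have hmiV : m⁻¹ ∉ normalizer (V : Set G) := fun h1 => hmV (inv_mem_iff.1 h1)
  obtain ⟨mu, A, hA, σ, hγ⟩ := h.P.exists_semi h.one_le hF hmi
  have hX : cj (n * m) W ⊔ cj (n * m)⁻¹ W ≤ normalizer (Z : Set G) :=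
    sup_le (h.W_two_le_C hn hm hmV) (h.W_neg_le_C hn hm hmV)
  have hA3 : mv A (Pi.single 0 1) 3 ≠ 0 := by
    intro h3
    apply h.three_ne hmi hmiV 1 one_ne_zero
    have e1 : (fun i => σ ((Pi.single 0 1 : Fin 4 → F) i)) = Pi.single 0 1 := by
      apply ext4 <;> simp
    rw [hγ, e1, Pi.smul_apply, h3, smul_zero]
  obtain ⟨x, hx, hl⟩ := h.P.gen_trans h.one_le hF hX
    (fun b => by
      obtain ⟨w, hw, hb⟩ := h.bt_surj hn b
      refine ⟨n * w * n⁻¹, mem_sup_left ((h.mem_W_two hn hm hmV).2 ⟨w, hw, rfl⟩), fun v => ?_⟩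
      rw [h.act_bt hn hw, hb]) hA hA3
    (fun b => by
      obtain ⟨w, hw, hb⟩ := h.bt_surj hn (σ.symm b)
      refine ⟨m⁻¹ * (n * w * n⁻¹) * m, mem_sup_right ((h.mem_W_neg hn hm hmV).2 ⟨w, hw, rfl⟩), ?_⟩
      -- conjugation with `m⁻¹`
      have hwC := h.conj_mem_C hn hw
      have key : ∀ v, h.P.act (m⁻¹ * (n * w * n⁻¹) * m) (h.P.act m⁻¹ v) = mv (A * H.U 0 b * A⁻¹) (h.P.act m⁻¹ v) := by
        intro v
        rw [← h.P.act_mul (mul_mem (mul_mem hmi hwC) hm) hmi]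
        have e1 : m⁻¹ * (n * w * n⁻¹) * m * m⁻¹ = m⁻¹ * (n * w * n⁻¹) := by group
        rw [e1, h.P.act_mul hmi hwC, h.act_bt hn hw, hb, hγ, hγ, mv_smul, mv_mul, mv_mul, mv_inv_mv]
        congr 2
        have h5 := fa_U H σ 0 (σ.symm b) v
        rw [map_zero, RingEquiv.apply_symm_apply] at h5
        exact h5
      intro v
      have h5 := key (h.P.act m v)
      rwa [h.P.act_inv_act hm] at h5) hp
  have hxp : x⁻¹ * p ∈ normalizer (Z : Set G) := Subgroup.mul_mem _ (Subgroup.inv_mem _ (hX hx)) hp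
  exact ⟨x, hx, hxp, h.mem_M_of_single hxp hl⟩

/-- `f (m w m⁻¹) 3 ≠ 0` for `w ∈ V`, `w ∉ Z` -/
theorem f_three_ne [Finite G] {v : G} (hv : v ∈ V) (hvZ : v ∉ Z) : h.P.f (m * v * m⁻¹) 3 ≠ 0 := by
  obtain ⟨hvW, c, hc⟩ := h.mem_V_iff'.1 hv
  rw [h.f_conj hm hvW, hc]
  apply h.three_ne hm hmV
  rintro rfl
  apply hvZ
  rw [← h.P.f_ker hvW, hc, Pi.single_zero]

/-- **`omega`** -/
theorem omega_four [Finite G] {s : G} (hs : s ∈ S) (hss : s * s ∈ h.P.K) :
    ∃ z ∈ cj (n * m * n) Z, z ∈ S ∧ z⁻¹ * s ∈ h.P.K := by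
  have := h.finF
  obtain ⟨a, b, hab⟩ := h.Ad.exists_U s hs
  have hsC := h.S_le_C hs
  have ha : a = 0 := by
    apply (U_zero_sq_iff H a b).1
    exact (hab.mul hsC hsC hab).unique ((h.P.ind_one_iff (mul_mem hsC hsC)).2 hss)
  subst ha
  -- `w c = m (n e[c,0] n⁻¹) m⁻¹ ∈ W`
  let w : F → G := fun c => m * (n * h.N.e ![c, 0] * n⁻¹) * m⁻¹
  have hne : ∀ c, n * h.N.e ![c, 0] * n⁻¹ = h.N.e ![0, c] := fun c => hn c 0
  have hwW : ∀ c, w c ∈ W := by
    intro c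
    show m * (n * h.N.e ![c, 0] * n⁻¹) * m⁻¹ ∈ W
    rw [hne]
    exact h.conjW hm (h.V_le_W (h.e_mem _ _))
  have hadd : ∀ c d, w (c + d) = w c * w d := by
    intro c d
    show m * (n * h.N.e ![c + d, 0] * n⁻¹) * m⁻¹ = m * (n * h.N.e ![c, 0] * n⁻¹) * m⁻¹ * (m * (n * h.N.e ![d, 0] * n⁻¹) * m⁻¹)
    rw [hne, hne, hne]
    have h1 := h.e_mul 0 c 0 d
    rw [add_zero] at h1
    rw [← h1]; group
  have hinj : Function.Injective (fun c => h.bt n (w c)) := by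
    intro c d hcd
    by_contra hne'
    have h1 : h.bt n (w (c + d)) = 0 := by
      rw [hadd, h.bt_mul hn (hwW c) (hwW d)]
      have hcd' : h.bt n (w c) = h.bt n (w d) := hcd
      rw [hcd', H.add_self]
    rw [h.bt_iff hn (hwW _)] at h1
    refine h.f_three_ne hn hm hmV (v := n * h.N.e ![c + d, 0] * n⁻¹) ?_ ?_ h1
    · rw [hne]; exact h.e_mem _ _
    · rw [hne, h.e_memZ]
      intro h2
      apply hne'
      have := H.neg_eq d
      rw [← this]
      exact eq_neg_of_add_eq_zero_left h2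
  obtain ⟨c, hc⟩ := Finite.surjective_of_injective hinj b
  have hc : h.bt n (w c) = b := hc
  have hz : n * w c * n⁻¹ ∈ S := (h.conj_mem hn (hwW c)).1
  refine ⟨n * w c * n⁻¹, ?_, hz, ?_⟩
  · rw [mem_cj]
    have e1 : (n * m * n)⁻¹ * (n * w c * n⁻¹) * (n * m * n) = n⁻¹ * (m⁻¹ * w c * m) * n := by group
    have e2 : n⁻¹ * (m⁻¹ * w c * m) * n = h.N.e ![c, 0] := by
      show n⁻¹ * (m⁻¹ * (m * (n * h.N.e ![c, 0] * n⁻¹) * m⁻¹) * m) * n = h.N.e ![c, 0]
      group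
    rw [e1, e2, h.e_memZ]
  · have hzC := h.S_le_C hz
    rw [← h.P.ind_one_iff (mul_mem (inv_mem hzC) hsC)]
    have h1 : h.P.Ind (n * w c * n⁻¹) (H.U 0 b) := by
      intro v
      rw [h.act_bt hn (hwW c), hc]
    have h2 := (h1.inv hzC).mul (inv_mem hzC) hsC hab
    rwa [inv_mul_cancel] at h2

/-- `W₋₂ ⊓ K` centralises `Z` -/
theorem neg_comm_Z [Finite G] {w z : G} (hw : w ∈ W) (hz : z ∈ Z) :
    m⁻¹ * (n * w * n⁻¹) * m * z = z * (m⁻¹ * (n * w * n⁻¹) * m) := by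
  have h1 : m * z * m⁻¹ ∈ Z := h.conjZ hm hz
  have h2 := h.cen_comm (h.conj_mem_V hn hw) (h.Z_le_V h1)
  calc m⁻¹ * (n * w * n⁻¹) * m * z = m⁻¹ * (n * w * n⁻¹ * (m * z * m⁻¹)) * m := by group
    _ = m⁻¹ * (m * z * m⁻¹ * (n * w * n⁻¹)) * m := by rw [h2]
    _ = z * (m⁻¹ * (n * w * n⁻¹) * m) := by group

/-- **`gen₁`** -/
theorem gen_one [Finite G] (hQ : ∀ g ∈ h.P.K, g ∈ centralizer (Z : Set G) → g ∈ S) {s : G} (hs : s ∈ S) :
    ∃ r ∈ cj (n * m)⁻¹ W, r ∈ S ∧ r ∈ h.P.K ∧ r⁻¹ * s ∈ centralizer (V : Set G) := by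
  have := h.finF
  obtain ⟨a, ha⟩ := h.exists_up hs
  -- `w c` with `f (w c) = (0, 0, c, 0)`
  choose w hwW hwf using fun c : F => h.P.f_surj ![0, 0, c, 0]
  let r : F → G := fun c => m⁻¹ * (n * w c * n⁻¹) * m
  have hwK : ∀ c, n * w c * n⁻¹ ∈ h.P.K := fun c => (h.conj_mem_K_iff hn (hwW c)).2 (by rw [hwf]; rfl)
  have hrK : ∀ c, r c ∈ h.P.K := by
    intro c
    have h1 := h.P.conj_mem_K (inv_mem hm) (hwK c)
    rwa [inv_inv] at h1
  have hrZ : ∀ c, r c ∈ centralizer (Z : Set G) := by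
    intro c
    rw [mem_centralizer_iff]
    intro z hz
    exact (h.neg_comm_Z hn hm hmV (hwW c) hz).symm
  have hrS : ∀ c, r c ∈ S := fun c => hQ _ (hrK c) (hrZ c)
  choose β hβ using fun c : F => h.exists_up (hrS c)
  -- if `r c` and `r d` act in the same way then `c = d`
  have hinj : Function.Injective β := by
    intro c d hcd
    have h1 : h.Up (r c * r d) 0 := by
      have := h.up_mul (hβ c) (hβ d)
      rwa [hcd, H.add_self] at this
    have h2 := h.cen_of_up h1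
    -- `x = n (w c * w d) n⁻¹` centralises `m V m⁻¹`
    have hwW2 : w c * w d ∈ W := mul_mem (hwW c) (hwW d)
    have hf2 : h.P.f (w c * w d) = ![0, 0, c + d, 0] := by
      rw [h.f_mul (hwW c) (hwW d), hwf, hwf]
      apply ext4 <;> simp
    have e1 : r c * r d = m⁻¹ * (n * (w c * w d) * n⁻¹) * m := by
      show m⁻¹ * (n * w c * n⁻¹) * m * (m⁻¹ * (n * w d * n⁻¹) * m) = _
      group
    rw [e1] at h2
    have h3 : ∀ v ∈ V, n * (w c * w d) * n⁻¹ * (m * v * m⁻¹) = m * v * m⁻¹ * (n * (w c * w d) * n⁻¹) := by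
      intro v hv
      have h4 := h.cen_comm h2 hv
      calc n * (w c * w d) * n⁻¹ * (m * v * m⁻¹) = m * (m⁻¹ * (n * (w c * w d) * n⁻¹) * m * v) * m⁻¹ := by group
        _ = m * (v * (m⁻¹ * (n * (w c * w d) * n⁻¹) * m)) * m⁻¹ := by rw [h4]
        _ = _ := by group
    -- it centralises `W`
    have h4 : ∀ y ∈ W, n * (w c * w d) * n⁻¹ * y = y * (n * (w c * w d) * n⁻¹) := by
      intro y hy
      -- `y = (m v m⁻¹) y'` with `f y' 3 = 0`
      have h5 : ∃ v ∈ V, h.P.f (m * v * m⁻¹) 3 = h.P.f y 3 := by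
        obtain ⟨v₀, hv₀, hv₀f⟩ := h.exists_V 1
        have hinj3 : Function.Injective (fun c : F => h.P.f (m * h.N.e ![0, c] * m⁻¹) 3) := by
          intro x y hxy
          have hxy : h.P.f (m * h.N.e ![0, x] * m⁻¹) 3 = h.P.f (m * h.N.e ![0, y] * m⁻¹) 3 := hxy
          by_contra hne'
          refine h.f_three_ne hn hm hmV (v := h.N.e ![0, x + y]) (h.e_mem _ _) ?_ ?_
          · rw [h.e_memZ]
            intro h6
            apply hne'
            have := H.neg_eq y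
            rw [← this]
            exact eq_neg_of_add_eq_zero_left h6
          · have e2 : m * h.N.e ![0, x + y] * m⁻¹ = m * h.N.e ![0, x] * m⁻¹ * (m * h.N.e ![0, y] * m⁻¹) := by
              have h1 := h.e_mul 0 x 0 y
              rw [add_zero] at h1
              rw [← h1]; group
            rw [e2, h.f_mul (h.conjW hm (h.V_le_W (h.e_mem _ _))) (h.conjW hm (h.V_le_W (h.e_mem _ _))), Pi.add_apply,
              hxy, H.add_self]
        obtain ⟨c', hc'⟩ := Finite.surjective_of_injective hinj3 (h.P.f y 3)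
        exact ⟨_, h.e_mem _ _, hc'⟩
      obtain ⟨v, hv, hv3⟩ := h5
      have hvW : m * v * m⁻¹ ∈ W := h.conjW hm (h.V_le_W hv)
      have hy' : (m * v * m⁻¹)⁻¹ * y ∈ W := mul_mem (inv_mem hvW) hy
      have hy3 : h.P.f ((m * v * m⁻¹)⁻¹ * y) 3 = 0 := by
        rw [h.f_mul (inv_mem hvW) hy, h.f_inv hvW, Pi.add_apply, hv3, H.add_self]
      have h6 := h.comm_one hn hwW2 (by rw [hf2]; rfl) hy' hy3
      have h7 := h3 v hv
      calc n * (w c * w d) * n⁻¹ * y = (n * (w c * w d) * n⁻¹ * (m * v * m⁻¹)) * ((m * v * m⁻¹)⁻¹ * y) := by group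
        _ = m * v * m⁻¹ * (n * (w c * w d) * n⁻¹ * ((m * v * m⁻¹)⁻¹ * y)) := by rw [h7]; group
        _ = m * v * m⁻¹ * ((m * v * m⁻¹)⁻¹ * y * (n * (w c * w d) * n⁻¹)) := by rw [h6]
        _ = _ := by group
    have h5 := h.mem_I_of_commute hn hwW2 h4
    rw [h.mem_I, hf2] at h5
    have h6 : c + d = 0 := h5.2.1
    have := H.neg_eq d
    rw [← this]
    exact eq_neg_of_add_eq_zero_left h6
  obtain ⟨c, hc⟩ := Finite.surjective_of_injective hinj a
  refine ⟨r c, (h.mem_W_neg hn hm hmV).2 ⟨w c, hwW c, rfl⟩, hrS c, hrK c, ?_⟩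
  apply h.cen_of_up
  have h1 := h.up_mul (h.up_inv (hβ c)) ha
  rwa [hc, H.add_self] at h1

end Sit

end Cfsg.Agent.Omega.TwoFFour
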