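import Cfsg.Agent.Omega.TwoFFour.Tor
import Cfsg.Agent.S0030

/-!
# THEOREM 2F4, (3c), (4): the Hall subgroup `H` and the reflections `n₀`, `n₁`

* `TT` : the torus elements; `aOf`, `lOf` : the two characters;
* `Hall h Hh` : `Hh` is a complement of `TT ⊓ C(V)` in `TT`; `Out.exists_hall`;
* `exists_n₁` : `n₁ ∈ N(Hh)` interchanging the coordinates of `V`;
* `exists_n₀` : `n₀ ∈ N(Hh) ⊓ C(Z)` acting as `W` on `W / Z`.
-/

set_option autoImplicit false
set_option linter.unusedSectionVars false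

namespace Cfsg.Agent.Omega.TwoFFour

open Subgroup Matrix
open Cfsg.Agent.ZN Cfsg.Agent.MinSimple.VModule Cfsg.Agent.Lib.SL2Mat
open Cfsg.Agent.LieRecognition.SzMatrix (Good Umat Umat_def Dmat Dmat_def W_mul_W theta_ne_zero)
open Cfsg.Agent.Omega.NatPair (NatMod ap ext2)

open scoped Pointwise

variable {G : Type*} [Group G]

namespace Sit

variable {F : Type*} [Field F] {θ : F →+* F} {e : ℕ} {H : Good F θ e} {S : Sylow 2 G} {V Z W : Subgroup G}

/-- the group of the torus elements -/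
def TT (h : Sit F H S V Z W) : Subgroup G where
  carrier := {g | ∃ a l m k, Tor h g a l m k}
  mul_mem' := by
    rintro g g' ⟨a, l, m, k, t⟩ ⟨a', l', m', k', t'⟩
    exact ⟨_, _, _, _, t.mul t'⟩
  one_mem' := ⟨1, 1, 1, 1, Tor.one⟩
  inv_mem' := by
    rintro g ⟨a, l, m, k, t⟩
    exact ⟨_, _, _, _, t.inv⟩

open Classical in
/-- the character on `Z` -/
noncomputable def aOf (h : Sit F H S V Z W) (g : G) : Fˣ :=
  if hg : ∃ a l m k, Tor h g a l m k then hg.choose else 1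

open Classical in
/-- the character on `V / Z` -/
noncomputable def lOf (h : Sit F H S V Z W) (g : G) : Fˣ :=
  if hg : ∃ a l m k, Tor h g a l m k then hg.choose_spec.choose else 1

variable {h : Sit F H S V Z W}

theorem mem_TT {g : G} : g ∈ h.TT ↔ ∃ a l m k, Tor h g a l m k := Iff.rfl

theorem Tor.aOf_eq {g : G} {a l m k : Fˣ} (t : Tor h g a l m k) : h.aOf g = a := by
  have hg : ∃ a l m k, Tor h g a l m k := ⟨_, _, _, _, t⟩
  obtain ⟨m', k', t'⟩ := hg.choose_spec.choose_spec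
  unfold aOf
  rw [dif_pos hg]
  exact (t'.uniq t).1

theorem Tor.lOf_eq {g : G} {a l m k : Fˣ} (t : Tor h g a l m k) : h.lOf g = l := by
  have hg : ∃ a l m k, Tor h g a l m k := ⟨_, _, _, _, t⟩
  obtain ⟨m', k', t'⟩ := hg.choose_spec.choose_spec
  unfold lOf
  rw [dif_pos hg]
  exact (t'.uniq t).2

/-- `Hh` is a complement of `TT ⊓ C(V)` in `TT` -/
structure Hall (h : Sit F H S V Z W) (Hh : Subgroup G) : Prop where
  le : Hh ≤ h.TT
  cover : ∀ g ∈ h.TT, ∃ c ∈ centralizer (V : Set G), ∃ x ∈ Hh, g = c * x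
  inj : ∀ x ∈ Hh, x ∈ centralizer (V : Set G) → x = 1
  odd : Odd (Nat.card Hh)

theorem TT_le : h.TT ≤ h.Bo := by
  rintro g ⟨a, l, m, k, t⟩
  exact t.memB

theorem Tor.of_TT {g : G} (hg : g ∈ h.TT) : ∃ m k, Tor h g (h.aOf g) (h.lOf g) m k := by
  obtain ⟨a, l, m, k, t⟩ := hg
  rw [t.aOf_eq, t.lOf_eq]
  exact ⟨m, k, t⟩

variable [Finite G]

theorem Out.exists_hall (o : Out h) : ∃ Hh, Hall h Hh := by
  have := h.finF
  have := h.char_two
  let χ : h.TT →* Fˣ × Fˣ :=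
    { toFun := fun g => (h.aOf g, h.lOf g)
      map_one' := by
        have t : Tor h ((1 : h.TT) : G) 1 1 1 1 := Tor.one
        rw [t.aOf_eq, t.lOf_eq]; rfl
      map_mul' := by
        intro g g'
        obtain ⟨m, k, t⟩ := Tor.of_TT g.2
        obtain ⟨m', k', t'⟩ := Tor.of_TT g'.2
        have t'' : Tor h ((g * g' : h.TT) : G) _ _ _ _ := t.mul t'
        rw [t''.aOf_eq, t''.lOf_eq]; rfl }
  have hker : ∀ g : h.TT, g ∈ χ.ker ↔ (g : G) ∈ centralizer (V : Set G) := by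
    intro g
    obtain ⟨m, k, t⟩ := Tor.of_TT g.2
    rw [MonoidHom.mem_ker]
    constructor
    · intro h1
      have h2 : h.aOf g = 1 := congrArg Prod.fst h1
      have h3 : h.lOf g = 1 := congrArg Prod.snd h1
      rw [h2, h3] at t
      exact t.cen
    · intro h1
      have h2 : Tor h (g : G) 1 1 m k → (h.aOf g, h.lOf g) = 1 := by
        intro t'
        rw [t'.aOf_eq, t'.lOf_eq]; rfl
      have h3 := t.V 1 1
      rw [h.e_of_mem_cen h1] at h3
      have h4 := h.e_inj h3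
      rw [mul_one, mul_one] at h4
      have h5 : h.aOf (g : G) = 1 := Units.ext h4.1.symm
      have h6 : h.lOf (g : G) = 1 := Units.ext h4.2.symm
      show (h.aOf (g : G), h.lOf (g : G)) = 1
      rw [h5, h6]; rfl
  have hoddF : Odd (Nat.card (Fˣ × Fˣ)) := by
    have h1 : Odd (Nat.card Fˣ) := by
      rw [Nat.card_units, h.cardF]
      have h2 : Even (2 ^ (2 * h.mf + 1)) := ⟨2 ^ (2 * h.mf), by rw [pow_succ]; ring⟩
      exact Nat.Even.sub_odd (Nat.one_le_two_pow) h2 odd_one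
    rw [Nat.card_prod]
    exact h1.mul h1
  have hidx : Odd χ.ker.index := by
    rw [Subgroup.index_ker]
    exact Odd.of_dvd_nat hoddF (Subgroup.card_subgroup_dvd_card _)
  have hp : IsPGroup 2 χ.ker := by
    intro g
    have h1 := o.CV ((hker g.1).1 g.2)
    obtain ⟨k, hk⟩ := S.isPGroup' ⟨_, h1⟩
    refine ⟨k, ?_⟩
    apply Subtype.ext
    apply Subtype.ext
    have h3 : ((g : h.TT) : G) ^ 2 ^ k = 1 := congrArg Subtype.val hk
    exact h3
  obtain ⟨n, hn⟩ := IsPGroup.iff_card.mp hp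
  have hcop : Nat.Coprime (Nat.card χ.ker) χ.ker.index := by
    rw [hn]
    exact Nat.Coprime.pow_left n (Nat.coprime_two_left.2 hidx)
  obtain ⟨X, hX⟩ := Subgroup.exists_right_complement'_of_coprime hcop
  refine ⟨X.map h.TT.subtype, ?_, ?_, ?_, ?_⟩
  · rintro _ ⟨x, -, rfl⟩
    exact x.2
  · intro g hg
    obtain ⟨⟨c, x⟩, hcx⟩ := hX.2 ⟨g, hg⟩
    refine ⟨_, (hker c).1 c.2, _, ⟨x, x.2, rfl⟩, ?_⟩
    exact (congrArg Subtype.val hcx).symm
  · rintro _ ⟨x, hx, rfl⟩ hc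
    have h1 : x ∈ χ.ker := (hker x).2 hc
    have h2 : x ∈ χ.ker ⊓ X := ⟨h1, hx⟩
    rw [hX.disjoint.eq_bot, mem_bot] at h2
    rw [h2]; rfl
  · have h1 : Nat.card (X.map h.TT.subtype) = Nat.card X :=
      (Nat.card_congr (X.equivMapOfInjective _ h.TT.subtype_injective).toEquiv).symm
    rw [h1]
    have h2 := hX.symm.index_eq_card
    rwa [← h2]

section refl

variable {Hh : Subgroup G} (o : Out h) (hH : Hall h Hh)
include o hH

theorem Hall.card_coprime {R : Subgroup G} (hR : IsPGroup 2 R) : (Nat.card Hh).Coprime (Nat.card R) := by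
  obtain ⟨n, hn⟩ := IsPGroup.iff_card.mp hR
  rw [hn]
  exact Nat.Coprime.pow_right n (Nat.coprime_two_right.2 hH.odd)

theorem Hall.exists_conj {R : Subgroup G} (hR : IsPGroup 2 R) (hHR : Hh ≤ normalizer (R : Set G)) {n : G}
    (hn : ∀ x ∈ Hh, ∃ r ∈ R, ∃ y ∈ Hh, n * x * n⁻¹ = r * y) : ∃ d ∈ R, d⁻¹ * n ∈ normalizer (Hh : Set G) := by
  have hsol : Group.IsSolvable R := by
    have : Group.IsNilpotent R := IsPGroup.isNilpotent hR
    infer_instance
  obtain ⟨d, hd, e1⟩ := Cfsg.Agent.S0030.exists_conj_eq Hh R (Hh.map (MulAut.conj n).toMonoidHom) hHR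
    (Hall.card_coprime o hH hR) (Or.inr hsol)
    (by
      rintro _ ⟨x, hx, rfl⟩
      obtain ⟨r, hr, y, hy, e2⟩ := hn x hx
      have e3 : (MulAut.conj n).toMonoidHom x = r * y := e2
      rw [e3]
      exact mul_mem (mem_sup_left hr) (mem_sup_right hy))
    (Nat.card_congr (Hh.equivMapOfInjective _ (MulAut.conj n).injective).toEquiv).symm
  refine ⟨d, hd, ?_⟩
  refine mem_normalizer_of_map_le ?_
  rintro _ ⟨x, hx, rfl⟩
  have h1 : n * x * n⁻¹ ∈ (MulAut.conj d • Hh : Subgroup G) := by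
    rw [e1]
    exact ⟨x, hx, rfl⟩
  rw [mem_pointwise_smul_iff_inv_smul_mem] at h1
  have e2 : (MulAut.conj d)⁻¹ • (n * x * n⁻¹) = d⁻¹ * (n * x * n⁻¹) * d := by
    rw [← map_inv, MulAut.smul_def, MulAut.conj_apply, inv_inv]
  rw [e2] at h1
  have e3 : (MulAut.conj (d⁻¹ * n)).toMonoidHom x = d⁻¹ * (n * x * n⁻¹) * d := by
    show d⁻¹ * n * x * (d⁻¹ * n)⁻¹ = _
    group
  rw [e3]
  exact h1

theorem Hall.exists_n₁ : ∃ n, h.Sw n ∧ n ∈ normalizer (Hh : Set G) := by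
  obtain ⟨n, hn⟩ := h.exists_sw
  have h2 : IsPGroup 2 (centralizer (V : Set G) : Subgroup G) := S.isPGroup'.to_le o.CV
  obtain ⟨d, hd, hdn⟩ := Hall.exists_conj o hH h2 (fun x hx => h.M_normC (TT_le (hH.le hx)).1) (n := n) (by
    intro x hx
    obtain ⟨a, l, m, k, t⟩ := hH.le hx
    have hV : ∀ x' y, n * x * n⁻¹ * h.N.e ![x', y] * (n * x * n⁻¹)⁻¹ = h.N.e ![l * x', a * y] := by
      intro x' y
      have e1 : n * x * n⁻¹ * h.N.e ![x', y] * (n * x * n⁻¹)⁻¹ = n * (x * (n⁻¹ * h.N.e ![x', y] * n⁻¹⁻¹) * x⁻¹) * n⁻¹ := by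
        group
      rw [e1, h.sw_inv hn, t.V, hn]
    have hB : n * x * n⁻¹ ∈ h.Bo := by
      refine mem_inf.2 ⟨mul_mem (mul_mem (h.sw_mem hn) t.memB.1) (inv_mem (h.sw_mem hn)), ?_⟩
      apply h.mem_C_of
      intro c
      rw [hV, mul_zero, h.e_memZ]
    obtain ⟨c, hc, m', k', t'⟩ := o.adjust hB hV
    obtain ⟨c', hc', y, hy, e2⟩ := hH.cover _ ⟨_, _, _, _, t'⟩
    refine ⟨c⁻¹ * c', mul_mem (inv_mem hc) hc', y, hy, ?_⟩
    rw [mul_assoc c⁻¹, ← e2]; group)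
  refine ⟨d⁻¹ * n, ?_, hdn⟩
  intro x y
  have e1 : d⁻¹ * n * h.N.e ![x, y] * (d⁻¹ * n)⁻¹ = d⁻¹ * (n * h.N.e ![x, y] * n⁻¹) * d⁻¹⁻¹ := by group
  rw [e1, hn, h.e_of_mem_cen (inv_mem hd)]

theorem Hall.exists_n₀ : ∃ n ∈ centralizer (Z : Set G), h.P.Ind n (Cfsg.Agent.LieRecognition.SzMatrix.W F) ∧
    n ∈ normalizer (Hh : Set G) := by
  obtain ⟨n, hn, hnW⟩ := h.exists_cZ_W
  have hnC := h.cZ_le hn
  set R : Subgroup G := h.P.K ⊓ centralizer (Z : Set G) with hR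
  have h2 : IsPGroup 2 R := S.isPGroup'.to_le o.KZ
  have hCR : normalizer (Z : Set G) ≤ normalizer (R : Set G) := by
    intro g hg
    refine mem_normalizer_of_map_le ?_
    rintro _ ⟨x, ⟨hx, hx'⟩, rfl⟩
    exact ⟨h.P.conj_mem_K hg hx, h.C_norm_cZ hg hx'⟩
  obtain ⟨d, hd, hdn⟩ := Hall.exists_conj o hH h2 (fun x hx => hCR (TT_le (hH.le hx)).2) (n := n) (by
    intro x hx
    obtain ⟨a, l, m, k, t⟩ := hH.le hx
    set g := n * x * n⁻¹ with hg
    have hgC : g ∈ normalizer (Z : Set G) := mul_mem (mul_mem hnC t.memB.2) (inv_mem hnC)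
    have hgW : ∀ v, h.P.act g v = (m : F) • mv (H.D k⁻¹) v := by
      intro v
      rw [hg, h.P.act_mul (mul_mem hnC t.memB.2) (inv_mem hnC), h.P.act_mul hnC t.memB.2, t.W, hnW,
        hnW.inv hnC, mv_smul, ← mv_mul, ← mv_mul, H.W_mul_D, mul_inv_cancel_right]
    have hgM : g ∈ normalizer (V : Set G) := by
      refine h.mem_M_of_line hgC fun c => ⟨m * (((k⁻¹ : Fˣ) : F) * c), ?_⟩
      rw [hgW, mv_D]
      ext i; fin_cases i <;> simp
    obtain ⟨ρ, a', τ, l', hform⟩ := h.form (g := g) ⟨hgM, hgC⟩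
    have hZ : ∀ c, g * h.N.e ![c, 0] * g⁻¹ = h.N.e ![a * c, 0] := by
      intro c
      have hz : ∀ {z : G}, z ∈ Z → n * z * n⁻¹ = z := by
        intro z hz
        rw [← mem_centralizer_iff.1 hn z hz, mul_inv_cancel_right]
      have hz' : ∀ {z : G}, z ∈ Z → n⁻¹ * z * n = z := by
        intro z hz
        rw [mul_assoc, mem_centralizer_iff.1 hn z hz, inv_mul_cancel_left]
      have e1 : g * h.N.e ![c, 0] * g⁻¹ = n * (x * (n⁻¹ * h.N.e ![c, 0] * n) * x⁻¹) * n⁻¹ := by rw [hg]; group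
      rw [e1, hz' ((h.e_memZ _ _).2 rfl), t.V, mul_zero, hz ((h.e_memZ _ _).2 rfl)]
    have h3 : ∀ c, a' * ρ c = a * c := by
      intro c
      have h4 := hZ c
      rw [hform, map_zero, mul_zero, mul_zero, add_zero] at h4
      exact (h.e_inj h4).1
    have h4 : a' = a := by
      have := h3 1
      rwa [map_one, mul_one, mul_one] at this
    have h5 : ∀ c, ρ c = c := by
      intro c
      have h6 := h3 c
      rw [h4] at h6
      exact mul_left_cancel₀ a.ne_zero h6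
    have hl' : l' ≠ 0 := by
      rintro rfl
      have h6 := hform 0 1
      rw [zero_mul] at h6
      have h7 : h.N.e ![0, 1] ∈ Z := by
        have h8 : g * h.N.e ![0, 1] * g⁻¹ ∈ Z := by rw [h6, h.e_memZ]
        exact (h.conj_mem_iff hgC).1 h8
      rw [h.e_memZ] at h7
      exact one_ne_zero h7
    obtain ⟨s, hs, hsK, ht⟩ := o.adjust_K (g := g) ⟨hgM, hgC⟩ (a := a) (l := Units.mk0 l' hl') (m := m) (k := k⁻¹)
      (τ := τ) (fun x' y => by rw [hform, h5, h5, h4, Units.val_mk0]) hgW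
    obtain ⟨c', hc', y, hy, e2⟩ := hH.cover _ ⟨_, _, _, _, ht⟩
    refine ⟨s⁻¹ * c', mul_mem (inv_mem ⟨hsK, h.SZ hs⟩) ⟨?_, h.cen_le_cenZ hc'⟩, y, hy, ?_⟩
    · -- `c'` acts trivially on `W / Z`
      obtain ⟨a₁, l₁, m₁, k₁, t₁⟩ := hH.le hy
      have t₂ := ht.mul t₁.inv
      have e3 : s * g * y⁻¹ = c' := by rw [e2]; group
      rw [e3] at t₂
      have h6 := t₂.V 1 1
      rw [h.e_of_mem_cen hc'] at h6
      have h7 := h.e_inj h6
      rw [mul_one, mul_one] at h7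
      have h8 : a * a₁⁻¹ = 1 := Units.ext h7.1.symm
      have h9 : Units.mk0 l' hl' * l₁⁻¹ = 1 := Units.ext h7.2.symm
      rw [h8, h9] at t₂
      obtain ⟨h10, h11⟩ := t₂.unip o
      rw [h10, h11] at t₂
      refine ⟨t₂.memB.2, fun v => ?_⟩
      rw [t₂.W, H.D_one, mv_one, Units.val_one, one_smul]
    · rw [mul_assoc s⁻¹, ← e2]; group)
  refine ⟨d⁻¹ * n, mul_mem (inv_mem hd.2) hn, ?_, hdn⟩
  intro v
  rw [h.P.act_mul (inv_mem hd.1.1) hnC, (inv_mem hd.1 : d⁻¹ ∈ h.P.K).2, hnW]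

end refl

end Sit

end Cfsg.Agent.Omega.TwoFFour
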