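import Cfsg.Agent.Omega.TwoFFour.Sit

/-!
# THEOREM 2F4, (1): `W_x` and `W_y`

`n` interchanges the points `x`, `y` of the line `l`; `W_y = n W n⁻¹`.

* `conj_mem` : `W_y ≤ S ⊓ C(V)`;
* `bt n w` : `n w n⁻¹` acts on `W / Z` as `U 0 (bt n w)`; `bt_surj` : all of `Z(T)` is induced;
* `I` : the preimage of `M²` in `W`; `mem_I_iff` : `W ⊓ n W n⁻¹ = I`; `conj_I` : `I` is normal in `N(V)`;
* `mem_I_of_comm` : `C_W(W_y) = I`.
-/

set_option autoImplicit false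
set_option linter.unusedSectionVars false

namespace Cfsg.Agent.Omega.TwoFFour

open Subgroup Matrix
open Cfsg.Agent.ZN Cfsg.Agent.MinSimple.VModule Cfsg.Agent.Lib.SL2Mat
open Cfsg.Agent.LieRecognition.SzMatrix (Good Umat Umat_def Dmat Dmat_def)
open Cfsg.Agent.Omega.NatPair (NatMod ap ext2)

section mat

variable {F : Type*} [Field F] {θ : F →+* F} {e : ℕ} (H : Good F θ e)

theorem vec4 (v : Fin 4 → F) : v = ![v 0, v 1, v 2, v 3] := ext4 rfl rfl rfl rfl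

theorem mv_U0 (b : F) (v : Fin 4 → F) : mv (H.U 0 b) v =
    ![v 0 + b * v 2 + θ b * v 3, v 1 + b * v 3, v 2, v 3] := by
  rw [mv_U]
  apply ext4 <;> simp

end mat

variable {G : Type*} [Group G]

namespace Sit

variable {F : Type*} [Field F] {θ : F →+* F} {e : ℕ} {H : Good F θ e} {S : Sylow 2 G} {V Z W : Subgroup G}
variable (h : Sit F H S V Z W)

/-- `n w n⁻¹` acts on `W / Z` as `U 0 (bt n w)` -/
noncomputable def bt (n w : G) : F := (h.P.act (n * w * n⁻¹) ![0, 0, 1, 0]) 0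

include h

theorem f_mul {x y : G} (hx : x ∈ W) (hy : y ∈ W) : h.P.f (x * y) = h.P.f x + h.P.f y := h.P.f_mul hx hy

theorem f_one : h.P.f 1 = 0 := (h.P.f_ker (one_mem _)).2 (one_mem _)

theorem f_inv {x : G} (hx : x ∈ W) : h.P.f x⁻¹ = h.P.f x := by
  have h1 := h.f_mul hx (inv_mem hx)
  rw [mul_inv_cancel, h.f_one] at h1
  have h2 : h.P.f x + h.P.f x = 0 := funext fun i => H.add_self _
  exact (add_left_cancel (h2.trans h1)).symm

theorem conjW {g x : G} (hg : g ∈ normalizer (Z : Set G)) (hx : x ∈ W) : g * x * g⁻¹ ∈ W := h.P.conjW hg hx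

theorem conjW' {g x : G} (hg : g ∈ normalizer (Z : Set G)) (hx : x ∈ W) : g⁻¹ * x * g ∈ W := by
  have := h.P.conjW (inv_mem hg) hx
  rwa [inv_inv] at this

theorem f_conj {g x : G} (hg : g ∈ normalizer (Z : Set G)) (hx : x ∈ W) : h.P.f (g * x * g⁻¹) = h.P.act g (h.P.f x) :=
  (h.P.act_f hg hx).symm

theorem act_sub {g : G} (hg : g ∈ normalizer (Z : Set G)) (v w : Fin 4 → F) :
    h.P.act g (v - w) = h.P.act g v - h.P.act g w := by
  have := h.P.act_add hg (v - w) w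
  rw [sub_add_cancel] at this
  rw [this, add_sub_cancel_right]

theorem C_normW : normalizer (Z : Set G) ≤ normalizer (W : Set G) := by
  intro g hg
  rw [mem_normalizer_iff]
  refine fun x => ⟨h.conjW hg, fun hx => ?_⟩
  have := h.conjW' hg hx
  have e : g⁻¹ * (g * x * g⁻¹) * g = x := by group
  rwa [e] at this

theorem W_2 : IsPGroup 2 W := by
  intro x
  refine ⟨1, Subtype.ext ?_⟩
  have := h.sq x x.2
  rw [pow_one, pow_two]
  exact this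

theorem C_normK : normalizer (Z : Set G) ≤ normalizer (h.P.K : Set G) := by
  have key : ∀ g ∈ normalizer (Z : Set G), ∀ x ∈ h.P.K, g * x * g⁻¹ ∈ h.P.K := by
    intro g hg x hx
    rw [SzMod.mem_K] at hx ⊢
    refine ⟨mul_mem (mul_mem hg hx.1) (inv_mem hg), fun v => ?_⟩
    rw [h.P.act_mul (mul_mem hg hx.1) (inv_mem hg), h.P.act_mul hg hx.1, hx.2, ← h.P.act_mul hg (inv_mem hg),
      mul_inv_cancel, h.P.act_one]
  intro g hg
  rw [mem_normalizer_iff]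
  refine fun x => ⟨key g hg x, fun hx => ?_⟩
  have := key g⁻¹ (inv_mem hg) _ hx
  have e : g⁻¹ * (g * x * g⁻¹) * g⁻¹⁻¹ = x := by group
  rwa [e] at this

theorem K_le_C : h.P.K ≤ normalizer (Z : Set G) := fun _ hx => hx.1

theorem K_comm {k w : G} (hk : k ∈ h.P.K) (hw : w ∈ W) : k * w * k⁻¹ * w⁻¹ ∈ Z := by
  have h1 := h.conjW hk.1 hw
  rw [← h.P.f_ker (mul_mem h1 (inv_mem hw)), h.f_mul h1 (inv_mem hw), h.f_inv hw, h.f_conj hk.1 hw, hk.2]
  exact funext fun i => H.add_self _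

/-- `K` fixes every line on `x` -/
theorem K_le_M [Finite G] : h.P.K ≤ normalizer (V : Set G) := by
  intro k hk
  refine mem_normalizer_of_map_le ?_
  rintro _ ⟨v, hv, rfl⟩
  have h1 := h.K_comm hk (h.V_le_W hv)
  have : (MulAut.conj k).toMonoidHom v = (k * v * k⁻¹ * v⁻¹) * v := by
    show k * v * k⁻¹ = _
    group
  rw [this]
  exact mul_mem (h.Z_le_V h1) hv

theorem sylC [Finite G] : Syl2 (S : Subgroup G) (normalizer (Z : Set G)) := Syl2.of_sylow S h.S_le_C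

theorem sylM [Finite G] : Syl2 (S : Subgroup G) (normalizer (V : Set G)) := Syl2.of_sylow S h.SV

theorem sylK [Finite G] : Syl2 ((S : Subgroup G) ⊓ h.P.K) h.P.K := h.sylC.inf h.K_le_C h.C_normK

theorem sylV [Finite G] : Syl2 ((S : Subgroup G) ⊓ centralizer (V : Set G)) (centralizer (V : Set G)) :=
  h.sylM.inf h.cen_le_M h.M_normC

theorem W_le [Finite G] : W ≤ (S : Subgroup G) ⊓ centralizer (V : Set G) :=
  h.sylV.le_of_normal h.W_le_cen (h.cen_le_C.trans h.C_normW) h.W_2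

variable {n : G} (hn : h.Sw n)
include hn

theorem nn_C : n * n ∈ normalizer (Z : Set G) := h.cen_le_C (h.sw_sq hn)

theorem conj_mem [Finite G] {w : G} (hw : w ∈ W) :
    n * w * n⁻¹ ∈ (S : Subgroup G) ⊓ centralizer (V : Set G) := by
  have hM := h.sw_mem hn
  set W' : Subgroup G := W.map (MulAut.conj n).toMonoidHom with hW'
  have h1 : W' ≤ centralizer (V : Set G) := by
    rintro _ ⟨x, hx, rfl⟩
    exact h.conjC hM (h.W_le_cen hx)
  have h2 : centralizer (V : Set G) ≤ normalizer (W' : Set G) := by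
    intro c hc
    refine mem_normalizer_of_map_le ?_
    rintro _ ⟨_, ⟨x, hx, rfl⟩, rfl⟩
    have h3 : n⁻¹ * c * n⁻¹⁻¹ ∈ centralizer (V : Set G) := h.conjC (inv_mem hM) hc
    refine ⟨_, h.conjW (h.cen_le_C h3) hx, ?_⟩
    show n * (n⁻¹ * c * n⁻¹⁻¹ * x * (n⁻¹ * c * n⁻¹⁻¹)⁻¹) * n⁻¹ = c * (n * x * n⁻¹) * c⁻¹
    group
  exact h.sylV.le_of_normal h1 h2 (h.W_2.map _) ⟨w, hw, rfl⟩

theorem conj_mem_V [Finite G] {w : G} (hw : w ∈ W) : n * w * n⁻¹ ∈ centralizer (V : Set G) := (h.conj_mem hn hw).2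

theorem conj_mem_C [Finite G] {w : G} (hw : w ∈ W) : n * w * n⁻¹ ∈ normalizer (Z : Set G) :=
  h.cen_le_C (h.conj_mem_V hn hw)

/-- the action of `n w n⁻¹` on `W / Z` -/
theorem act_bt [Finite G] {w : G} (hw : w ∈ W) (v : Fin 4 → F) :
    h.P.act (n * w * n⁻¹) v = mv (H.U 0 (h.bt n w)) v := by
  obtain ⟨a, b, hab⟩ := h.Ad.exists_U _ (h.conj_mem hn hw).1
  have hC := h.conj_mem_C hn hw
  have h1 : n * w * n⁻¹ * (n * w * n⁻¹) = 1 := by
    have := h.sq w hw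
    calc n * w * n⁻¹ * (n * w * n⁻¹) = n * (w * w) * n⁻¹ := by group
      _ = 1 := by rw [this]; group
  have h2 : mv (H.U a b) (mv (H.U a b) ![0, 0, 1, 0]) = ![0, 0, 1, 0] := by
    rw [← hab, ← hab, ← h.P.act_mul hC hC, h1, h.P.act_one]
  rw [← mv_mul, H.U_mul] at h2
  have h3 := congrFun h2 0
  rw [mv_U] at h3
  simp only [Matrix.cons_val_zero, Matrix.cons_val_one, Matrix.cons_val] at h3
  have h4 : a * θ a = 0 := by
    have := H.add_self b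
    linear_combination h3 - this
  have ha : a = 0 := by
    rcases mul_eq_zero.1 h4 with h5 | h5
    · exact h5
    · exact (map_eq_zero θ).1 h5
  subst ha
  have hb : h.bt n w = b := by
    unfold bt
    rw [hab, mv_U0]
    simp
  rw [hab, hb]

theorem bt_mul [Finite G] {w w' : G} (hw : w ∈ W) (hw' : w' ∈ W) : h.bt n (w * w') = h.bt n w + h.bt n w' := by
  have h1 : n * (w * w') * n⁻¹ = n * w * n⁻¹ * (n * w' * n⁻¹) := by group
  have key : mv (H.U 0 (h.bt n (w * w'))) ![0, 0, 1, 0] = mv (H.U 0 (h.bt n w) * H.U 0 (h.bt n w')) ![0, 0, 1, 0] := by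
    rw [← h.act_bt hn (mul_mem hw hw'), h1, h.P.act_mul (h.conj_mem_C hn hw) (h.conj_mem_C hn hw'), h.act_bt hn hw',
      h.act_bt hn hw, mv_mul]
  rw [H.U_mul, add_zero, zero_mul, add_zero, mv_U0, mv_U0] at key
  have := congrFun key 0
  simpa using this

theorem bt_inv [Finite G] {w : G} (hw : w ∈ W) : h.bt n w⁻¹ = h.bt n w := by
  have : w⁻¹ = w := inv_eq_of_mul_eq_one_left (h.sq w hw)
  rw [this]

theorem bt_one [Finite G] : h.bt n 1 = 0 := by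
  have := h.bt_mul hn (one_mem W) (one_mem W)
  rw [mul_one] at this
  exact left_eq_add.1 this

theorem bt_eq_zero [Finite G] {w : G} (hw : w ∈ W) : h.bt n w = 0 ↔ n * w * n⁻¹ ∈ h.P.K := by
  rw [SzMod.mem_K]
  constructor
  · intro h1
    refine ⟨h.conj_mem_C hn hw, fun v => ?_⟩
    rw [h.act_bt hn hw, h1, mv_U0]
    rw [vec4 v]
    ext i
    fin_cases i <;> simp
  · rintro ⟨-, h1⟩
    unfold bt
    rw [h1]
    rfl

/-- `x` fixed by `Z(T)` -/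
theorem f_of_comm [Finite G] {w g : G} (hw : w ∈ W) (hb : h.bt n w = 1) (hg : g ∈ W)
    (hc : n * w * n⁻¹ * g = g * (n * w * n⁻¹)) : h.P.f g 2 = 0 ∧ h.P.f g 3 = 0 := by
  have hC := h.conj_mem_C hn hw
  have h1 : n * w * n⁻¹ * g * (n * w * n⁻¹)⁻¹ = g := by rw [hc]; group
  have h2 := h.f_conj hC hg
  rw [h1, h.act_bt hn hw, hb, mv_U0] at h2
  have h3 := congrFun h2 0
  have h4 := congrFun h2 1
  simp only [Matrix.cons_val_zero, Matrix.cons_val_one, map_one, one_mul] at h3 h4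
  have h5 : h.P.f g 3 = 0 := left_eq_add.1 h4
  refine ⟨?_, h5⟩
  rw [h5, add_zero] at h3
  exact left_eq_add.1 h3

omit hn

/-- conjugates `m W m⁻¹`, `m ∈ N(V) - N(Z)`, are the `s (n W n⁻¹) s⁻¹` -/
theorem conj_eq [Finite G] (hn : h.Sw n) {m w : G} (hm : m ∈ normalizer (V : Set G)) (hmC : m ∉ normalizer (Z : Set G))
    (hw : w ∈ W) : ∃ s ∈ S, ∃ b ∈ normalizer (V : Set G) ⊓ normalizer (Z : Set G), ∃ w' ∈ W,
      m = s * n * b ∧ w' = b * w * b⁻¹ ∧ m * w * m⁻¹ = s * (n * w' * n⁻¹) * s⁻¹ := by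
  obtain ⟨s, hs, b, hb, rfl⟩ := h.decomp hn hm hmC
  exact ⟨s, hs, b, hb, _, h.conjW hb.2 hw, rfl, rfl, by group⟩

/-- `W_y` acts nontrivially on `W / Z` -/
theorem exists_bt_ne [Finite G] (hn : h.Sw n) : ∃ w ∈ W, h.bt n w ≠ 0 := by
  by_contra hcon
  push Not at hcon
  have key : ∀ w ∈ W, ∀ x ∈ W, n * w * n⁻¹ * x * (n * w * n⁻¹)⁻¹ * x⁻¹ ∈ Z := fun w hw x hx =>
    h.K_comm ((h.bt_eq_zero hn hw).1 (hcon w hw)) hx
  have key2 : ∀ w ∈ W, ∀ x ∈ W, n * w * n⁻¹ * x = x * (n * w * n⁻¹) := by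
    intro w hw x hx
    have h1 := key w hw x hx
    have h2 : n⁻¹ * (n * w * n⁻¹ * x * (n * w * n⁻¹)⁻¹ * x⁻¹) * n ∈ Z := by
      have h3 : (n * n)⁻¹ * x * (n * n) ∈ W := h.conjW' (h.nn_C hn) hx
      have h4 := inv_mem (key _ h3 w hw)
      have h5 : (n * ((n * n)⁻¹ * x * (n * n)) * n⁻¹ * w * (n * ((n * n)⁻¹ * x * (n * n)) * n⁻¹)⁻¹ * w⁻¹)⁻¹ =
        n⁻¹ * (n * w * n⁻¹ * x * (n * w * n⁻¹)⁻¹ * x⁻¹) * n := by group
      rwa [h5] at h4
    obtain ⟨c, hc⟩ := (h.memZ _).1 h1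
    rw [← hc] at h2
    have h6 := h.sw_inv hn c 0
    rw [inv_inv] at h6
    rw [h6, h.e_memZ] at h2
    rw [h2, h.e_zero] at hc
    have h7 := hc.symm
    calc n * w * n⁻¹ * x = (n * w * n⁻¹ * x * (n * w * n⁻¹)⁻¹ * x⁻¹) * (x * (n * w * n⁻¹)) := by group
      _ = x * (n * w * n⁻¹) := by rw [h7, one_mul]
  obtain ⟨m, hm, x, hx, y, hy, hne⟩ := h.ne
  apply hne
  by_cases hmC : m ∈ normalizer (Z : Set G)
  · exact h.ab x hx _ (h.conjW hmC hy)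
  · obtain ⟨s, hs, b, hb, y', hy', -, -, e⟩ := h.conj_eq hn hm hmC hy
    have hsC := h.S_le_C hs
    have h1 := key2 y' hy' _ (h.conjW' hsC hx)
    rw [e]
    calc x * (s * (n * y' * n⁻¹) * s⁻¹) = s * ((s⁻¹ * x * s) * (n * y' * n⁻¹)) * s⁻¹ := by group
      _ = s * (n * y' * n⁻¹ * (s⁻¹ * x * s)) * s⁻¹ := by rw [h1]
      _ = s * (n * y' * n⁻¹) * s⁻¹ * x := by group

omit h in
theorem theta_surj [Finite F] (θ : F →+* F) : Function.Surjective θ :=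
  Finite.surjective_of_injective θ.injective

/-- a lift of the torus element `D k` lies in `N(V)` -/
theorem exists_D [Finite G] (k : Fˣ) : ∃ g ∈ normalizer (V : Set G) ⊓ normalizer (Z : Set G),
    ∀ v, h.P.act g v = mv (H.D k) v := by
  obtain ⟨g, hg, hgf⟩ := h.P.lift _ (H.D_mem k)
  have hact : ∀ v, h.P.act g v = mv (H.D k) v := by
    intro v
    obtain ⟨x, hx, rfl⟩ := h.P.f_surj v
    rw [h.P.act_f hg hx, hgf x hx]
  refine ⟨g, ⟨?_, hg⟩, hact⟩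
  refine mem_normalizer_of_map_le ?_
  rintro _ ⟨v, hv, rfl⟩
  obtain ⟨hvW, c, hc⟩ := (h.memV v).1 hv
  refine (h.memV _).2 ⟨h.conjW hg hvW, k * c, ?_⟩
  show h.P.f (g * v * g⁻¹) = _
  rw [h.f_conj hg hvW, hact, hc, mv_D]
  simp

/-- the image of `W_y` in `H_x` is `Z(T)` -/
theorem bt_surj [Finite G] (hn : h.Sw n) (b : F) : ∃ w ∈ W, h.bt n w = b := by
  have := h.finF
  by_cases hb0 : b = 0
  · exact ⟨1, one_mem _, by rw [h.bt_one hn, hb0]⟩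
  obtain ⟨w, hw, hw0⟩ := h.exists_bt_ne hn
  obtain ⟨k, hk⟩ := theta_surj θ (b / h.bt n w)
  have hk0 : k ≠ 0 := by
    rintro rfl
    rw [map_zero] at hk
    exact div_ne_zero hb0 hw0 hk.symm
  obtain ⟨g, hg, hgD⟩ := h.exists_D (Units.mk0 k hk0)
  have hnM := h.sw_mem hn
  have hgnC : g * n ∉ normalizer (Z : Set G) := by
    intro hc
    apply h.sw_notin hn
    have : g⁻¹ * (g * n) ∈ normalizer (Z : Set G) := Subgroup.mul_mem _ (inv_mem hg.2) hc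
    rwa [inv_mul_cancel_left] at this
  obtain ⟨s, hs, b', hb', w', hw', -, -, e⟩ := h.conj_eq hn (mul_mem hg.1 hnM) hgnC hw
  refine ⟨w', hw', ?_⟩
  obtain ⟨c, d, hcd⟩ := h.Ad.exists_U s hs
  have hsC := h.S_le_C hs
  have hC := h.conj_mem_C hn hw
  have hC' := h.conj_mem_C hn hw'
  -- compare the actions on `e₂`
  have e1 : g * (n * w * n⁻¹) * g⁻¹ = s * (n * w' * n⁻¹) * s⁻¹ := by rw [← e]; group
  have e2 : g * (n * w * n⁻¹) * (g⁻¹ * s) = s * (n * w' * n⁻¹) := by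
    calc g * (n * w * n⁻¹) * (g⁻¹ * s) = g * (n * w * n⁻¹) * g⁻¹ * s := by group
      _ = s * (n * w' * n⁻¹) := by rw [e1]; group
  have e3 : ∀ v, h.P.act (g * (n * w * n⁻¹)) v = mv (H.U 0 (b / h.bt n w * h.bt n w) * H.D (Units.mk0 k hk0)) v := by
    intro v
    rw [h.P.act_mul hg.2 hC, h.act_bt hn hw, hgD, ← mv_mul, H.D_mul_U]
    congr 3
    · rw [zero_mul, zero_mul]
    · rw [Units.val_mk0, hk]; ring
  have e4 : ∀ v, h.P.act (g * (n * w * n⁻¹)) v = h.P.act (s * (n * w' * n⁻¹) * s⁻¹ * g) v := by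
    intro v
    rw [← e1, inv_mul_cancel_right]
  have hgs : g⁻¹ * s ∈ normalizer (Z : Set G) := mul_mem (inv_mem hg.2) hsC
  have e5 : ∀ v, mv (H.U 0 b * H.U c d) v = mv (H.U c d * H.U 0 (h.bt n w')) v := by
    intro v
    have e6 : h.P.act (g * (n * w * n⁻¹) * (g⁻¹ * s)) v = h.P.act (s * (n * w' * n⁻¹)) v := by rw [e2]
    rw [h.P.act_mul (mul_mem hg.2 hC) hgs, h.P.act_mul hsC hC', hcd, h.act_bt hn hw', e3,
      div_mul_cancel₀ _ hw0, mv_mul, ← hgD, ← h.P.act_mul hg.2 hgs, mul_inv_cancel_left, hcd] at e6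
    rw [mv_mul, mv_mul, e6]
  have e7 := congrFun (e5 ![0, 0, 1, 0]) 0
  rw [H.U_mul, H.U_mul, mv_U, mv_U] at e7
  simp only [Matrix.cons_val_zero, Matrix.cons_val_one, Matrix.cons_val, map_zero, zero_mul, mul_zero, add_zero,
    zero_add, mul_one] at e7
  linear_combination -e7

/-! ### `I` -/

/-- the preimage of `M²` in `W` -/
def I : Subgroup G where
  carrier := {g | g ∈ W ∧ h.P.f g 2 = 0 ∧ h.P.f g 3 = 0}
  mul_mem' := by
    rintro x y ⟨hx, h1, h2⟩ ⟨hy, h3, h4⟩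
    refine ⟨mul_mem hx hy, ?_, ?_⟩
    · rw [h.f_mul hx hy, Pi.add_apply, h1, h3, add_zero]
    · rw [h.f_mul hx hy, Pi.add_apply, h2, h4, add_zero]
  one_mem' := ⟨one_mem _, by rw [h.f_one]; rfl, by rw [h.f_one]; rfl⟩
  inv_mem' := by
    rintro x ⟨hx, h1, h2⟩
    exact ⟨inv_mem hx, by rw [h.f_inv hx]; exact h1, by rw [h.f_inv hx]; exact h2⟩

theorem mem_I {g : G} : g ∈ h.I ↔ g ∈ W ∧ h.P.f g 2 = 0 ∧ h.P.f g 3 = 0 := Iff.rfl

theorem V_le_I : V ≤ h.I := by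
  intro v hv
  obtain ⟨hvW, c, hc⟩ := (h.memV v).1 hv
  exact ⟨hvW, by rw [hc]; rfl, by rw [hc]; rfl⟩

theorem I_le_W : h.I ≤ W := fun _ hx => hx.1

theorem mem_V_iff {g : G} (hg : g ∈ h.I) : g ∈ V ↔ h.P.f g 1 = 0 := by
  rw [h.memV]
  constructor
  · rintro ⟨-, c, hc⟩
    rw [hc]; rfl
  · intro h1
    refine ⟨hg.1, h.P.f g 0, ?_⟩
    rw [vec4 (h.P.f g), h1, hg.2.1, hg.2.2]
    rfl

/-- `W_x ⊓ W_y ≤ I` -/
theorem mem_I_of [Finite G] (hn : h.Sw n) {g : G} (hg : g ∈ W) (hg' : n⁻¹ * g * n ∈ W) : g ∈ h.I := by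
  obtain ⟨w, hw, hb⟩ := h.bt_surj hn 1
  refine ⟨hg, h.f_of_comm hn hw hb hg ?_⟩
  have h1 := h.ab w hw _ hg'
  calc n * w * n⁻¹ * g = n * (w * (n⁻¹ * g * n)) * n⁻¹ := by group
    _ = n * (n⁻¹ * g * n * w) * n⁻¹ := by rw [h1]
    _ = g * (n * w * n⁻¹) := by group

/-- `W_x` normalises `W_y` -/
theorem conj_conj_mem [Finite G] (hn : h.Sw n) {c w : G} (hc : c ∈ centralizer (V : Set G)) (hw : w ∈ W) :
    n⁻¹ * (c * (n * w * n⁻¹) * c⁻¹) * n ∈ W := by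
  have h3 : n⁻¹ * c * n⁻¹⁻¹ ∈ centralizer (V : Set G) := h.conjC (inv_mem (h.sw_mem hn)) hc
  have h4 := h.conjW (h.cen_le_C h3) hw
  have : n⁻¹ * (c * (n * w * n⁻¹) * c⁻¹) * n = n⁻¹ * c * n⁻¹⁻¹ * w * (n⁻¹ * c * n⁻¹⁻¹)⁻¹ := by group
  rwa [this]

/-- `I ≤ W_y` -/
theorem I_conj [Finite G] (hn : h.Sw n) {g : G} (hg : g ∈ h.I) : n⁻¹ * g * n ∈ W := by
  have hV : ∀ v ∈ V, n⁻¹ * v * n ∈ W := by
    intro v hv
    have := h.conjV (inv_mem (h.sw_mem hn)) hv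
    rw [inv_inv] at this
    exact h.V_le_W this
  -- commutators
  have key : ∀ v : Fin 4 → F, ∀ b : F, ∃ t ∈ W, n⁻¹ * t * n ∈ W ∧
      h.P.f t = ![b * v 2 + θ b * v 3, b * v 3, 0, 0] := by
    intro v b
    obtain ⟨w, hw, rfl⟩ := h.P.f_surj v
    obtain ⟨x, hx, hxb⟩ := h.bt_surj hn b
    have hC := h.conj_mem_C hn hx
    have hu := h.conjW hC hw
    refine ⟨n * x * n⁻¹ * w * (n * x * n⁻¹)⁻¹ * w⁻¹, mul_mem hu (inv_mem hw), ?_, ?_⟩
    · have h1 := h.conj_conj_mem hn (h.W_le_cen hw) (inv_mem hx)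
      have h2 := mul_mem hx h1
      have e : x * (n⁻¹ * (w * (n * x⁻¹ * n⁻¹) * w⁻¹) * n) =
        n⁻¹ * (n * x * n⁻¹ * w * (n * x * n⁻¹)⁻¹ * w⁻¹) * n := by group
      rwa [e] at h2
    · rw [h.f_mul hu (inv_mem hw), h.f_inv hw, h.f_conj hC hw, h.act_bt hn hx, hxb, mv_U0]
      have hs := fun i => H.add_self (h.P.f w i)
      ext i
      fin_cases i
      · simp only [Fin.zero_eta, Pi.add_apply, Matrix.cons_val_zero]
        linear_combination hs 0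
      · simp only [Fin.mk_one, Pi.add_apply, Matrix.cons_val_one, Matrix.cons_val_zero]
        linear_combination hs 1
      · simp only [Pi.add_apply]
        exact hs 2
      · simp only [Pi.add_apply]
        exact hs 3
  obtain ⟨t₁, ht₁, ht₁', hf₁⟩ := key ![0, 0, 0, 1] (h.P.f g 1)
  obtain ⟨t₂, ht₂, ht₂', hf₂⟩ := key ![0, 0, 1, 0] (h.P.f g 0 - θ (h.P.f g 1))
  have h1 : h.P.f (t₁ * t₂) = h.P.f g := by
    rw [h.f_mul ht₁ ht₂, hf₁, hf₂]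
    ext i
    fin_cases i
    · simp
    · simp
    · exact (by simp [hg.2.1])
    · exact (by simp [hg.2.2])
  have h2 : g * (t₁ * t₂)⁻¹ ∈ Z := by
    rw [← h.P.f_ker (mul_mem hg.1 (inv_mem (mul_mem ht₁ ht₂))), h.f_mul hg.1 (inv_mem (mul_mem ht₁ ht₂)),
      h.f_inv (mul_mem ht₁ ht₂), h1]
    exact funext fun i => H.add_self _
  have h3 := mul_mem (mul_mem (hV _ (h.Z_le_V h2)) ht₁') ht₂'
  have e : n⁻¹ * (g * (t₁ * t₂)⁻¹) * n * (n⁻¹ * t₁ * n) * (n⁻¹ * t₂ * n) = n⁻¹ * g * n := by group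
  rwa [e] at h3

theorem I_conj' [Finite G] (hn : h.Sw n) {g : G} (hg : g ∈ h.I) : n * g * n⁻¹ ∈ W := by
  have := h.I_conj (h.sw_inv hn) hg
  rwa [inv_inv] at this

theorem S_conj_I [Finite G] {s g : G} (hs : s ∈ S) (hg : g ∈ h.I) : s * g * s⁻¹ ∈ h.I := by
  obtain ⟨a, b, hab⟩ := h.Ad.exists_U s hs
  have hC := h.S_le_C hs
  have h1 : h.P.f (s * g * s⁻¹) = _ := (h.f_conj hC hg.1).trans (hab _)
  rw [mv_U] at h1
  refine ⟨h.conjW hC hg.1, ?_, ?_⟩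
  · rw [h1, hg.2.2]
    simp [hg.2.1]
  · rw [h1]
    exact hg.2.2

/-- `n` normalises `I` -/
theorem n_conj_I [Finite G] (hn : h.Sw n) {g : G} (hg : g ∈ h.I) : n * g * n⁻¹ ∈ h.I := by
  refine h.mem_I_of hn (h.I_conj' hn hg) ?_
  have : n⁻¹ * (n * g * n⁻¹) * n = g := by group
  rw [this]
  exact hg.1

/-- `B` normalises `I` -/
theorem B_conj_I [Finite G] {b g : G} (hb : b ∈ normalizer (V : Set G) ⊓ normalizer (Z : Set G))
    (hg : g ∈ h.I) : b * g * b⁻¹ ∈ h.I := by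
  obtain ⟨n, hn⟩ := h.exists_sw
  have hbn : b * n ∉ normalizer (Z : Set G) := by
    intro hc
    apply h.sw_notin hn
    have : b⁻¹ * (b * n) ∈ normalizer (Z : Set G) := Subgroup.mul_mem _ (inv_mem hb.2) hc
    rwa [inv_mul_cancel_left] at this
  obtain ⟨s, hs, b', hb', e⟩ := h.decomp hn (mul_mem hb.1 (h.sw_mem hn)) hbn
  have hsC := h.S_le_C hs
  have h1 := h.conjW hb.2 hg.1
  have h2 : s⁻¹ * (b * g * b⁻¹) * s ∈ h.I := by
    refine h.mem_I_of hn (h.conjW' hsC h1) ?_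
    have e1 : n⁻¹ * (s⁻¹ * (b * g * b⁻¹) * s) * n = b' * (n⁻¹ * g * n) * b'⁻¹ := by
      have e2 : b = s * n * b' * n⁻¹ := by rw [← e]; group
      rw [e2]; group
    rw [e1]
    exact h.conjW hb'.2 (h.I_conj hn hg)
  have h3 := h.S_conj_I hs h2
  have e : s * (s⁻¹ * (b * g * b⁻¹) * s) * s⁻¹ = b * g * b⁻¹ := by group
  rwa [e] at h3

/-- `I` is normal in `N(V)` -/
theorem M_conj_I [Finite G] {m g : G} (hm : m ∈ normalizer (V : Set G)) (hg : g ∈ h.I) : m * g * m⁻¹ ∈ h.I := by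
  by_cases hmC : m ∈ normalizer (Z : Set G)
  · exact h.B_conj_I ⟨hm, hmC⟩ hg
  · obtain ⟨n, hn⟩ := h.exists_sw
    obtain ⟨s, hs, b, hb, rfl⟩ := h.decomp hn hm hmC
    have h1 := h.S_conj_I hs (h.n_conj_I hn (h.B_conj_I hb hg))
    have e : s * (n * (b * g * b⁻¹) * n⁻¹) * s⁻¹ = s * n * b * g * (s * n * b)⁻¹ := by group
    rwa [e] at h1

/-- `C_W(W_y) ≤ I` -/
theorem mem_I_of_comm [Finite G] (hn : h.Sw n) {g : G} (hg : g ∈ W) (hc : ∀ w ∈ W, n * w * n⁻¹ * g = g * (n * w * n⁻¹)) :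
    g ∈ h.I := by
  obtain ⟨w, hw, hb⟩ := h.bt_surj hn 1
  exact ⟨hg, h.f_of_comm hn hw hb hg (hc w hw)⟩

/-- `I` centralises `W_y` -/
theorem I_comm [Finite G] (hn : h.Sw n) {g w : G} (hg : g ∈ h.I) (hw : w ∈ W) :
    n * w * n⁻¹ * g = g * (n * w * n⁻¹) := by
  have h1 := h.ab w hw _ (h.I_conj hn hg)
  calc n * w * n⁻¹ * g = n * (w * (n⁻¹ * g * n)) * n⁻¹ := by group
    _ = n * (n⁻¹ * g * n * w) * n⁻¹ := by rw [h1]
    _ = g * (n * w * n⁻¹) := by group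

end Sit

end Cfsg.Agent.Omega.TwoFFour
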