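import Cfsg.Agent.Omega.TwoFFour.Cover

/-!
# THEOREM 2F4: the involutions of `C(W)` lie in `W`

`Ext` : further facts of (1)-(4), not contained in `Oct`.

`F_j = C(W_j)`, `D = F₀ ∩ F₂`.  `D ≤ W` by coprime action and (GEN); `F₀ = W E`.

* `Oct.D_le : F₀ ∩ F₂ ≤ W`;
* `Oct.cen_eq` : `C(W) = W E`;
* `Oct.mem_W_of_sq` : the involutions of `C(W)` lie in `W`.
-/

set_option autoImplicit false
set_option linter.unusedSectionVars false

namespace Cfsg.Agent.Omega.TwoFFour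

open Subgroup Cfsg.Agent.Omega.BTwo Cfsg.Agent.RankTwoClose

/-- Further facts of (1)-(4). -/
structure Ext {G : Type*} [Group G] (Q : Bool → Subgroup G) (n : Bool → G) (S H Z W O : Subgroup G)
    {N : ℕ} (θ : ZMod N) (x y : G → ZMod N) : Prop where
  Z_W : Z ≤ W
  Z₂_W : cj (n true) Z ≤ W
  O_W : O ≤ W
  W_ab : ∀ v ∈ W, ∀ w ∈ W, v * w = w * v
  W_sq : ∀ w ∈ W, w * w = 1
  /-- `[Q₀, W] ≤ Z` -/
  Q_W : ∀ s ∈ Q false, ∀ w ∈ W, s * w * s⁻¹ * w⁻¹ ∈ Z
  Z_inf : Z ⊓ cj (n true) Z = ⊥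
  /-- `S / Q₀` is a Suzuki group, `C_{S/Q₀}(O₁) = Z(S / Q₀)` -/
  sqO : ∀ s ∈ S, (∀ z ∈ O, s * z = z * s) → s * s ∈ Q false
  /-- the weight of `Hom(O₁, Z₀)` -/
  trivO : ∀ t ∈ H, (θ - 1) * (x t + y t) = x t → ∀ s ∈ Q false, ∀ z ∈ O,
    (t * s * t⁻¹ * s⁻¹) * z = z * (t * s * t⁻¹ * s⁻¹)

theorem cj_eq_of {G : Type*} [Group G] {X : Subgroup G} {g g' : G} (h : cj (g⁻¹ * g') X = X) :
    cj g' X = cj g X := by
  conv_rhs => rw [← h]
  rw [← cj_mul]
  congr 1
  group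

/-- elements of `A ⊔ B`, `A` and `B` commuting -/
theorem mem_sup_of_comm {G : Type*} [Group G] {A B : Subgroup G} (hc : ∀ a ∈ A, ∀ b ∈ B, a * b = b * a)
    {g : G} (hg : g ∈ A ⊔ B) : ∃ a ∈ A, ∃ b ∈ B, g = a * b := by
  let K : Subgroup G :=
    { carrier := {g | ∃ a ∈ A, ∃ b ∈ B, g = a * b}
      one_mem' := ⟨1, one_mem _, 1, one_mem _, by simp⟩
      mul_mem' := by
        rintro _ _ ⟨a, ha, b, hb, rfl⟩ ⟨a', ha', b', hb', rfl⟩
        refine ⟨a * a', mul_mem ha ha', b * b', mul_mem hb hb', ?_⟩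
        calc a * b * (a' * b') = a * (b * a') * b' := by group
          _ = a * (a' * b) * b' := by rw [hc a' ha' b hb]
          _ = a * a' * (b * b') := by group
      inv_mem' := by
        rintro _ ⟨a, ha, b, hb, rfl⟩
        refine ⟨a⁻¹, inv_mem ha, b⁻¹, inv_mem hb, ?_⟩
        rw [mul_inv_rev, hc _ (inv_mem ha) _ (inv_mem hb)] }
  have h1 : A ⊔ B ≤ K := by
    refine sup_le ?_ ?_
    · exact fun a ha => ⟨a, ha, 1, one_mem _, by simp⟩
    · exact fun b hb => ⟨1, one_mem _, b, hb, by simp⟩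
  exact h1 hg

namespace Oct

variable {G : Type*} [Group G] {P Q : Bool → Subgroup G} {n : Bool → G} {B S H Z W O : Subgroup G}
  {N : ℕ} {θ : ZMod N} {x y : G → ZMod N}

section words

variable (h : Oct P Q n B S H Z W O θ x y)
include h

theorem cj_Z {p : G} (hp : p ∈ P false) : cj p Z = Z := by
  apply le_antisymm
  · rw [cj_le_iff]; exact h.Z_nrm p hp
  · intro a ha
    rw [mem_cj]
    have := h.Z_nrm _ (inv_mem hp) a ha
    rwa [inv_inv] at this

theorem cj_F {p : G} (hp : p ∈ P false) : cj p (centralizer (W : Set G)) = centralizer (W : Set G) := by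
  rw [← centralizer_cj, h.cj_W hp]

/-- `n₁ n₀² n₁ ∈ B` -/
theorem mem_mid : n true * n false * n false * n true ∈ B := by
  have e : n true * n false * n false * n true =
      (n true * n true) * ((n true)⁻¹ * (n false * n false) * n true) := by group
  rw [e]
  exact mul_mem (h.sq_mem true) (h.conj_H₁ true (h.sq_mem false) (h.sq_norm false))

/-- `n₁ X₋₂ n₁⁻¹ = X₄` -/
theorem cj_X₄ {X : Subgroup G} (hX : ∀ p ∈ P false, cj p X = X) :
    cj (n true) (cj (n true * n false)⁻¹ X) = cj ((n true * n false) * (n true * n false)) X := by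
  rw [← cj_mul]
  apply cj_eq_of
  apply hX
  have e : ((n true * n false) * (n true * n false))⁻¹ * (n true * (n true * n false)⁻¹) =
      (n false)⁻¹ * (((n true)⁻¹ * ((n false)⁻¹ * (n false)⁻¹) * n true) *
        ((n true)⁻¹ * (n true)⁻¹)) := by group
  rw [e]
  refine mul_mem (inv_mem (h.n_mem false)) (h.B_le false (mul_mem ?_ (h.sq_mem' true)))
  exact h.conj_H₁ true (h.sq_mem' false)
    (mul_mem (inv_mem (h.n_norm false)) (inv_mem (h.n_norm false)))

/-- `g B g⁻¹` normalises `g Y g⁻¹` -/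
theorem nrm_cj {g s r : G} {Y : Subgroup G} (hY : ∀ b ∈ B, cj b Y = Y) (hs : s ∈ cj g B) (hr : r ∈ cj g Y) :
    s * r * s⁻¹ ∈ cj g Y := by
  rw [mem_cj] at hs hr ⊢
  have h1 := conj_mem_cj (g := g⁻¹ * s * g) hr
  rw [hY _ hs] at h1
  have e : g⁻¹ * (s * r * s⁻¹) * g = g⁻¹ * s * g * (g⁻¹ * r * g) * (g⁻¹ * s * g)⁻¹ := by group
  rwa [e]

theorem H_cj {g t : G} (hg : g ∈ normalizer (H : Set G)) (ht : t ∈ H) : t ∈ cj g B := by
  rw [mem_cj]
  exact h.H_le (h.H_conj hg ht)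

theorem mem_cj_cen {g s : G} (h0 : ∀ z ∈ cj g Z, s * z = z * s) (h1 : ∀ z ∈ cj (g * n true) Z, s * z = z * s)
    (h2 : ∀ z ∈ cj (g * n false * n true) Z, s * z = z * s) (h3 : ∀ z ∈ cj g O, s * z = z * s)
    (h4 : ∀ z ∈ cj (g * n false) O, s * z = z * s) : s ∈ cj g (centralizer (W : Set G)) := by
  rw [← centralizer_cj, mem_centralizer_iff]
  have hle : cj g W ≤ centralizer ({s} : Set G) := by
    refine (cj_mono h.W_gen).trans ?_
    have aux : ∀ {K : Subgroup G}, (∀ z ∈ K, s * z = z * s) → K ≤ centralizer ({s} : Set G) :=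
      fun hK z hz => mem_centralizer_singleton_iff.2 (hK z hz).symm
    rw [cj_sup, cj_sup, cj_sup, cj_sup, ← cj_mul, ← cj_mul, ← cj_mul, ← mul_assoc]
    exact sup_le (sup_le (sup_le (sup_le (aux h0) (aux h1)) (aux h2)) (aux h3)) (aux h4)
  intro w hw
  exact mem_centralizer_singleton_iff.1 (hle hw)

/-- elements of `g S g⁻¹` centralise `g Z g⁻¹` -/
theorem comm_Z {g s : G} (hs : s ∈ cj g S) : ∀ z ∈ cj g Z, s * z = z * s := by
  intro z hz
  rw [mem_cj] at hs hz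
  have h1 := h.Z_cen _ hz _ hs
  have e1 : s * z = g * (g⁻¹ * s * g * (g⁻¹ * z * g)) * g⁻¹ := by group
  have e2 : z * s = g * (g⁻¹ * z * g * (g⁻¹ * s * g)) * g⁻¹ := by group
  rw [e1, e2, h1]

theorem comm_W {g s : G} (hs : s ∈ cj g (centralizer (W : Set G))) : ∀ z ∈ cj g W, s * z = z * s := by
  intro z hz
  rw [← centralizer_cj] at hs
  exact (mem_centralizer_iff.1 hs z hz).symm

theorem cj_Q' (i : Bool) {b : G} (hb : b ∈ B) : cj b (Q i) = Q i := h.cj_Q i (h.B_le i hb)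

/-- `g Q₁ g⁻¹ ≤ g n₁ S (g n₁)⁻¹` -/
theorem Q₁_le (g : G) : cj g (Q true) ≤ cj (g * n true) S := by
  rw [← h.cj_n_Q]
  exact cj_mono (h.Q_le true)

theorem F_le_Q (i : Bool) (g : G) : cj g (centralizer (W : Set G)) ≤ cj g (Q i) := cj_mono (h.W_cen i)

theorem x_taui {t : G} (ht : t ∈ H) :
    x ((n true * n false)⁻¹⁻¹ * t * (n true * n false)⁻¹) = θ * x t - y t := by
  have e : (n true * n false)⁻¹⁻¹ * t * (n true * n false)⁻¹ =
      n true * (n false * t * (n false)⁻¹) * (n true)⁻¹ := by group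
  rw [e, h.x₁' (h.n_conj false ht), h.y₀' ht]

theorem y_taui {t : G} (ht : t ∈ H) : y ((n true * n false)⁻¹⁻¹ * t * (n true * n false)⁻¹) = x t := by
  have e : (n true * n false)⁻¹⁻¹ * t * (n true * n false)⁻¹ =
      n true * (n false * t * (n false)⁻¹) * (n true)⁻¹ := by group
  rw [e, h.y₁' (h.n_conj false ht), h.x₀' ht]

theorem x_mul_n₀ {g t : G} (hg : g ∈ normalizer (H : Set G)) (ht : t ∈ H) :
    x ((g * n false)⁻¹ * t * (g * n false)) = x (g⁻¹ * t * g) := by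
  have e : (g * n false)⁻¹ * t * (g * n false) = (n false)⁻¹ * (g⁻¹ * t * g) * n false := by group
  rw [e, h.x₀ _ (h.H_conj hg ht)]

theorem y_mul_n₀ {g t : G} (hg : g ∈ normalizer (H : Set G)) (ht : t ∈ H) :
    y ((g * n false)⁻¹ * t * (g * n false)) = θ * x (g⁻¹ * t * g) - y (g⁻¹ * t * g) := by
  have e : (g * n false)⁻¹ * t * (g * n false) = (n false)⁻¹ * (g⁻¹ * t * g) * n false := by group
  rw [e, h.y₀ _ (h.H_conj hg ht)]

/-- `triv` at the chamber `g` -/
theorem triv' (i : Bool) {g t s : G} (hg : g ∈ normalizer (H : Set G)) (ht : t ∈ H)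
    (hf : fr θ x y i (g⁻¹ * t * g) = 0) (hs : s ∈ cj g S) : t * s * t⁻¹ * s⁻¹ ∈ cj g (Q i) := by
  rw [mem_cj] at hs ⊢
  have h1 := h.triv i _ (h.H_conj hg ht) hf _ hs
  have e : g⁻¹ * (t * s * t⁻¹ * s⁻¹) * g =
      g⁻¹ * t * g * (g⁻¹ * s * g) * (g⁻¹ * t * g)⁻¹ * (g⁻¹ * s * g)⁻¹ := by group
  rwa [e]

end words

section cop

variable [Finite G] (h : Oct P Q n B S H Z W O θ x y)
include h

/-- coprime action: `[X, A] ≤ Y` and `C_X(A) = 1` imply `X ≤ Y` -/
theorem cop {A X Y : Subgroup G} (hA : A ≤ H) (hX : X ≤ S) (hAX : ∀ a ∈ H, ∀ s ∈ X, a * s * a⁻¹ ∈ X)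
    (hAY : ∀ a ∈ H, ∀ s ∈ Y, a * s * a⁻¹ ∈ Y) (hXY : ∀ s ∈ X, ∀ r ∈ Y, s * r * s⁻¹ ∈ Y)
    (h1 : ∀ a ∈ A, ∀ s ∈ X, a * s * a⁻¹ * s⁻¹ ∈ Y) (h2 : ∀ s ∈ X, (∀ a ∈ A, a * s = s * a) → s = 1) :
    X ≤ Y := by
  intro s hs
  have hp : Fact (Nat.Prime 2) := ⟨Nat.prime_two⟩
  have hX2 : IsPGroup 2 X := h.twoS.to_le hX
  have hcop : (Nat.card A).Coprime (Nat.card X) := by
    obtain ⟨m, hm⟩ := IsPGroup.iff_card.1 hX2
    rw [hm]
    apply Nat.Coprime.pow_right
    rw [Nat.coprime_two_right]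
    exact Odd.of_dvd_nat h.oddH (card_dvd_of_le hA)
  have hsolv : Group.IsSolvable A ∨ Group.IsSolvable X := by
    right
    have := hX2.isNilpotent
    infer_instance
  obtain ⟨c, hc, hcs⟩ := Cfsg.Agent.S0022.result A X
    (fun a ha => mem_normalizer_of_conj fun r hr => hAX a (hA ha) r hr) hcop hsolv
    (X ⊓ Y) inf_le_left
    (fun u hu => mem_normalizer_of_conj fun q hq =>
      mem_inf.2 ⟨mul_mem (mul_mem hu hq.1) (inv_mem hu), hXY u hu q hq.2⟩)
    (fun a ha => mem_normalizer_of_conj fun q hq =>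
      mem_inf.2 ⟨hAX a (hA ha) q hq.1, hAY a (hA ha) q hq.2⟩)
    s hs (fun a ha => mem_inf.2 ⟨mul_mem (hAX a (hA ha) s hs) (inv_mem hs), h1 a ha s hs⟩)
  have hc1 : c = 1 := h2 c hc.1 fun a ha => mem_centralizer_iff.1 hc.2 a ha
  rw [hc1, mul_one] at hcs
  exact inv_mem_iff.1 hcs.2

end cop

section inv

variable [Finite G] (h : Oct P Q n B S H Z W O θ x y) (k : Ext Q n S H Z W O θ x y)
include h k

theorem W_le_cen : W ≤ centralizer (W : Set G) := by
  intro w hw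
  rw [mem_centralizer_iff]
  exact fun v hv => k.W_ab v hv w hw

theorem W_le_Q (i : Bool) (g : G) : cj g W ≤ cj g (Q i) := cj_mono ((h.W_le_cen k).trans (h.W_cen i))

theorem Z_le_W₂ : Z ≤ cj (n true) W := by
  have h1 := cj_mono (g := n true) k.Z₂_W
  rwa [← cj_mul, h.cj_Z (h.B_le false (h.sq_mem true))] at h1

/-- step A: `F₀` induces `Z(T₂)` on `W₂ / Z₂` -/
theorem step_A {f : G} (hf : f ∈ centralizer (W : Set G)) : ∃ w ∈ W, w⁻¹ * f ∈ cj (n true) (Q false) := by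
  have h1 : (n true)⁻¹ * f * n true ∈ Q true := by
    have := h.Q_nrm true _ (inv_mem (h.n_mem true)) _ (h.W_cen true hf)
    rwa [inv_inv] at this
  obtain ⟨z, hz, hq⟩ := h.omega _ (h.Q_le true h1) (k.sqO _ (h.Q_le true h1) fun o ho => by
    have h2 : n true * o * (n true)⁻¹ ∈ W := by
      have h3 := conj_mem_cj (g := n true) (h.O_le ho)
      rwa [← cj_mul, h.cj_W (h.B_le false (h.sq_mem true))] at h3
    have h3 := mem_centralizer_iff.1 hf _ h2
    have e1 : (n true)⁻¹ * f * n true * o = (n true)⁻¹ * (f * (n true * o * (n true)⁻¹)) * n true := by group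
    have e2 : o * ((n true)⁻¹ * f * n true) = (n true)⁻¹ * (n true * o * (n true)⁻¹ * f) * n true := by group
    rw [e1, e2, h3])
  refine ⟨n true * z * (n true)⁻¹, ?_, ?_⟩
  · have h2 := conj_mem_cj (g := n true) hz
    rw [← cj_mul] at h2
    have e : n true * (n true * n false * n true) = n true * n true * (n false * n true) := by group
    rw [e, cj_mul] at h2
    have h3 : cj (n false * n true) Z ≤ W := by
      rw [cj_mul]
      have h4 := cj_mono (g := n false) k.Z₂_W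
      rwa [h.cj_W (h.n_mem false)] at h4
    have h4 := cj_mono (g := n true * n true) h3 h2
    rwa [h.cj_W (h.B_le false (h.sq_mem true))] at h4
  · rw [mem_cj]
    have e : (n true)⁻¹ * ((n true * z * (n true)⁻¹)⁻¹ * f) * n true = z⁻¹ * ((n true)⁻¹ * f * n true) := by
      group
    rwa [e]

/-- step B: `W₀ ∩ Q₂` covers `S_{2,3} / Q₃` -/
theorem step_B {f : G} (hf : f ∈ cj (n true) (Q false)) :
    ∃ w ∈ W, w ∈ cj (n true) (Q false) ∧ w⁻¹ * f ∈ cj (n true * n false) (Q true) := by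
  have e0 : cj (n true * n false) (Q false) = cj (n true) (Q false) := by
    rw [cj_mul, h.cj_Q false (h.n_mem false)]
  have h1 : (n true * n false)⁻¹ * f * (n true * n false) ∈ S := by
    rw [← e0, mem_cj] at hf
    exact h.Q_le false hf
  obtain ⟨r, hr, hr'⟩ := h.gen₁ _ h1
  have h2 := conj_mem_cj (g := n true * n false) hr
  rw [cj_inf, cj_cj_inv, e0] at h2
  refine ⟨_, h2.1, h2.2, ?_⟩
  rw [mem_cj]
  have e : (n true * n false)⁻¹ * ((n true * n false * r * (n true * n false)⁻¹)⁻¹ * f) * (n true * n false) =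
      r⁻¹ * ((n true * n false)⁻¹ * f * (n true * n false)) := by group
  rwa [e]

omit k in
theorem E_le_Q₃ : h.E ≤ cj (n true * n false) (Q true) := by
  intro s hs
  obtain ⟨a, haA, ha, ax, ay⟩ := h.exists_a
  have h1 : s ∈ cj (n true * n false) S := cj_mono (h.Q_le false) (h.E_le₂ hs)
  exact h.mem_Q (i := true) (g := n true * n false) h.tau_norm ha (by
    show x _ - y _ ≠ 0
    rw [h.x_tau ha, h.y_tau ha, ax, ay]
    intro h0; exact h.th1_ne' (by linear_combination -h0)) h1 ((h.mem_E.1 hs).2 a haA)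

/-- `Q₄` in two forms -/
theorem Q₄_eq : cj (n true * n false * n true) (Q false) =
    cj ((n true * n false) * (n true * n false)) (Q false) := (h.cj_tau_Q _).symm

/-- step C -/
theorem step_C {f : G} (hf : f ∈ cj (n true * n false) (Q true)) :
    ∃ e ∈ h.E, e⁻¹ * f ∈ cj ((n true * n false) * (n true * n false)) (Q false) := by
  obtain ⟨e, he, h1⟩ := h.E_cov f (h.Q₁_le _ hf)
  rw [h.Q₄_eq k] at h1
  exact ⟨e, he, h1⟩

/-- step D -/
theorem step_D {l : G} (h0 : l ∈ centralizer (W : Set G)) (h2 : l ∈ cj (n true) (Q false))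
    (h3 : l ∈ cj (n true * n false) (Q true))
    (h4 : l ∈ cj ((n true * n false) * (n true * n false)) (Q false)) :
    l ∈ cj (n true) (centralizer (W : Set G)) := by
  set τ := n true * n false with hτ
  have e0 : cj τ (Q false) = cj (n true) (Q false) := by
    rw [cj_mul, h.cj_Q false (h.n_mem false)]
  have e1 : cj τ (centralizer (W : Set G)) = cj (n true) (centralizer (W : Set G)) := by
    rw [cj_mul, h.cj_F (h.n_mem false)]
  have hcW : ∀ z ∈ W, l * z = z * l := fun z hz => (mem_centralizer_iff.1 h0 z hz).symm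
  rw [← e1]
  refine h.mem_cj_cen ?_ ?_ ?_ ?_ ?_
  · intro z hz
    apply hcW
    rw [hτ, cj_mul, h.cj_Z (h.n_mem false)] at hz
    exact k.Z₂_W hz
  · exact h.comm_Z (h.Q₁_le _ h3)
  · intro z hz
    apply hcW
    have e : τ * n false * n true = n true * n false * n false * n true := by rw [hτ]
    rw [e, h.cj_Z (h.B_le false h.mem_mid)] at hz
    exact k.Z_W hz
  · -- `O₃`
    intro z hz
    have a1 : l * z * l⁻¹ * z⁻¹ ∈ cj τ Z := by
      rw [← e0] at h2
      have hz' : z ∈ cj τ W := cj_mono k.O_W hz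
      rw [mem_cj] at h2 hz' ⊢
      have := k.Q_W _ h2 _ hz'
      have e : τ⁻¹ * (l * z * l⁻¹ * z⁻¹) * τ = τ⁻¹ * l * τ * (τ⁻¹ * z * τ) * (τ⁻¹ * l * τ)⁻¹ * (τ⁻¹ * z * τ)⁻¹ := by
        group
      rwa [e]
    have a2 : l * z * l⁻¹ * z⁻¹ ∈ cj (τ * n true) Z := by
      have hz' : z ∈ cj (τ * n true) W := by
        rw [cj_mul]; exact cj_mono h.O_le hz
      rw [← h.Q₄_eq k] at h4
      rw [mem_cj] at h4 hz' ⊢
      have := k.Q_W _ h4 _ hz'
      have e : ∀ g : G, g⁻¹ * (l * z * l⁻¹ * z⁻¹) * g = g⁻¹ * l * g * (g⁻¹ * z * g) * (g⁻¹ * l * g)⁻¹ *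
          (g⁻¹ * z * g)⁻¹ := by
        intro g; group
      rw [e]
      exact this
    have a3 : l * z * l⁻¹ * z⁻¹ ∈ cj τ (Z ⊓ cj (n true) Z) := by
      rw [cj_inf, ← cj_mul]
      exact ⟨a1, a2⟩
    rw [k.Z_inf, cj_bot, mem_bot] at a3
    calc l * z = (l * z * l⁻¹ * z⁻¹) * (z * l) := by group
      _ = z * l := by rw [a3, one_mul]
  · intro z hz
    apply hcW
    have h5 : cj (τ * n false) O ≤ W := by
      have h6 := cj_mono (g := τ * n false) h.O_le
      rw [← cj_mul] at h6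
      have e : τ * n false * n true = n true * n false * n false * n true := by rw [hτ]
      rwa [e, h.cj_W (h.B_le false h.mem_mid)] at h6
    exact h5 hz

/-- step E: `E ∩ F₂ = Z` -/
theorem step_E {e : G} (he : e ∈ h.E) (h2 : e ∈ cj (n true) (centralizer (W : Set G))) : e ∈ Z := by
  have hs : e ∈ cj (n true * n false * n true) S := h.E_le₃ he
  set w := n true * n false * n true with hw
  have h1 : w⁻¹ * e * w * (w⁻¹ * e * w) ∈ Q false := by
    refine k.sqO _ (mem_cj.1 hs) fun o ho => ?_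
    have h3 : w * o * w⁻¹ ∈ cj (n true) W := by
      have h4 := conj_mem_cj (g := w) (h.O_le ho)
      rw [← cj_mul] at h4
      have e1 : cj (w * n true) W = cj (n true) W := by
        have : w * n true = n true * (n false * (n true * n true)) := by rw [hw]; group
        rw [this, cj_mul, h.cj_W (mul_mem (h.n_mem false) (h.B_le false (h.sq_mem true)))]
      rwa [e1] at h4
    have h4 := h.comm_W h2 _ h3
    have e1 : w⁻¹ * e * w * o = w⁻¹ * (e * (w * o * w⁻¹)) * w := by group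
    have e2 : o * (w⁻¹ * e * w) = w⁻¹ * (w * o * w⁻¹ * e) * w := by group
    rw [e1, e2, h4]
  have h3 : e * e ∈ h.E ⊓ cj ((n true * n false) * (n true * n false)) (Q false) := by
    refine mem_inf.2 ⟨mul_mem he he, ?_⟩
    rw [← h.Q₄_eq k, mem_cj]
    have e1 : w⁻¹ * (e * e) * w = w⁻¹ * e * w * (w⁻¹ * e * w) := by group
    rwa [e1]
  rw [h.E_inf, mem_bot] at h3
  exact h.E_sq he h3

/-- `F₀` modulo `D ∩ Q₄` -/
theorem step_F₀ {f : G} (hf : f ∈ centralizer (W : Set G)) (h2 : f ∈ cj (n true) (Q false))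
    (h3 : f ∈ cj (n true * n false) (Q true)) : ∃ e ∈ h.E, ∃ l, f = e * l ∧
      l ∈ centralizer (W : Set G) ∧ l ∈ cj (n true) (centralizer (W : Set G)) ∧
      l ∈ cj ((n true * n false) * (n true * n false)) (Q false) := by
  obtain ⟨e, he, h4⟩ := h.step_C k h3
  have hl0 : e⁻¹ * f ∈ centralizer (W : Set G) := mul_mem (inv_mem (h.E_le_cen he)) hf
  refine ⟨e, he, e⁻¹ * f, by group, hl0, ?_, h4⟩
  refine h.step_D k hl0 (mul_mem (inv_mem ?_) h2) (mul_mem (inv_mem (h.E_le_Q₃ he)) h3) h4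
  have := h.E_le₂ he
  rwa [cj_mul, h.cj_Q false (h.n_mem false)] at this

/-- step F: `D = Z (D ∩ Q₄)` -/
theorem step_F {d : G} (hd : d ∈ centralizer (W : Set G)) (hd' : d ∈ cj (n true) (centralizer (W : Set G))) :
    ∃ z ∈ Z, z⁻¹ * d ∈ cj ((n true * n false) * (n true * n false)) (Q false) := by
  have h2 : d ∈ cj (n true) (Q false) := h.F_le_Q false _ hd'
  have h3 : d ∈ cj (n true * n false) (Q true) := by
    have h4 : d ∈ cj (n true * n false) (centralizer (W : Set G)) := by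
      rwa [cj_mul, h.cj_F (h.n_mem false)]
    exact h.F_le_Q true _ h4
  obtain ⟨e, he, l, hdl, -, hl2, hl4⟩ := h.step_F₀ k hd h2 h3
  refine ⟨e, h.step_E k he ?_, ?_⟩
  · have e1 : e = d * l⁻¹ := by rw [hdl]; group
    rw [e1]
    exact mul_mem hd' (inv_mem hl2)
  · rw [hdl]
    have e1 : e⁻¹ * (e * l) = l := by group
    rwa [e1]

theorem nD {d : G} (hd : d ∈ centralizer (W : Set G)) : n true * d * (n true)⁻¹ ∈ cj (n true) (centralizer (W : Set G)) :=
  conj_mem_cj hd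

theorem nD' {d : G} (hd : d ∈ cj (n true) (centralizer (W : Set G))) :
    n true * d * (n true)⁻¹ ∈ centralizer (W : Set G) := by
  have h1 := conj_mem_cj (g := n true) hd
  rwa [← cj_mul, h.cj_F (h.B_le false (h.sq_mem true))] at h1

/-- step G: `D = Z₂ (D ∩ Q₋₂)` -/
theorem step_G {d : G} (hd : d ∈ centralizer (W : Set G)) (hd' : d ∈ cj (n true) (centralizer (W : Set G))) :
    ∃ z ∈ cj (n true) Z, z⁻¹ * d ∈ cj (n true * n false)⁻¹ (Q false) := by
  obtain ⟨z, hz, hzd⟩ := h.step_F k (h.nD' k hd') (h.nD k hd)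
  refine ⟨(n true)⁻¹ * z * n true, ?_, ?_⟩
  · rw [mem_cj]
    have e : (n true)⁻¹ * ((n true)⁻¹ * z * n true) * n true = (n true * n true)⁻¹ * z * (n true * n true) := by
      group
    rw [e]
    have h1 := h.Z_nrm _ (inv_mem (h.B_le false (h.sq_mem true))) z hz
    rwa [inv_inv] at h1
  · rw [← h.cj_X₄ (X := Q false) (fun p hp => h.cj_Q false hp), mem_cj] at hzd
    have e : (n true)⁻¹ * (z⁻¹ * (n true * d * (n true)⁻¹)) * n true = ((n true)⁻¹ * z * n true)⁻¹ * d := by group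
    rwa [e] at hzd

/-- step H: `Z₂ ≤ W₄` -/
theorem Z₂_le_W₄ : cj (n true) Z ≤ cj ((n true * n false) * (n true * n false)) W := by
  have h1 := cj_mono (g := n true * n false) (h.Z_le_W₂ k)
  rw [← cj_mul, cj_mul, h.cj_Z (h.n_mem false), ← h.cj_tau_W] at h1
  exact h1

/-- step I -/
theorem step_I {d : G} (hd : d ∈ cj ((n true * n false) * (n true * n false)) (Q false)) :
    ∃ b ∈ W, b ∈ cj (n true) W ∧ b ∈ cj ((n true * n false) * (n true * n false)) (Q false) ∧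
      b⁻¹ * d ∈ cj ((n true * n false) * (n true * n false)) (Q true) := by
  set τ := n true * n false with hτ
  have eW : cj τ W = cj (n true) W := by rw [cj_mul, h.cj_W (h.n_mem false)]
  have h1 : (τ * τ)⁻¹ * d * (τ * τ) ∈ S := h.Q_le false (mem_cj.1 hd)
  obtain ⟨r₀, hr₀, hr₀'⟩ := h.gen₁ _ h1
  set r := τ * τ * r₀ * (τ * τ)⁻¹ with hr
  have hrW : r ∈ cj τ W := by
    have h2 := conj_mem_cj (g := τ * τ) hr₀.1
    rw [← cj_mul] at h2
    have e : τ * τ * τ⁻¹ = τ := by group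
    rwa [e] at h2
  have hrQ : r ∈ cj (τ * τ) (Q false) := conj_mem_cj hr₀.2
  have hrd : r⁻¹ * d ∈ cj (τ * τ) (Q true) := by
    rw [mem_cj]
    have e : (τ * τ)⁻¹ * (r⁻¹ * d) * (τ * τ) = r₀⁻¹ * ((τ * τ)⁻¹ * d * (τ * τ)) := by rw [hr]; group
    rwa [e]
  -- `W₂ ≤ (W₂ ⊓ W₄) ⊔ (W₀ ⊓ W₂)`
  have h2 : cj τ W ≤ (cj τ W ⊓ cj (τ * τ) W) ⊔ (W ⊓ cj τ W) := by
    refine (cj_mono h.W_gen).trans ?_
    rw [cj_sup, cj_sup, cj_sup, cj_sup, ← cj_mul, ← cj_mul, ← cj_mul, ← mul_assoc]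
    refine sup_le (sup_le (sup_le (sup_le ?_ ?_) ?_) ?_) ?_
    · refine le_trans (le_inf (cj_mono k.Z_W) ?_) le_sup_left
      rw [hτ, cj_mul, h.cj_Z (h.n_mem false)]
      exact h.Z₂_le_W₄ k
    · refine le_trans (le_inf ?_ ?_) le_sup_left
      · rw [cj_mul]; exact cj_mono k.Z₂_W
      · rw [h.cj_tau_W]; exact cj_mono k.Z_W
    · refine le_trans (le_inf ?_ ?_) le_sup_right
      · have e : τ * n false * n true = n true * n false * n false * n true := by rw [hτ]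
        rw [e, h.cj_Z (h.B_le false h.mem_mid)]
        exact k.Z_W
      · rw [mul_assoc, cj_mul]
        refine cj_mono ?_
        rw [cj_mul]
        have h4 := cj_mono (g := n false) k.Z₂_W
        rwa [h.cj_W (h.n_mem false)] at h4
    · refine le_trans (le_inf (cj_mono k.O_W) ?_) le_sup_left
      rw [h.cj_tau_W, cj_mul τ]
      exact cj_mono h.O_le
    · refine le_trans (le_inf ?_ ?_) le_sup_right
      · have h6 := cj_mono (g := τ * n false) h.O_le
        rw [← cj_mul] at h6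
        have e : τ * n false * n true = n true * n false * n false * n true := by rw [hτ]
        rwa [e, h.cj_W (h.B_le false h.mem_mid)] at h6
      · rw [cj_mul]
        refine cj_mono ?_
        have h4 := cj_mono (g := n false) k.O_W
        rwa [h.cj_W (h.n_mem false)] at h4
  have hab : ∀ v ∈ cj τ W, ∀ w ∈ cj τ W, v * w = w * v := by
    intro v hv w hw
    rw [mem_cj] at hv hw
    have := k.W_ab _ hv _ hw
    have e1 : v * w = τ * (τ⁻¹ * v * τ * (τ⁻¹ * w * τ)) * τ⁻¹ := by group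
    have e2 : w * v = τ * (τ⁻¹ * w * τ * (τ⁻¹ * v * τ)) * τ⁻¹ := by group
    rw [e1, e2, this]
  obtain ⟨a, ha, b, hb, hrab⟩ := mem_sup_of_comm (A := cj τ W ⊓ cj (τ * τ) W) (B := W ⊓ cj τ W)
    (fun a ha b hb => hab a ha.1 b hb.2) (h2 hrW)
  have hab' := hab a ha.1 b hb.2
  refine ⟨b, hb.1, eW ▸ hb.2, ?_, ?_⟩
  · have e : b = a⁻¹ * r := by rw [hrab]; group
    rw [e]
    exact mul_mem (inv_mem (h.W_le_Q k false _ ha.2)) hrQ
  · have e : b⁻¹ * d = a * (r⁻¹ * d) := by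
      rw [hrab, hab']; group
    rw [e]
    exact mul_mem (h.W_le_Q k true _ ha.2) hrd

end inv

end Oct

end Cfsg.Agent.Omega.TwoFFour
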