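import Cfsg.Agent.Omega.TwoFFour.Fld

/-!
# THEOREM 2F4: normalisation of the coordinates

* `mv_twist` : field automorphisms normalise `Sz`;
* `SzMod.twist` : semilinear change of coordinates;
* `Sit.exists_norm` : coordinates with `phi = id`, `sig = 1`.
-/

set_option autoImplicit false
set_option linter.unusedSectionVars false

namespace Cfsg.Agent.Omega.TwoFFour

open Subgroup Matrix
open Cfsg.Agent.ZN Cfsg.Agent.MinSimple.VModule Cfsg.Agent.Lib.SL2Mat
open Cfsg.Agent.LieRecognition.SzMatrix (Good Umat Umat_def Dmat Dmat_def W_mul_W)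
open Cfsg.Agent.Omega.NatPair (NatMod ap ext2)

section mat

variable {F : Type*} [Field F] {θ : F →+* F} {e : ℕ}

/-- apply `σ` to the coordinates and multiply with `c` -/
def tw (c : Fˣ) (σ : F ≃+* F) (v : Fin 4 → F) : Fin 4 → F := fun i => c * σ (v i)

theorem tw_add (c : Fˣ) (σ : F ≃+* F) (v w : Fin 4 → F) : tw c σ (v + w) = tw c σ v + tw c σ w := by
  funext i
  show (c : F) * σ (v i + w i) = c * σ (v i) + c * σ (w i)
  rw [map_add, mul_add]

theorem tw_inj (c : Fˣ) (σ : F ≃+* F) : Function.Injective (tw c σ) := by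
  intro v w hvw
  funext i
  have h1 : (c : F) * σ (v i) = c * σ (w i) := congrFun hvw i
  exact σ.injective (mul_left_cancel₀ c.ne_zero h1)

theorem tw_surj (c : Fˣ) (σ : F ≃+* F) : Function.Surjective (tw c σ) := by
  intro v
  refine ⟨fun i => σ.symm ((c : F)⁻¹ * v i), ?_⟩
  funext i
  show (c : F) * σ (σ.symm ((c : F)⁻¹ * v i)) = v i
  rw [RingEquiv.apply_symm_apply, mul_inv_cancel_left₀ c.ne_zero]

theorem tw_zero (c : Fˣ) (σ : F ≃+* F) : tw c σ 0 = 0 := by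
  funext i
  show (c : F) * σ 0 = 0
  rw [map_zero, mul_zero]

theorem tw_U (H : Good F θ e) (c : Fˣ) (σ : F ≃+* F) (a b : F) (v : Fin 4 → F) :
    mv (H.U (σ a) (σ b)) (tw c σ v) = tw c σ (mv (H.U a b) v) := by
  have hθ : ∀ x, σ (θ x) = θ (σ x) := Std.theta_comm H (σ : F →+* F)
  rw [mv_U, mv_U]
  apply ext4
  · show (c : F) * σ (v 0) + σ a * (c * σ (v 1)) + σ b * (c * σ (v 2)) +
      (σ a * σ b + σ a ^ 2 * θ (σ a) + θ (σ b)) * (c * σ (v 3)) =
      c * σ (v 0 + a * v 1 + b * v 2 + (a * b + a ^ 2 * θ a + θ b) * v 3)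
    simp only [map_add, map_mul, map_pow, hθ]
    ring
  · show (c : F) * σ (v 1) + θ (σ a) * (c * σ (v 2)) + (σ b + σ a * θ (σ a)) * (c * σ (v 3)) =
      c * σ (v 1 + θ a * v 2 + (b + a * θ a) * v 3)
    simp only [map_add, map_mul, hθ]
    ring
  · show (c : F) * σ (v 2) + σ a * (c * σ (v 3)) = c * σ (v 2 + a * v 3)
    simp only [map_add, map_mul]
    ring
  · rfl

theorem tw_D (H : Good F θ e) (c : Fˣ) (σ : F ≃+* F) (k : Fˣ) (v : Fin 4 → F) :
    mv (H.D (Units.map (σ : F →* F) k)) (tw c σ v) = tw c σ (mv (H.D k) v) := by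
  have hθ : ∀ x, σ (θ x) = θ (σ x) := Std.theta_comm H (σ : F →+* F)
  have hk : ((Units.map (σ : F →* F) k : Fˣ) : F) = σ k := rfl
  rw [mv_D, mv_D, hk]
  apply ext4
  · show σ k * (c * σ (v 0)) = c * σ (k * v 0)
    rw [map_mul]; ring
  · show θ (σ k) * (σ k)⁻¹ * (c * σ (v 1)) = c * σ (θ k * (k : F)⁻¹ * v 1)
    simp only [map_mul, map_inv₀, hθ]
    ring
  · show σ k * (θ (σ k))⁻¹ * (c * σ (v 2)) = c * σ (k * (θ k)⁻¹ * v 2)
    simp only [map_mul, map_inv₀, hθ]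
    ring
  · show (σ k)⁻¹ * (c * σ (v 3)) = c * σ ((k : F)⁻¹ * v 3)
    simp only [map_mul, map_inv₀]
    ring

theorem tw_W (c : Fˣ) (σ : F ≃+* F) (v : Fin 4 → F) :
    mv (Cfsg.Agent.LieRecognition.SzMatrix.W F) (tw c σ v) = tw c σ (mv (Cfsg.Agent.LieRecognition.SzMatrix.W F) v) := by
  rw [mv_W, mv_W]
  apply ext4 <;> rfl

/-- field automorphisms normalise `Sz` -/
theorem exists_tw (H : Good F θ e) (c : Fˣ) (σ : F ≃+* F) {A : GL (Fin 4) F} (hA : A ∈ Cfsg.Lie.Sz F e) :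
    ∃ B ∈ Cfsg.Lie.Sz F e, ∀ v, mv B (tw c σ v) = tw c σ (mv A v) := by
  rcases H.bruhat hA with ⟨a, b, k, rfl⟩ | ⟨a, b, a', b', k, rfl⟩
  · refine ⟨H.U (σ a) (σ b) * H.D (Units.map (σ : F →* F) k), mul_mem (H.U_mem _ _) (H.D_mem _), fun v => ?_⟩
    rw [mv_mul, mv_mul, tw_D, tw_U]
  · refine ⟨H.U (σ a) (σ b) * Cfsg.Agent.LieRecognition.SzMatrix.W F *
      (H.U (σ a') (σ b') * H.D (Units.map (σ : F →* F) k)),
      mul_mem (mul_mem (H.U_mem _ _) H.W_mem) (mul_mem (H.U_mem _ _) (H.D_mem _)), fun v => ?_⟩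
    rw [mv_mul, mv_mul, mv_mul, mv_mul, mv_mul, mv_mul, tw_D, tw_U, tw_W, tw_U]

theorem exists_tw' (H : Good F θ e) (c : Fˣ) (σ : F ≃+* F) {A : GL (Fin 4) F} (hA : A ∈ Cfsg.Lie.Sz F e) :
    ∃ B ∈ Cfsg.Lie.Sz F e, ∀ v, mv A (tw c σ v) = tw c σ (mv B v) := by
  obtain ⟨B, hB, hB'⟩ := exists_tw H (Units.map (σ.symm : F →* F) c)⁻¹ σ.symm hA
  refine ⟨B, hB, fun v => ?_⟩
  have e1 : ∀ v, tw (Units.map (σ.symm : F →* F) c)⁻¹ σ.symm (tw c σ v) = v := by
    intro v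
    funext i
    show (((Units.map (σ.symm : F →* F) c)⁻¹ : Fˣ) : F) * σ.symm (c * σ (v i)) = v i
    rw [map_mul, RingEquiv.symm_apply_apply, Units.val_inv_eq_inv_val]
    have e2 : ((Units.map (σ.symm : F →* F) c : Fˣ) : F) = σ.symm c := rfl
    have e3 : σ.symm (c : F) ≠ 0 := by
      rw [Ne, map_eq_zero_iff _ σ.symm.injective]
      exact c.ne_zero
    rw [e2, inv_mul_cancel_left₀ e3]
  apply tw_inj (Units.map (σ.symm : F →* F) c)⁻¹ σ.symm
  rw [← hB', e1, e1]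

end mat

variable {G : Type*} [Group G]

namespace SzMod

variable {F : Type*} [Field F] {θ : F →+* F} {e : ℕ} {H : Good F θ e} {C W Z : Subgroup G} (M : SzMod H C W Z)

/-- semilinear change of coordinates -/
def twist (c : Fˣ) (σ : F ≃+* F) : SzMod H C W Z where
  f x := tw c σ (M.f x)
  f_mul hx hy := by rw [M.f_mul hx hy, tw_add]
  f_surj v := by
    obtain ⟨w, rfl⟩ := tw_surj c σ v
    obtain ⟨x, hx, h⟩ := M.f_surj w
    exact ⟨x, hx, by rw [h]⟩
  f_ker := by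
    intro x hx
    rw [← M.f_ker hx]
    constructor
    · intro h
      exact tw_inj c σ (by rw [h, tw_zero])
    · intro h
      rw [h, tw_zero]
  Z_le := M.Z_le
  conjW := M.conjW
  conjZ := M.conjZ
  lift A hA := by
    obtain ⟨B, hB, h1⟩ := exists_tw' H c σ hA
    obtain ⟨g, hg, h⟩ := M.lift B hB
    refine ⟨g, hg, fun x hx => ?_⟩
    rw [h x hx, h1]
  norm g hg h hh A hA hhA := by
    obtain ⟨B, hB, h1⟩ := exists_tw' H c σ hA
    obtain ⟨B', hB', h2⟩ := M.norm g hg h hh B hB (fun x hx => by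
      apply tw_inj c σ
      rw [← h1]
      exact hhA x hx)
    obtain ⟨B'', hB'', h3⟩ := exists_tw H c σ hB'
    refine ⟨B'', hB'', fun x hx => ?_⟩
    rw [h2 x hx, h3]

theorem twist_f (c : Fˣ) (σ : F ≃+* F) (x : G) : (M.twist c σ).f x = tw c σ (M.f x) := rfl

theorem twist_act (c : Fˣ) (σ : F ≃+* F) {g : G} (hg : g ∈ C) (v : Fin 4 → F) :
    (M.twist c σ).act g (tw c σ v) = tw c σ (M.act g v) := by
  obtain ⟨x, hx, rfl⟩ := M.f_surj v
  rw [← M.twist_f, (M.twist c σ).act_f hg hx, twist_f, M.act_f hg hx]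

theorem twist_K (c : Fˣ) (σ : F ≃+* F) : (M.twist c σ).K = M.K := by
  ext g
  rw [mem_K, mem_K]
  constructor
  · rintro ⟨hg, h⟩
    refine ⟨hg, fun v => ?_⟩
    apply tw_inj c σ
    rw [← M.twist_act c σ hg, h]
  · rintro ⟨hg, h⟩
    refine ⟨hg, fun v => ?_⟩
    obtain ⟨w, rfl⟩ := tw_surj c σ v
    rw [M.twist_act c σ hg, h]

theorem twist_ind_U (c : Fˣ) (σ : F ≃+* F) {g : G} (hg : g ∈ C) {a b : F} (h : M.Ind g (H.U a b)) :
    (M.twist c σ).Ind g (H.U (σ a) (σ b)) := by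
  intro v
  obtain ⟨w, rfl⟩ := tw_surj c σ v
  rw [M.twist_act c σ hg, h, tw_U]

theorem twist_ad (c : Fˣ) (σ : F ≃+* F) {S : Subgroup G} (h : M.Ad S) : (M.twist c σ).Ad S where
  le := h.le
  exists_U s hs := by
    obtain ⟨a, b, hab⟩ := h.exists_U s hs
    exact ⟨_, _, M.twist_ind_U c σ (h.le hs) hab⟩
  surj a b := by
    obtain ⟨s, hs, hab⟩ := h.surj (σ.symm a) (σ.symm b)
    refine ⟨s, hs, ?_⟩
    have := M.twist_ind_U c σ (h.le hs) hab
    rwa [RingEquiv.apply_symm_apply, RingEquiv.apply_symm_apply] at this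

end SzMod

namespace Sit

variable {F : Type*} [Field F] {θ : F →+* F} {e : ℕ} {H : Good F θ e} {S : Sylow 2 G} {V Z W : Subgroup G}
variable (h : Sit F H S V Z W)

/-- semilinear change of the coordinates of `W / Z` -/
def twist (c : Fˣ) (σ : F ≃+* F) : Sit F H S V Z W where
  N := h.N
  P := h.P.twist c σ
  mf := h.mf
  cardF := h.cardF
  one_le := h.one_le
  memZ := h.memZ
  SV := h.SV
  SZ := h.SZ
  memV g := by
    rw [h.memV]
    constructor
    · rintro ⟨hg, d, hd⟩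
      refine ⟨hg, c * σ d, ?_⟩
      rw [SzMod.twist_f, hd]
      apply ext4
      · rfl
      · show (c : F) * σ 0 = 0
        rw [map_zero, mul_zero]
      · show (c : F) * σ 0 = 0
        rw [map_zero, mul_zero]
      · show (c : F) * σ 0 = 0
        rw [map_zero, mul_zero]
    · rintro ⟨hg, d, hd⟩
      refine ⟨hg, σ.symm ((c : F)⁻¹ * d), ?_⟩
      apply tw_inj c σ
      rw [← SzMod.twist_f, hd]
      apply ext4
      · show d = c * σ (σ.symm ((c : F)⁻¹ * d))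
        rw [RingEquiv.apply_symm_apply, mul_inv_cancel_left₀ c.ne_zero]
      · show 0 = (c : F) * σ 0
        rw [map_zero, mul_zero]
      · show 0 = (c : F) * σ 0
        rw [map_zero, mul_zero]
      · show 0 = (c : F) * σ 0
        rw [map_zero, mul_zero]
  ab := h.ab
  sq := h.sq
  Ad := h.P.twist_ad c σ h.Ad
  char2 := h.char2
  nonloc := h.nonloc
  ne := h.ne

theorem twist_phi (c : Fˣ) (σ : F ≃+* F) (x : F) : (h.twist c σ).phi x = c * σ (h.phi x) := rfl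

/-- **Normalised coordinates.** -/
theorem exists_norm [Finite G] : ∃ h' : Sit F H S V Z W, h'.N = h.N ∧ h'.P.K = h.P.K ∧ (∀ x, h'.phi x = x) ∧
    ∀ x, h'.sig x = x := by
  have h1 : h.sig.symm (h.phi 1) ≠ 0 := by
    rw [Ne, map_eq_zero_iff _ h.sig.symm.injective]
    exact h.phi_one_ne
  let c : Fˣ := (Units.mk0 _ h1)⁻¹
  have hphi : ∀ x, (h.twist c h.sig.symm).phi x = x := by
    intro x
    have h2 := h.phi_mul x 1
    rw [mul_one] at h2
    rw [twist_phi, h2, map_mul, RingEquiv.symm_apply_apply, Units.val_inv_eq_inv_val, Units.val_mk0]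
    rw [mul_comm x, inv_mul_cancel_left₀ h1]
  refine ⟨h.twist c h.sig.symm, rfl, h.P.twist_K _ _, hphi, fun x => ?_⟩
  have h2 := (h.twist c h.sig.symm).phi_mul x 1
  rw [hphi, hphi, mul_one, mul_one] at h2
  exact h2.symm

end Sit

end Cfsg.Agent.Omega.TwoFFour
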