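import Cfsg.Agent.RankTwoClose.BN
import Cfsg.Agent.Omega.BTwo.Conj

/-!
# THEOREM 2F4 (OMEGA #12906, helper279; referee helper304 #13516): the interface of the second half

`P false = P₀ = C = G_x` (point stabiliser), `P true = P₁ = M = G_l` (line stabiliser), `B = P₀ ∩ P₁`,
`S` the normal Sylow 2-subgroup of `B`, `Q false = Q_x`, `Q true = Q_l`, `n false = n₀ ∈ P₀`,
`n true = n₁ ∈ P₁` the reflections, `H` the group of the `F_q`-linear elements of the Hall subgroup `H₁`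
(order `(q - 1)²`).  `t = n₁ n₀` moves the vertex `u_j` of the apartment to `u_(j+2)`; `u₀ = x`, `u₁ = l`;
`Z = Z_x`, `W = W_x`, so `Z_2k = cj (t ^ k) Z`, `W_2k = cj (t ^ k) W`.

The weights `χ₀, χ₂ : H → F_q*` are written additively: `F_q* ≅ ZMod N`, `N = q - 1`, `x = χ₀`, `y = χ₂`,
`θ = 2 ^ (m + 1)`.
-/

set_option autoImplicit false

namespace Cfsg.Agent.Omega.TwoFFour

open Subgroup Cfsg.Agent.Omega.BTwo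

/-- The weight of `H` on `S / Q i`: `χ₄ = θ χ₂ - χ₀` for the point, `χ₀ - χ₂` for the line. -/
def fr {G : Type*} {N : ℕ} (θ : ZMod N) (x y : G → ZMod N) : Bool → G → ZMod N
  | false, h => θ * y h - x h
  | true, h => x h - y h

/-- **Output of the first half of THEOREM 2F4.** `t = n true * n false`. -/
structure Oct {G : Type*} [Group G] (P Q : Bool → Subgroup G) (n : Bool → G) (B S H Z W O : Subgroup G)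
    {N : ℕ} (θ : ZMod N) (x y : G → ZMod N) : Prop where
  -- the amalgam
  inter : P false ⊓ P true = B
  /-- `S` is transitive on the chambers `≠ B` of the panel -/
  memP : ∀ i g, g ∈ P i ↔ g ∈ B ∨ ∃ s ∈ S, ∃ c ∈ B, g = s * n i * c
  twoS : IsPGroup 2 S
  S_le : S ≤ B
  S_nrm : ∀ b ∈ B, ∀ s ∈ S, b * s * b⁻¹ ∈ S
  /-- `|B : S|` is odd -/
  oddB : ∀ b ∈ B, ∃ k, Odd k ∧ b ^ k ∈ S
  H_le : H ≤ B
  oddH : Odd (Nat.card H)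
  /-- `B = S N_B(H)` -/
  split : ∀ b ∈ B, ∃ s ∈ S, s⁻¹ * b ∈ normalizer (H : Set G)
  n_norm : ∀ i, n i ∈ normalizer (H : Set G)
  n_not : ∀ i, n i ∉ B
  Q_le : ∀ i, Q i ≤ S
  Q_nrm : ∀ i, ∀ p ∈ P i, ∀ a ∈ Q i, p * a * p⁻¹ ∈ Q i
  /-- `S` acts regularly modulo `Q i` on the vertices opposite in the panel -/
  Q_max : ∀ i, ∀ s ∈ S, (n i)⁻¹ * s * n i ∈ B → s ∈ Q i
  Q_ne : ∀ i, ∃ s ∈ S, s ∉ Q i
  /-- (F1) -/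
  cover : ∀ s ∈ S, ∃ a ∈ Q false, ∃ b ∈ Q true, s = a * b
  -- the weights
  oddN : Odd N
  one_lt : 1 < N
  sq : θ * θ = 2
  x_mul : ∀ h ∈ H, ∀ k ∈ H, x (h * k) = x h + x k
  y_mul : ∀ h ∈ H, ∀ k ∈ H, y (h * k) = y h + y k
  surj : ∀ a b : ZMod N, ∃ h ∈ H, x h = a ∧ y h = b
  inj : ∀ h ∈ H, ∀ k ∈ H, x h = x k → y h = y k → h = k
  /-- `n₀` fixes `χ₀` and `χ₂ + χ₋₂ = θ χ₀` -/
  x₀ : ∀ h ∈ H, x ((n false)⁻¹ * h * n false) = x h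
  y₀ : ∀ h ∈ H, y ((n false)⁻¹ * h * n false) = θ * x h - y h
  /-- `n₁` swaps `χ₀` and `χ₂` -/
  x₁ : ∀ h ∈ H, x ((n true)⁻¹ * h * n true) = y h
  y₁ : ∀ h ∈ H, y ((n true)⁻¹ * h * n true) = x h
  triv : ∀ i, ∀ h ∈ H, fr θ x y i h = 0 → ∀ s ∈ S, h * s * h⁻¹ * s⁻¹ ∈ Q i
  free : ∀ i, ∀ h ∈ H, fr θ x y i h ≠ 0 → ∀ s ∈ S, h * s * h⁻¹ * s⁻¹ ∈ Q i → s ∈ Q i
  -- `Z = Z₀`
  Z_le : Z ≤ S
  Z_cen : ∀ z ∈ Z, ∀ s ∈ S, z * s = s * z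
  Z_sq : ∀ z ∈ Z, z * z = 1
  Z_pair : ∃ a ∈ Z, ∃ b ∈ Z, a ≠ 1 ∧ b ≠ 1 ∧ a ≠ b
  /-- `P₀ = N_G(Z)` -/
  Z_nrm : ∀ p ∈ P false, ∀ z ∈ Z, p * z * p⁻¹ ∈ Z
  Z_norm : ∀ g : G, (∀ z ∈ Z, g * z * g⁻¹ ∈ Z) → g ∈ P false
  Z_x : ∀ h ∈ H, x h = 0 → ∀ z ∈ Z, h * z = z * h
  /-- characteristic 2 for `C_G(v)`, with `R = O₂(C_G(v))` -/
  Z_two : ∀ v ∈ Z, v ≠ 1 → ∃ R : Subgroup G, R ≤ S ∧ Z ≤ R ∧ ∀ c : G, c * v = v * c → ∀ r ∈ R, c * r * c⁻¹ ∈ R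
  -- `W = W₀`
  W_nrm : ∀ p ∈ P false, ∀ w ∈ W, p * w * p⁻¹ ∈ W
  /-- `F₀ = C_G(W₀) ≤ Q₀ ∩ Q₁` -/
  W_cen : ∀ i, centralizer (W : Set G) ≤ Q i
  /-- `W₀ = Z₀ Z₂ Z₋₂ O₁ O₋₁` -/
  W_gen : W ≤ Z ⊔ cj (n true) Z ⊔ cj (n false * n true) Z ⊔ O ⊔ cj (n false) O
  O_le : O ≤ cj (n true) W
  /-- `[Z₂, s] ≤ Z₀` and the weights are different -/
  fixZ : ∀ h ∈ H, ∀ s ∈ Q false, h * s = s * h → y h ≠ x h → ∀ z ∈ cj (n true) Z, s * z = z * s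
  /-- `O₁` has weight `(θ - 1)(χ₀ + χ₂)` -/
  fixO : ∀ h ∈ H, ∀ s ∈ Q false, h * s = s * h → (θ - 1) * (x h + y h) ≠ x h → ∀ z ∈ O, s * z = z * s
  /-- the involutions of `S / Q₀` are those of `Z₄ Q₀ / Q₀` -/
  omega : ∀ s ∈ S, s * s ∈ Q false → ∃ z ∈ cj (n true * n false * n true) Z, z⁻¹ * s ∈ Q false
  /-- `W₂`, `W₋₂` generate a group which is transitive on the lines on `u₀` -/
  gen₀ : ∀ p ∈ P false, ∃ c ∈ cj (n true * n false) W ⊔ cj (n true * n false)⁻¹ W, c⁻¹ * p ∈ B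
  /-- `W₋₂ ∩ Q₀` is transitive on the points `≠ u₀` of `u₁` -/
  gen₁ : ∀ s ∈ S, ∃ r ∈ cj (n true * n false)⁻¹ W ⊓ Q false, r⁻¹ * s ∈ Q true
  /-- the kernel of `⟨P₀, P₁⟩` on the coset graph -/
  core : ∀ K : Subgroup G, K ≤ B → (∀ i, ∀ p ∈ P i, ∀ k ∈ K, p * k * p⁻¹ ∈ K) → K = ⊥

end Cfsg.Agent.Omega.TwoFFour
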