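import Cfsg.Agent.Omega.TwoFFour.Fld

/-!
# THEOREM 2F4, (4): the torus

`Out h` : the outputs of (2), (3).
* `Tor g a l m k` : `g ∈ B` acts on `V` as `diag(a, l)` and on `W / Z` as `m · D k`;
* `Tor.rel` : `σ l = m k`; `Tor.rel2` : `m² = σ (θ a)`;
* `TT` : the group of all these elements; `exists_tor` : every pair `(a, l)` occurs.
-/

set_option autoImplicit false
set_option linter.unusedSectionVars false

namespace Cfsg.Agent.Omega.TwoFFour

open Subgroup Matrix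
open Cfsg.Agent.ZN Cfsg.Agent.MinSimple.VModule Cfsg.Agent.Lib.SL2Mat
open Cfsg.Agent.LieRecognition.SzMatrix (Good Umat Umat_def Dmat Dmat_def W_mul_W theta_ne_zero)
open Cfsg.Agent.Omega.NatPair (NatMod ap ext2)

variable {G : Type*} [Group G]

namespace Sit

variable {F : Type*} [Field F] {θ : F →+* F} {e : ℕ} {H : Good F θ e} {S : Sylow 2 G} {V Z W : Subgroup G}

/-- The outputs of (2), (3). -/
structure Out (h : Sit F H S V Z W) : Prop where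
  nrm : ∀ b ∈ h.Bo, ∀ s ∈ S, b * s * b⁻¹ ∈ S
  CV : centralizer (V : Set G) ≤ S
  KZ : h.P.K ⊓ centralizer (Z : Set G) ≤ S
  fac : ∀ s ∈ S, ∃ a ∈ S, a ∈ h.P.K ∧ a⁻¹ * s ∈ centralizer (V : Set G)

/-- `g ∈ B` acts on `V` as `diag(a, l)` and on `W / Z` as `m · D k`. -/
structure Tor (h : Sit F H S V Z W) (g : G) (a l m k : Fˣ) : Prop where
  memB : g ∈ h.Bo
  V : ∀ x y, g * h.N.e ![x, y] * g⁻¹ = h.N.e ![a * x, l * y]
  W : ∀ v, h.P.act g v = (m : F) • mv (H.D k) v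

variable {h : Sit F H S V Z W}

namespace Tor

theorem mul {g g' : G} {a l m k a' l' m' k' : Fˣ} (t : Tor h g a l m k) (t' : Tor h g' a' l' m' k') :
    Tor h (g * g') (a * a') (l * l') (m * m') (k * k') where
  memB := mul_mem t.memB t'.memB
  V x y := by
    have e1 : g * g' * h.N.e ![x, y] * (g * g')⁻¹ = g * (g' * h.N.e ![x, y] * g'⁻¹) * g⁻¹ := by group
    rw [e1, t'.V, t.V]
    congr 2
    · rw [Units.val_mul, mul_assoc]
    · rw [Units.val_mul, mul_assoc]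
  W v := by
    rw [h.P.act_mul t.memB.2 t'.memB.2, t'.W, t.W, mv_smul, ← mv_mul, H.D_mul, smul_smul, Units.val_mul]

theorem one : Tor h 1 1 1 1 1 where
  memB := one_mem _
  V x y := by simp
  W v := by rw [h.P.act_one, H.D_one, mv_one, Units.val_one, one_smul]

theorem inv {g : G} {a l m k : Fˣ} (t : Tor h g a l m k) : Tor h g⁻¹ a⁻¹ l⁻¹ m⁻¹ k⁻¹ where
  memB := inv_mem t.memB
  V x y := by
    have h1 := t.V (a⁻¹ * x) (l⁻¹ * y)
    rw [Units.mul_inv_cancel_left, Units.mul_inv_cancel_left] at h1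
    rw [← h1]
    simp only [Units.val_inv_eq_inv_val]
    group
  W v := by
    apply h.P.act_inj t.memB.2
    rw [h.P.act_act_inv t.memB.2, t.W, mv_smul, smul_smul, ← mv_mul, H.D_mul, mul_inv_cancel, H.D_one, mv_one,
      Units.val_inv_eq_inv_val, mul_inv_cancel₀ m.ne_zero, one_smul]

theorem uniq {g : G} {a l m k a' l' m' k' : Fˣ} (t : Tor h g a l m k) (t' : Tor h g a' l' m' k') :
    a = a' ∧ l = l' := by
  have h1 := t.V 1 1
  rw [t'.V] at h1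
  have h2 := h.e_inj h1
  rw [mul_one, mul_one, mul_one, mul_one] at h2
  exact ⟨Units.ext h2.1.symm, Units.ext h2.2.symm⟩

/-- the two coordinates of `V / Z` -/
theorem rel [Finite G] {g : G} {a l m k : Fˣ} (t : Tor h g a l m k) : h.sig l = m * k := by
  have h1 := h.f_conj t.memB.2 (h.V_le_W (h.e_mem 0 1))
  rw [t.V, h.f_e, h.f_e, t.W, mv_D, h.phi_mul] at h1
  have h2 := congrFun h1 0
  have h3 : h.sig l * h.phi 1 = m * (k * h.phi 1) := h2
  exact mul_right_cancel₀ h.phi_one_ne (h3.trans (mul_assoc _ _ _).symm)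

theorem cen {g : G} {m k : Fˣ} (t : Tor h g 1 1 m k) : g ∈ centralizer (V : Set G) := by
  apply h.mem_cen_of_e
  intro x y
  rw [t.V, Units.val_one, one_mul, one_mul]

theorem unip [Finite G] (o : Out h) {g : G} {m k : Fˣ} (t : Tor h g 1 1 m k) : m = 1 ∧ k = 1 := by
  have := h.char_two
  obtain ⟨a, b, hab⟩ := h.Ad.exists_U g (o.CV t.cen)
  have h0 := congrFun (hab ![1, 0, 0, 0]) 0
  have h3 := congrFun (hab ![0, 0, 0, 1]) 3
  rw [t.W, mv_D, mv_U] at h0 h3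
  have h0 : (m : F) * (k * 1) = 1 + a * 0 + b * 0 + (a * b + a ^ 2 * θ a + θ b) * 0 := h0
  have h3 : (m : F) * ((k : F)⁻¹ * 1) = 1 := h3
  simp only [mul_one, mul_zero, add_zero] at h0 h3
  have h4 : (m : F) = k := by
    field_simp at h3
    exact h3
  have h5 : (k : F) = 1 := by
    rw [h4] at h0
    have h6 : ((k : F) - 1) ^ 2 = 0 := by
      have := H.two
      linear_combination h0 + (1 - k) * this
    exact sub_eq_zero.1 ((pow_eq_zero_iff two_ne_zero).1 h6)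
  exact ⟨Units.ext (h4.trans h5), Units.ext h5⟩

end Tor

section lifts

variable [Finite G] (o : Out h)
include o

/-- `C(V)` covers `T` -/
theorem Out.cover_CV (a b : F) : ∃ c ∈ centralizer (V : Set G), h.P.Ind c (H.U a b) := by
  obtain ⟨s, hs, hsU⟩ := h.Ad.surj a b
  obtain ⟨a₀, ha, haK, hac⟩ := o.fac s hs
  refine ⟨a₀⁻¹ * s, hac, fun v => ?_⟩
  rw [h.P.act_mul (inv_mem haK.1) (h.S_le_C hs), hsU, (inv_mem haK : a₀⁻¹ ∈ h.P.K).2]

/-- `S ⊓ K` covers `S / C_S(V)` -/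
theorem Out.cover_K (a : F) : ∃ s ∈ S, s ∈ h.P.K ∧ h.Up s a := by
  obtain ⟨s, hs, hsU⟩ := h.exists_of_up a
  obtain ⟨a₀, ha, haK, hac⟩ := o.fac s hs
  refine ⟨a₀, ha, haK, ?_⟩
  have h1 := h.up_mul hsU (h.up_inv (h.up_cen hac))
  have e : s * (a₀⁻¹ * s)⁻¹ = a₀ := by group
  rwa [e, add_zero] at h1

/-- elements acting diagonally on `V` -/
theorem Out.adjust {g : G} (hg : g ∈ h.Bo) {a l : Fˣ} (hV : ∀ x y, g * h.N.e ![x, y] * g⁻¹ = h.N.e ![a * x, l * y]) :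
    ∃ c ∈ centralizer (V : Set G), ∃ m k, Tor h (c * g) a l m k := by
  have := h.finF
  have : Fintype F := Fintype.ofFinite F
  have hF : Fintype.card F = 2 ^ (2 * h.mf + 1) := by rw [← Nat.card_eq_fintype_card, h.cardF]
  have hact : ∀ y, h.P.act g ![h.phi y, 0, 0, 0] = ![h.sig l * h.phi y, 0, 0, 0] := by
    intro y
    have h1 := h.f_conj hg.2 (h.V_le_W (h.e_mem 0 y))
    rw [hV, h.f_e, h.f_e, h.phi_mul] at h1
    exact h1.symm
  have hsurj : ∀ z, ∃ y, h.phi y = z := Finite.surjective_of_injective h.phi_inj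
  have hact' : ∀ z, h.P.act g ![z, 0, 0, 0] = ![h.sig l * z, 0, 0, 0] := by
    intro z
    obtain ⟨y, rfl⟩ := hsurj z
    exact hact y
  have e1 : (Pi.single 0 1 : Fin 4 → F) = ![1, 0, 0, 0] := by
    ext i; fin_cases i <;> simp
  obtain ⟨m, a', b', k, ρ, hρ⟩ := h.P.exists_borel h.one_le hF hg.2 (by rw [e1, hact']; rfl)
  have hρ1 : ∀ z, (m : F) * (k * ρ z) = h.sig l * z := by
    intro z
    have h1 := congrFun (hact' z) 0
    rw [hρ, mv_mul, mv_D, mv_U] at h1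
    have e2 : (m : F) * ((k * ρ z) + a' * (θ k * (k : F)⁻¹ * ρ 0) + b' * (k * (θ k)⁻¹ * ρ 0) +
      (a' * b' + a' ^ 2 * θ a' + θ b') * ((k : F)⁻¹ * ρ 0)) = h.sig l * z := h1
    rw [map_zero] at e2
    linear_combination e2
  have hmk : (m : F) * k = h.sig l := by
    have := hρ1 1
    rw [map_one, mul_one, mul_one] at this
    exact this
  have hρ2 : ∀ z, ρ z = z := by
    intro z
    have h1 := hρ1 z
    rw [← mul_assoc, hmk] at h1
    have h2 : h.sig (l : F) ≠ 0 := by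
      rw [Ne, map_eq_zero_iff _ h.sig.injective]; exact l.ne_zero
    exact mul_left_cancel₀ h2 h1
  obtain ⟨c, hc, hcU⟩ := o.cover_CV a' b'
  refine ⟨c⁻¹, inv_mem hc, m, k, mul_mem ⟨h.cen_le_M (inv_mem hc), h.cen_le_C (inv_mem hc)⟩ hg, ?_, ?_⟩
  · intro x y
    have e2 : c⁻¹ * g * h.N.e ![x, y] * (c⁻¹ * g)⁻¹ = c⁻¹ * (g * h.N.e ![x, y] * g⁻¹) * c⁻¹⁻¹ := by group
    rw [e2, hV, h.e_of_mem_cen (inv_mem hc)]
  · intro v
    rw [h.P.act_mul (h.cen_le_C (inv_mem hc)) hg.2, hcU.inv (h.cen_le_C hc)]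
    have e2 : h.P.act g v = (m : F) • mv (H.U a' b' * H.D k) v := by
      rw [hρ]
      congr 2
      exact funext fun i => hρ2 _
    rw [e2, mv_smul, mv_mul, mv_inv_mv]

/-- an element of `C` acting linearly on `V / Z` and as a scalar on `Z`, modulo `S ⊓ K` -/
theorem Out.adjust_K {g : G} (hg : g ∈ h.Bo) {a l m k : Fˣ} {τ : F}
    (hV : ∀ x y, g * h.N.e ![x, y] * g⁻¹ = h.N.e ![a * x + τ * y, l * y])
    (hW : ∀ v, h.P.act g v = (m : F) • mv (H.D k) v) :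
    ∃ s ∈ S, s ∈ h.P.K ∧ Tor h (s * g) a l m k := by
  obtain ⟨s, hs, hsK, hsU⟩ := o.cover_K (τ / l)
  refine ⟨s, hs, hsK, mul_mem ⟨h.SV hs, h.S_le_C hs⟩ hg, ?_, ?_⟩
  · intro x y
    have e2 : s * g * h.N.e ![x, y] * (s * g)⁻¹ = s * (g * h.N.e ![x, y] * g⁻¹) * s⁻¹ := by group
    rw [e2, hV, hsU]
    congr 2
    have hl := l.ne_zero
    have e3 : τ / l * (l * y) = τ * y := by field_simp
    rw [e3, add_assoc, H.add_self, add_zero]
  · intro v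
    rw [h.P.act_mul hsK.1 hg.2, hW, hsK.2]

/-- the torus of `Sz` -/
theorem Out.exists_two (k : Fˣ) : ∃ g ∈ centralizer (Z : Set G), ∃ l, Tor h g 1 l 1 k := by
  obtain ⟨g, hg, hgD⟩ := h.exists_cZ_D k
  have hgC := h.cZ_le hg
  have hgM : g ∈ normalizer (V : Set G) := by
    refine h.mem_M_of_line hgC fun c => ⟨k * c, ?_⟩
    rw [hgD, mv_D]
    simp
  obtain ⟨τ, l, hgl⟩ := h.form_cZ hgM hg
  have hl : l ≠ 0 := by
    rintro rfl
    have h1 := hgl 0 1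
    rw [mul_one, zero_add, zero_mul] at h1
    have h2 : h.N.e ![0, 1] ∈ Z := by
      have h3 : g * h.N.e ![0, 1] * g⁻¹ ∈ Z := by rw [h1, h.e_memZ]
      exact (h.conj_mem_iff hgC).1 h3
    rw [h.e_memZ] at h2
    exact one_ne_zero h2
  obtain ⟨s, hs, hsK, ht⟩ := o.adjust_K (g := g) ⟨hgM, hgC⟩ (a := 1) (l := Units.mk0 l hl) (m := 1) (k := k) (τ := τ)
    (fun x y => by rw [hgl, Units.val_one, one_mul, Units.val_mk0]) (fun v => by rw [hgD, Units.val_one, one_smul])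
  exact ⟨s * g, mul_mem (h.SZ hs) hg, _, ht⟩

/-- the torus of `SL₂`, acting trivially on `I / V` -/
theorem Out.exists_one (a : Fˣ) : ∃ g, (∀ i ∈ h.I, g * i * g⁻¹ * i⁻¹ ∈ V) ∧ ∃ m k, Tor h g a a⁻¹ m k := by
  obtain ⟨n, hn⟩ := h.exists_sw
  have hnM := h.sw_mem hn
  -- the centralizer of `I / V` in `N(V)`
  let L : Subgroup G :=
    { carrier := {g | g ∈ normalizer (V : Set G) ∧ ∀ i ∈ h.I, g * i * g⁻¹ * i⁻¹ ∈ V}
      mul_mem' := by
        rintro g g' ⟨hg, h1⟩ ⟨hg', h2⟩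
        refine ⟨mul_mem hg hg', fun i hi => ?_⟩
        have h3 := h1 _ (h.M_conj_I hg' hi)
        have h4 := h2 i hi
        have e1 : g * g' * i * (g * g')⁻¹ * i⁻¹ = (g * (g' * i * g'⁻¹) * g⁻¹ * (g' * i * g'⁻¹)⁻¹) *
          (g' * i * g'⁻¹ * i⁻¹) := by group
        rw [e1]
        exact mul_mem h3 h4
      one_mem' := ⟨one_mem _, fun i hi => by simp⟩
      inv_mem' := by
        rintro g ⟨hg, h1⟩
        refine ⟨inv_mem hg, fun i hi => ?_⟩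
        have h2 := h1 _ (h.M_conj_I (inv_mem hg) hi)
        have e1 : g⁻¹ * i * g⁻¹⁻¹ * i⁻¹ = (g * (g⁻¹ * i * g⁻¹⁻¹) * g⁻¹ * (g⁻¹ * i * g⁻¹⁻¹)⁻¹)⁻¹ := by group
        rw [e1]
        exact inv_mem h2 }
  have hSL : ∀ s ∈ S, s ∈ L := by
    intro s hs
    refine ⟨h.SV hs, fun i hi => ?_⟩
    have h1 := h.S_conj_I hs hi
    rw [h.mem_V_iff (mul_mem h1 (inv_mem hi)), h.f_mul h1.1 (inv_mem hi.1), h.f_inv hi.1,
      h.f_conj (h.S_le_C hs) hi.1]
    obtain ⟨a', b', hab⟩ := h.Ad.exists_U s hs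
    rw [hab, mv_U]
    have e1 : h.P.f i 1 + θ a' * h.P.f i 2 + (b' + a' * θ a') * h.P.f i 3 + h.P.f i 1 = 0 := by
      rw [hi.2.1, hi.2.2]
      have := H.add_self (h.P.f i 1)
      linear_combination this
    exact e1
  have hnL : ∀ s ∈ L, n * s * n⁻¹ ∈ L := by
    rintro s ⟨hs, h1⟩
    refine ⟨mul_mem (mul_mem hnM hs) (inv_mem hnM), fun i hi => ?_⟩
    have h2 := h.conjV hnM (h1 _ (h.M_conj_I (inv_mem hnM) hi))
    have e1 : n * s * n⁻¹ * i * (n * s * n⁻¹)⁻¹ * i⁻¹ =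
      n * (s * (n⁻¹ * i * n⁻¹⁻¹) * s⁻¹ * (n⁻¹ * i * n⁻¹⁻¹)⁻¹) * n⁻¹ := by group
    rw [e1]
    exact h2
  have hlo : ∀ {s : G} {b : F}, h.Up s b → ∀ x y, n * s * n⁻¹ * h.N.e ![x, y] * (n * s * n⁻¹)⁻¹ =
      h.N.e ![x, y + b * x] := by
    intro s b hs x y
    have e1 : n * s * n⁻¹ * h.N.e ![x, y] * (n * s * n⁻¹)⁻¹ = n * (s * (n⁻¹ * h.N.e ![x, y] * n⁻¹⁻¹) * s⁻¹) * n⁻¹ := by
      group
    rw [e1, h.sw_inv hn, hs, hn]
  obtain ⟨s, hs, hsU⟩ := h.exists_of_up (a : F)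
  obtain ⟨r, hr, hrU⟩ := h.exists_of_up ((a⁻¹ : Fˣ) : F)
  obtain ⟨t, ht, htU⟩ := h.exists_of_up (1 : F)
  set g := s * (n * r * n⁻¹) * s * (t * (n * t * n⁻¹) * t) with hg
  have hgL : g ∈ L := mul_mem (mul_mem (mul_mem (hSL s hs) (hnL _ (hSL r hr))) (hSL s hs))
    (mul_mem (mul_mem (hSL t ht) (hnL _ (hSL t ht))) (hSL t ht))
  have hgV : ∀ x y, g * h.N.e ![x, y] * g⁻¹ = h.N.e ![a * x, ((a⁻¹ : Fˣ) : F) * y] := by
    intro x y
    have e1 : g * h.N.e ![x, y] * g⁻¹ = s * ((n * r * n⁻¹) * (s * (t * ((n * t * n⁻¹) * (t * h.N.e ![x, y] * t⁻¹) *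
      (n * t * n⁻¹)⁻¹) * t⁻¹) * s⁻¹) * (n * r * n⁻¹)⁻¹) * s⁻¹ := by rw [hg]; group
    have ha := a.ne_zero
    rw [e1, htU, hlo htU, htU, hsU, hlo hrU, hsU]
    congr 1
    have h2 := H.two
    rw [Units.val_inv_eq_inv_val]
    apply ext2
    · show x + 1 * y + 1 * (y + 1 * (x + 1 * y)) + a * (y + 1 * (x + 1 * y)) + a * (y + 1 * (x + 1 * y) +
        (a : F)⁻¹ * (x + 1 * y + 1 * (y + 1 * (x + 1 * y)) + a * (y + 1 * (x + 1 * y)))) = a * x
      field_simp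
      linear_combination (2 * x + 3 * y + 3 * y * a + x * a) * h2
    · show y + 1 * (x + 1 * y) + (a : F)⁻¹ * (x + 1 * y + 1 * (y + 1 * (x + 1 * y)) + a * (y + 1 * (x + 1 * y))) =
        (a : F)⁻¹ * y
      field_simp
      linear_combination (x + y + 2 * a * y + a * x) * h2
  have hgC : g ∈ normalizer (Z : Set G) := by
    apply h.mem_C_of
    intro c
    rw [hgV, mul_zero, h.e_memZ]
  obtain ⟨c, hc, m, k, ht'⟩ := o.adjust (g := g) (a := a) (l := a⁻¹) ⟨hgL.1, hgC⟩ hgV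
  exact ⟨c * g, (mul_mem (hSL c (o.CV hc)) hgL).2, m, k, ht'⟩

/-- every pair occurs -/
theorem Out.exists_tor (a l : Fˣ) : ∃ g m k, Tor h g a l m k ∧ (m : F) ^ 2 = h.sig (θ a) := by
  obtain ⟨g₁, hg₁, m₁, k₁, t₁⟩ := o.exists_one a
  have hne : h.sig ((a * l : Fˣ) : F) ≠ 0 := by
    rw [Ne, map_eq_zero_iff _ h.sig.injective]; exact (a * l).ne_zero
  obtain ⟨g₂, hg₂, l₂, t₂⟩ := o.exists_two (Units.mk0 _ hne)
  have h2 := t₂.rel
  rw [Units.val_one, one_mul, Units.val_mk0] at h2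
  have h3 : l₂ = a * l := Units.ext (h.sig.injective h2)
  subst h3
  have t := t₁.mul t₂
  rw [mul_one, mul_one, inv_mul_cancel_left] at t
  refine ⟨_, _, _, t, ?_⟩
  -- the relation for `g₁`
  have e1 : (m₁ : F) * (θ k₁ * (k₁ : F)⁻¹) = 1 := by
    obtain ⟨w, hw, hwf⟩ := h.P.f_surj ![0, 1, 0, 0]
    have hI : w ∈ h.I := ⟨hw, by rw [hwf]; rfl, by rw [hwf]; rfl⟩
    have h4 := hg₁ w hI
    have h5 := h.M_conj_I t₁.memB.1 hI
    rw [h.mem_V_iff (mul_mem h5 (inv_mem hI)), h.f_mul h5.1 (inv_mem hI.1), h.f_inv hI.1,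
      h.f_conj t₁.memB.2 hI.1, t₁.W, mv_D, hwf] at h4
    have h6 : (m₁ : F) * (θ k₁ * (k₁ : F)⁻¹ * 1) + 1 = 0 := h4
    have := H.two
    linear_combination h6 - this
  have e2 := t₁.rel
  have hθk := theta_ne_zero θ k₁
  have hk := k₁.ne_zero
  have hm := m₁.ne_zero
  have e3 : (m₁ : F) = k₁ * (θ k₁)⁻¹ := by
    field_simp at e1 ⊢
    exact e1
  have e4 : h.sig (θ a) = θ (h.sig a) := aut_theta H _ _
  have e5 : h.sig (a : F) = ((k₁ : F) * (m₁ : F))⁻¹ := by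
    rw [Units.val_inv_eq_inv_val, map_inv₀] at e2
    rw [mul_comm, ← e2, inv_inv]
  rw [e4, e5, map_inv₀, map_mul, e3, map_mul, map_inv₀, H.sq]
  field_simp

theorem Out.rel2 {g : G} {a l m k : Fˣ} (t : Tor h g a l m k) : (m : F) ^ 2 = h.sig (θ a) := by
  obtain ⟨g', m', k', t', h1⟩ := o.exists_tor a l
  have h2 := t.mul t'.inv
  rw [mul_inv_cancel, mul_inv_cancel] at h2
  have h3 := (h2.unip o).1
  rw [mul_inv_eq_one] at h3
  rw [h3, h1]

end lifts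

end Sit

end Cfsg.Agent.Omega.TwoFFour
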