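import Cfsg.Agent.Omega.TwoFFour.Base
import Cfsg.Agent.Omega.TwoFFour.Tor

/-!
# THEOREM 2F4: the outputs of (2), (3) in the form used by `Tor`, `Hal`
-/

set_option autoImplicit false
set_option linter.unusedSectionVars false

namespace Cfsg.Agent.Omega.TwoFFour

open Subgroup
open Cfsg.Agent.LieRecognition.SzMatrix (Good)

variable {G : Type*} [Group G]

namespace Sit

variable {F : Type*} [Field F] {θ : F →+* F} {e : ℕ} {H : Good F θ e} {S : Sylow 2 G} {V Z W : Subgroup G}

theorem out [Finite G] (h : Sit F H S V Z W) : Sit.Out h where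
  nrm := by
    intro b hb s hs
    refine h.S_normal (b := b) ?_ hs
    exact hb
  CV := h.cenV_le_S
  KZ := h.Qx_le_S
  fac := by
    intro s hs
    obtain ⟨q, hq, hqK, c, -, hcV, rfl⟩ := h.S_decomp hs
    exact ⟨q, hq, hqK, by rwa [inv_mul_cancel_left]⟩

end Sit

end Cfsg.Agent.Omega.TwoFFour
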