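import Cfsg.Agent.Omega.TwoFFour.Oct

/-!
# THEOREM 2F4, (PATH): torus weights and windows

From `Oct`: the `Frame`, the lemma of covering windows (`Oct.step`), `Oct.pathTo : ∀ k < 8, PathTo k`.
-/

set_option autoImplicit false
set_option linter.unusedSectionVars false
set_option linter.unusedSimpArgs false

namespace Cfsg.Agent.Omega.TwoFFour

open Subgroup Cfsg.Agent.Omega.BTwo Cfsg.Agent.RankTwoClose

theorem nxt_add (i : Bool) (a b : ℕ) : nxt i (a + b) = nxt (nxt i a) b := by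
  simp [nxt, Nat.bodd_add]

theorem alt_add {G : Type*} [Group G] (n : Bool → G) (i : Bool) (a b : ℕ) :
    alt n i (a + b) = alt n i a * alt n (nxt i a) b := by
  induction b with
  | zero => simp
  | succ b ih => rw [← Nat.add_assoc, alt_succ', ih, alt_succ', nxt_add, mul_assoc]

section Arith

variable {N : ℕ} {θ : ZMod N}

theorem one_ne (h1 : 1 < N) : (1 : ZMod N) ≠ 0 := by
  intro h
  have h2 : ((1 : ℕ) : ZMod N) = 0 := by rw [Nat.cast_one]; exact h
  rw [ZMod.natCast_eq_zero_iff] at h2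
  exact absurd (Nat.le_of_dvd one_pos h2) (by omega)

theorem two_ne (hN : Odd N) (h1 : 1 < N) : (2 : ZMod N) ≠ 0 := by
  intro h
  have h2 : ((2 : ℕ) : ZMod N) = 0 := by rw [Nat.cast_ofNat]; exact h
  rw [ZMod.natCast_eq_zero_iff] at h2
  have h3 := Nat.le_of_dvd two_pos h2
  obtain ⟨k, hk⟩ := hN
  omega

end Arith

namespace Oct

variable {G : Type*} [Group G] {P Q : Bool → Subgroup G} {n : Bool → G} {B S H Z W O : Subgroup G}
  {N : ℕ} {θ : ZMod N} {x y : G → ZMod N}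

section basic

variable (h : Oct P Q n B S H Z W O θ x y)
include h

theorem one_ne : (1 : ZMod N) ≠ 0 := TwoFFour.one_ne h.one_lt

theorem two_ne : (2 : ZMod N) ≠ 0 := TwoFFour.two_ne h.oddN h.one_lt

theorem th_ne : θ ≠ 0 := by
  intro h0
  apply h.two_ne
  rw [← h.sq, h0, mul_zero]

theorem th1_ne : θ + 1 ≠ 0 := by
  intro h0
  apply h.one_ne
  linear_combination (θ - 1) * h0 - h.sq

theorem th1_ne' : θ - 1 ≠ 0 := by
  intro h0
  apply h.one_ne
  linear_combination (θ + 1) * h0 - h.sq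

theorem th2_ne : θ - 2 ≠ 0 := by
  intro h0
  apply h.two_ne
  linear_combination (-θ - 2) * h0 + h.sq

/-- `θ - 1` is a unit. -/
theorem th_unit {a : ZMod N} (ha : (θ - 1) * a = 0) : a = 0 := by
  linear_combination (θ + 1) * ha - a * h.sq

theorem B_le (i : Bool) : B ≤ P i := fun _ hx => (h.memP i _).2 (Or.inl hx)

theorem n_mem (i : Bool) : n i ∈ P i :=
  (h.memP i _).2 (Or.inr ⟨1, one_mem _, 1, one_mem _, by simp⟩)

theorem memB (i : Bool) (g : G) : g ∈ P i ↔ g ∈ B ∨ ∃ b ∈ B, ∃ c ∈ B, g = b * n i * c := by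
  constructor
  · intro hg
    rcases (h.memP i g).1 hg with hg | ⟨s, hs, c, hc, e⟩
    · exact Or.inl hg
    · exact Or.inr ⟨s, h.S_le hs, c, hc, e⟩
  · rintro (hg | ⟨b, hb, c, hc, rfl⟩)
    · exact h.B_le i hg
    · exact mul_mem (mul_mem (h.B_le i hb) (h.n_mem i)) (h.B_le i hc)

theorem n_conj (i : Bool) {t : G} (ht : t ∈ H) : n i * t * (n i)⁻¹ ∈ H :=
  conj_mem_of_normalizer (h.n_norm i) ht

theorem n_conj' (i : Bool) {t : G} (ht : t ∈ H) : (n i)⁻¹ * t * n i ∈ H :=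
  conj_inv_mem_of_normalizer (h.n_norm i) ht

theorem exists_free (i : Bool) : ∃ t ∈ H, fr θ x y i t ≠ 0 := by
  cases i
  · obtain ⟨t, ht, h1, h2⟩ := h.surj 0 1
    refine ⟨t, ht, ?_⟩
    show θ * y t - x t ≠ 0
    rw [h1, h2, mul_one, sub_zero]
    exact h.th_ne
  · obtain ⟨t, ht, h1, h2⟩ := h.surj 1 0
    refine ⟨t, ht, ?_⟩
    show x t - y t ≠ 0
    rw [h1, h2, sub_zero]
    exact h.one_ne

/-- The chambers of the panel fixed by a torus element without fixed points on `S / Q i`. -/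
theorem two_one (i : Bool) (g : G) (hg : g ∈ P i) {t : G} (ht : t ∈ H) (hf : fr θ x y i t ≠ 0)
    (hH : g⁻¹ * t * g ∈ B) : g ∈ B ∨ (n i)⁻¹ * g ∈ B := by
  rcases (h.memP i g).1 hg with hg | ⟨s, hs, c, hc, rfl⟩
  · exact Or.inl hg
  · right
    have h1 : (n i)⁻¹ * (s⁻¹ * t * s) * n i ∈ B := by
      have h2 := mul_mem (mul_mem hc hH) (inv_mem hc)
      have e : c * ((s * n i * c)⁻¹ * t * (s * n i * c)) * c⁻¹ = (n i)⁻¹ * (s⁻¹ * t * s) * n i := by
        group
      rwa [e] at h2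
    have h3 : (n i)⁻¹ * (s⁻¹ * t * s * t⁻¹) * n i ∈ B := by
      have h4 : (n i)⁻¹ * t⁻¹ * n i ∈ B := h.H_le (h.n_conj' i (inv_mem ht))
      have e : (n i)⁻¹ * (s⁻¹ * t * s * t⁻¹) * n i =
          ((n i)⁻¹ * (s⁻¹ * t * s) * n i) * ((n i)⁻¹ * t⁻¹ * n i) := by group
      rw [e]
      exact mul_mem h1 h4
    have h5 : s⁻¹ * t * s * t⁻¹ ∈ S := by
      have e : s⁻¹ * t * s * t⁻¹ = s⁻¹ * (t * s * t⁻¹) := by group
      rw [e]
      exact mul_mem (inv_mem hs) (h.S_nrm t (h.H_le ht) s hs)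
    have h6 := h.Q_max i _ h5 h3
    have h7 : t * s⁻¹ * t⁻¹ * (s⁻¹)⁻¹ ∈ Q i := by
      have e : t * s⁻¹ * t⁻¹ * (s⁻¹)⁻¹ = (s⁻¹ * t * s * t⁻¹)⁻¹ := by group
      rw [e]
      exact inv_mem h6
    have h8 : s ∈ Q i := inv_mem_iff.1 (h.free i t ht hf _ (inv_mem hs) h7)
    have h9 : (n i)⁻¹ * s * n i ∈ Q i := by
      have := h.Q_nrm i _ (inv_mem (h.n_mem i)) s h8
      rwa [inv_inv] at this
    have e : (n i)⁻¹ * (s * n i * c) = ((n i)⁻¹ * s * n i) * c := by group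
    rw [e]
    exact mul_mem (h.S_le (h.Q_le i h9)) hc

theorem two (i : Bool) (g : G) (hg : g ∈ P i) (hH : ∀ t ∈ H, g⁻¹ * t * g ∈ B) :
    g ∈ B ∨ (n i)⁻¹ * g ∈ B := by
  obtain ⟨t, ht, hf⟩ := h.exists_free i
  exact h.two_one i g hg ht hf (hH t ht)

/-- The frame of helper139's closing theorem. -/
def frame : Frame G where
  B := B
  H := H
  P := P
  n := n
  memP := h.memB
  inter := h.inter
  H_le := h.H_le
  n_norm := h.n_norm
  n_not := h.n_not
  two := h.two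

theorem cj_Q (i : Bool) {p : G} (hp : p ∈ P i) : cj p (Q i) = Q i := by
  apply le_antisymm
  · rw [cj_le_iff]; exact h.Q_nrm i p hp
  · intro a ha
    rw [mem_cj]
    have := h.Q_nrm i _ (inv_mem hp) a ha
    rwa [inv_inv] at this

theorem cj_S {b : G} (hb : b ∈ B) : cj b S = S := by
  apply le_antisymm
  · rw [cj_le_iff]; exact h.S_nrm b hb
  · intro a ha
    rw [mem_cj]
    have := h.S_nrm _ (inv_mem hb) a ha
    rwa [inv_inv] at this

theorem cj_W {p : G} (hp : p ∈ P false) : cj p W = W := by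
  apply le_antisymm
  · rw [cj_le_iff]; exact h.W_nrm p hp
  · intro a ha
    rw [mem_cj]
    have := h.W_nrm _ (inv_mem hp) a ha
    rwa [inv_inv] at this

theorem alt_norm (i : Bool) (k : ℕ) : alt n i k ∈ normalizer (H : Set G) :=
  h.frame.alt_mem_norm' i k

theorem H_conj {g t : G} (hg : g ∈ normalizer (H : Set G)) (ht : t ∈ H) : g⁻¹ * t * g ∈ H :=
  conj_inv_mem_of_normalizer hg ht

/-- the characters of `n h n⁻¹` -/
theorem x₀' {t : G} (ht : t ∈ H) : x (n false * t * (n false)⁻¹) = x t := by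
  have h1 := h.x₀ _ (h.n_conj false ht)
  have e : (n false)⁻¹ * (n false * t * (n false)⁻¹) * n false = t := by group
  rw [e] at h1
  exact h1.symm

theorem y₀' {t : G} (ht : t ∈ H) : y (n false * t * (n false)⁻¹) = θ * x t - y t := by
  have h1 := h.y₀ _ (h.n_conj false ht)
  have e : (n false)⁻¹ * (n false * t * (n false)⁻¹) * n false = t := by group
  rw [e, h.x₀' ht] at h1
  linear_combination h1

theorem x₁' {t : G} (ht : t ∈ H) : x (n true * t * (n true)⁻¹) = y t := by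
  have h1 := h.y₁ _ (h.n_conj true ht)
  have e : (n true)⁻¹ * (n true * t * (n true)⁻¹) * n true = t := by group
  rw [e] at h1
  exact h1.symm

theorem y₁' {t : G} (ht : t ∈ H) : y (n true * t * (n true)⁻¹) = x t := by
  have h1 := h.x₁ _ (h.n_conj true ht)
  have e : (n true)⁻¹ * (n true * t * (n true)⁻¹) * n true = t := by group
  rw [e] at h1
  exact h1.symm

end basic

/-- `R` covers `cj g S / cj g (Q i)`. -/
def Cov (Q : Bool → Subgroup G) (S : Subgroup G) (i : Bool) (g : G) (R : Subgroup G) : Prop :=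
  ∀ s ∈ cj g S, ∃ r ∈ R, r⁻¹ * s ∈ cj g (Q i)

section window

variable [Finite G] (h : Oct P Q n B S H Z W O θ x y)
include h

/-- `h` without fixed points on `S / Q i`: every element of `S / Q i` is a commutator with `h`. -/
theorem exists_comm (i : Bool) {t : G} (ht : t ∈ H) (hf : fr θ x y i t ≠ 0) {s : G} (hs : s ∈ S) :
    ∃ z ∈ S, (t * z * t⁻¹ * z⁻¹)⁻¹ * s ∈ Q i := by
  have hQS : ∀ z ∈ S, ∀ a ∈ Q i, z * a * z⁻¹ ∈ Q i := fun z hz a ha =>
    h.Q_nrm i z (h.B_le i (h.S_le hz)) a ha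
  have htP : t ∈ P i := h.B_le i (h.H_le ht)
  -- the relation modulo `Q i`
  let Q' : Subgroup S := (Q i).subgroupOf S
  have hN : Q'.Normal := ⟨fun a ha g => mem_subgroupOf.2 (hQS g g.2 a (mem_subgroupOf.1 ha))⟩
  let f : S → S := fun z => ⟨t * z * t⁻¹ * (z : G)⁻¹,
    mul_mem (h.S_nrm t (h.H_le ht) z z.2) (inv_mem z.2)⟩
  have hwd : ∀ z w : S, (z : S ⧸ Q') = w → ((f z : S) : S ⧸ Q') = f w := by
    intro z w hzw
    rw [QuotientGroup.eq] at hzw ⊢
    rw [mem_subgroupOf] at hzw ⊢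
    set a : G := (z : G)⁻¹ * w with ha
    have haQ : a ∈ Q i := hzw
    have hw : (w : G) = z * a := by rw [ha]; group
    show (t * z * t⁻¹ * (z : G)⁻¹)⁻¹ * (t * w * t⁻¹ * (w : G)⁻¹) ∈ Q i
    rw [hw]
    have e : (t * z * t⁻¹ * (z : G)⁻¹)⁻¹ * (t * (z * a) * t⁻¹ * ((z : G) * a)⁻¹) =
        (z : G) * ((t * a * t⁻¹) * a⁻¹) * (z : G)⁻¹ := by group
    rw [e]
    exact hQS z z.2 _ (mul_mem (h.Q_nrm i t htP a haQ) (inv_mem haQ))
  let F : S ⧸ Q' → S ⧸ Q' := Quotient.lift (fun z : S => ((f z : S) : S ⧸ Q'))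
    (fun z w hzw => hwd z w (Quotient.sound hzw))
  have hF : ∀ z : S, F (z : S ⧸ Q') = (f z : S ⧸ Q') := fun z => rfl
  have hinj : Function.Injective F := by
    intro a b hab
    obtain ⟨z, rfl⟩ := QuotientGroup.mk_surjective a
    obtain ⟨w, rfl⟩ := QuotientGroup.mk_surjective b
    rw [hF, hF, QuotientGroup.eq, mem_subgroupOf] at hab
    rw [QuotientGroup.eq, mem_subgroupOf]
    have hab' : (t * z * t⁻¹ * (z : G)⁻¹)⁻¹ * (t * w * t⁻¹ * (w : G)⁻¹) ∈ Q i := hab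
    -- `z⁻¹ (..) z`
    have h1 := hQS _ (inv_mem z.2) _ hab'
    set a : G := (z : G)⁻¹ * w with ha
    have hw : (w : G) = z * a := by rw [ha]; group
    have e : (z : G)⁻¹ * ((t * z * t⁻¹ * (z : G)⁻¹)⁻¹ * (t * w * t⁻¹ * (w : G)⁻¹)) * ((z : G)⁻¹)⁻¹ =
        t * a * t⁻¹ * a⁻¹ := by rw [hw]; group
    rw [e] at h1
    exact h.free i t ht hf a (mul_mem (inv_mem z.2) w.2) h1
  obtain ⟨a, ha⟩ := (Finite.injective_iff_surjective.1 hinj) ((⟨s, hs⟩ : S) : S ⧸ Q')
  obtain ⟨z, rfl⟩ := QuotientGroup.mk_surjective a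
  rw [hF, QuotientGroup.eq, mem_subgroupOf] at ha
  exact ⟨z, z.2, ha⟩

/-- The lemma of (5): one more vertex of the window. -/
theorem step {i j : Bool} {g g' k : G} {R : Subgroup G} (hc : Cov Q S i g R)
    (hg : g ∈ normalizer (H : Set G)) (hg' : g' ∈ normalizer (H : Set G)) (hk : k ∈ H)
    (hR : ∀ r ∈ R, k * r * k⁻¹ ∈ R) (hR' : R ≤ cj g' S) (hf : fr θ x y i (g⁻¹ * k * g) ≠ 0)
    (ht : fr θ x y j (g'⁻¹ * k * g') = 0) : Cov Q S i g (R ⊓ cj g' (Q j)) := by
  intro s hs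
  have hs' := mem_cj.1 hs
  have hk' := h.H_conj hg hk
  have hk2 := h.H_conj hg' hk
  obtain ⟨z, hz, hz'⟩ := h.exists_comm i hk' hf hs'
  obtain ⟨r, hr, hr'⟩ := hc _ (conj_mem_cj (g := g) hz)
  -- `a = r⁻¹ (g z g⁻¹)`
  set z' := g * z * g⁻¹ with hz'def
  have hz'S : z' ∈ cj g S := conj_mem_cj hz
  refine ⟨k * r * k⁻¹ * r⁻¹, mem_inf.2 ⟨mul_mem (hR r hr) (inv_mem hr), ?_⟩, ?_⟩
  · rw [mem_cj]
    have h1 := h.triv j _ hk2 ht _ (mem_cj.1 (hR' hr))
    have e : g'⁻¹ * (k * r * k⁻¹ * r⁻¹) * g' = g'⁻¹ * k * g' * (g'⁻¹ * r * g') * (g'⁻¹ * k * g')⁻¹ *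
        (g'⁻¹ * r * g')⁻¹ := by group
    rw [e]
    exact h1
  · rw [mem_cj]
    -- everything in `S`, modulo `Q i`
    set k₁ := g⁻¹ * k * g with hk₁
    set a := g⁻¹ * (r⁻¹ * z') * g with ha
    have haQ : a ∈ Q i := mem_cj.1 hr'
    set r₁ := g⁻¹ * r * g with hr₁
    have hzr : z = r₁ * a := by rw [ha, hr₁, hz'def]; group
    have hr₁S : r₁ ∈ S := by
      have : r₁ = z * a⁻¹ := by rw [hzr]; group
      rw [this]
      exact mul_mem hz (inv_mem (h.Q_le i haQ))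
    have hkP : k₁ ∈ P i := h.B_le i (h.H_le hk')
    have e : g⁻¹ * ((k * r * k⁻¹ * r⁻¹)⁻¹ * s) * g = (k₁ * r₁ * k₁⁻¹ * r₁⁻¹)⁻¹ * (g⁻¹ * s * g) := by
      rw [hk₁, hr₁]; group
    rw [e]
    have e2 : (k₁ * r₁ * k₁⁻¹ * r₁⁻¹)⁻¹ * (g⁻¹ * s * g) =
        ((k₁ * r₁ * k₁⁻¹ * r₁⁻¹)⁻¹ * (k₁ * z * k₁⁻¹ * z⁻¹)) *
          ((k₁ * z * k₁⁻¹ * z⁻¹)⁻¹ * (g⁻¹ * s * g)) := by group
    rw [e2]
    refine mul_mem ?_ hz'
    rw [hzr]
    have e3 : (k₁ * r₁ * k₁⁻¹ * r₁⁻¹)⁻¹ * (k₁ * (r₁ * a) * k₁⁻¹ * (r₁ * a)⁻¹) =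
        r₁ * ((k₁ * a * k₁⁻¹) * a⁻¹) * r₁⁻¹ := by group
    rw [e3]
    exact h.Q_nrm i r₁ (h.B_le i (h.S_le hr₁S)) _
      (mul_mem (h.Q_nrm i _ hkP a haQ) (inv_mem haQ))

end window

/-- The group `Q_v` of the `m`-th vertex of the gallery with first letter `i`. -/
def Qs (Q : Bool → Subgroup G) (n : Bool → G) (i : Bool) (m : ℕ) : Subgroup G :=
  cj (alt n i m) (Q (nxt i m))

/-- The window `Q_m ∩ .. ∩ Q_(m + r)`. -/
def Win (Q : Bool → Subgroup G) (n : Bool → G) (i : Bool) : ℕ → ℕ → Subgroup G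
  | m, 0 => Qs Q n i m
  | m, r + 1 => Win Q n i (m + 1) r ⊓ Qs Q n i m

section windows

variable (h : Oct P Q n B S H Z W O θ x y)
include h

theorem Qs_eq (i : Bool) (m : ℕ) : Qs Q n i m = cj (alt n i (m + 1)) (Q (nxt i m)) := by
  rw [alt_succ', cj_mul, h.cj_Q _ (h.n_mem _)]
  rfl

theorem Qs_le (i : Bool) (m : ℕ) : Qs Q n i m ≤ cj (alt n i m) S := cj_mono (h.Q_le _)

theorem Qs_le' (i : Bool) (m : ℕ) : Qs Q n i m ≤ cj (alt n i (m + 1)) S := by
  rw [h.Qs_eq]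
  exact cj_mono (h.Q_le _)

omit h in
theorem Win_le (i : Bool) (m r : ℕ) : Win Q n i m r ≤ Qs Q n i m := by
  cases r
  · exact le_rfl
  · exact inf_le_right

omit h in
theorem Win_le' (i : Bool) (r : ℕ) : ∀ m j, j ≤ r → Win Q n i m r ≤ Qs Q n i (m + j) := by
  induction r with
  | zero =>
    intro m j hj
    obtain rfl : j = 0 := by omega
    exact le_rfl
  | succ r ih =>
    intro m j hj
    rcases Nat.eq_zero_or_pos j with rfl | hj0
    · exact inf_le_right
    · refine inf_le_left.trans ((ih (m + 1) (j - 1) (by omega)).trans (le_of_eq ?_))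
      congr 1
      omega

theorem Qs_H (i : Bool) (m : ℕ) {k r : G} (hk : k ∈ H) (hr : r ∈ Qs Q n i m) :
    k * r * k⁻¹ ∈ Qs Q n i m := by
  unfold Qs at hr ⊢
  rw [mem_cj] at hr ⊢
  have h1 := h.H_conj (h.alt_norm i m) hk
  have h2 := h.Q_nrm _ _ (h.B_le (nxt i m) (h.H_le h1)) _ hr
  have e : (alt n i m)⁻¹ * (k * r * k⁻¹) * alt n i m = (alt n i m)⁻¹ * k * alt n i m *
      ((alt n i m)⁻¹ * r * alt n i m) * ((alt n i m)⁻¹ * k * alt n i m)⁻¹ := by group
  rwa [e]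

theorem Win_H (i : Bool) (r : ℕ) : ∀ m {k s : G}, k ∈ H → s ∈ Win Q n i m r →
    k * s * k⁻¹ ∈ Win Q n i m r := by
  induction r with
  | zero => exact fun m _ _ hk hs => h.Qs_H i m hk hs
  | succ r ih => exact fun m _ _ hk hs => ⟨ih _ hk hs.1, h.Qs_H i m hk hs.2⟩

/-- The characters on `w h w⁻¹`, `w` alternating: the weights of the window. -/
theorem exists_weight (j : Bool) (r : ℕ) (hr : r ≤ 5) :
    ∃ t ∈ H, fr θ x y (nxt j (r + 1)) t ≠ 0 ∧
      fr θ x y (!j) (alt n j (r + 1) * t * (alt n j (r + 1))⁻¹) = 0 := by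
  have e : ∀ (i : Bool) (k : ℕ) (t : G), alt n i (k + 1) * t * (alt n i (k + 1))⁻¹ =
      n i * (alt n (!i) k * t * (alt n (!i) k)⁻¹) * (n i)⁻¹ := by
    intro i k t
    rw [alt_succ]; group
  have mem : ∀ (i : Bool) (k : ℕ) {t : G}, t ∈ H → alt n i k * t * (alt n i k)⁻¹ ∈ H :=
    fun i k t ht => conj_mem_of_normalizer (h.alt_norm i k) ht
  have z : ∀ (i : Bool) (t : G), alt n i 0 * t * (alt n i 0)⁻¹ = t := by intro i t; simp
  have X0 : ∀ (k : ℕ) (t : G), t ∈ H → x (alt n false (k + 1) * t * (alt n false (k + 1))⁻¹) =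
      x (alt n true k * t * (alt n true k)⁻¹) := by
    intro k t ht
    rw [e]
    exact h.x₀' (mem true k ht)
  have Y0 : ∀ (k : ℕ) (t : G), t ∈ H → y (alt n false (k + 1) * t * (alt n false (k + 1))⁻¹) =
      θ * x (alt n true k * t * (alt n true k)⁻¹) - y (alt n true k * t * (alt n true k)⁻¹) := by
    intro k t ht
    rw [e]
    exact h.y₀' (mem true k ht)
  have X1 : ∀ (k : ℕ) (t : G), t ∈ H → x (alt n true (k + 1) * t * (alt n true (k + 1))⁻¹) =
      y (alt n false k * t * (alt n false k)⁻¹) := by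
    intro k t ht
    rw [e]
    exact h.x₁' (mem false k ht)
  have Y1 : ∀ (k : ℕ) (t : G), t ∈ H → y (alt n true (k + 1) * t * (alt n true (k + 1))⁻¹) =
      x (alt n false k * t * (alt n false k)⁻¹) := by
    intro k t ht
    rw [e]
    exact h.y₁' (mem false k ht)
  have hs := h.sq
  have n1 := h.one_ne
  have n2 := h.two_ne
  have n3 := h.th_ne
  have n4 := h.th1_ne
  have n5 := h.th1_ne'
  have n6 := h.th2_ne
  -- the explicit weight vectors
  have key : ∀ (j : Bool) (r : ℕ), r ≤ 5 → ∃ a b : ZMod N, ∀ t ∈ H, x t = a → y t = b →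
      fr θ x y (nxt j (r + 1)) t ≠ 0 ∧
        fr θ x y (!j) (alt n j (r + 1) * t * (alt n j (r + 1))⁻¹) = 0 := by
    clear hr r j
    intro j r hr
    cases j <;> interval_cases r
    · refine ⟨1, θ - 1, fun t ht ha hb => ?_⟩
      show x t - y t ≠ 0 ∧ x _ - y _ = 0
      simp only [X0, Y0, X1, Y1, z, ht, ha, hb]
      constructor
      · intro h0; exact n6 (by linear_combination -h0)
      · ring
    · refine ⟨θ - 1, 1, fun t ht ha hb => ?_⟩
      show θ * y t - x t ≠ 0 ∧ x _ - y _ = 0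
      simp only [X0, Y0, X1, Y1, z, ht, ha, hb]
      constructor
      · intro h0; exact n1 (by linear_combination h0)
      · ring
    · refine ⟨1, -1, fun t ht ha hb => ?_⟩
      show x t - y t ≠ 0 ∧ x _ - y _ = 0
      simp only [X0, Y0, X1, Y1, z, ht, ha, hb]
      constructor
      · intro h0; exact n2 (by linear_combination h0)
      · linear_combination -hs
    · refine ⟨1, -1, fun t ht ha hb => ?_⟩
      show θ * y t - x t ≠ 0 ∧ x _ - y _ = 0
      simp only [X0, Y0, X1, Y1, z, ht, ha, hb]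
      constructor
      · intro h0; exact n4 (by linear_combination -h0)
      · linear_combination hs
    · refine ⟨θ - 1, 1, fun t ht ha hb => ?_⟩
      show x t - y t ≠ 0 ∧ x _ - y _ = 0
      simp only [X0, Y0, X1, Y1, z, ht, ha, hb]
      constructor
      · intro h0; exact n6 (by linear_combination h0)
      · linear_combination (2 * θ - θ ^ 2) * hs
    · refine ⟨1, θ - 1, fun t ht ha hb => ?_⟩
      show θ * y t - x t ≠ 0 ∧ x _ - y _ = 0
      simp only [X0, Y0, X1, Y1, z, ht, ha, hb]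
      constructor
      · intro h0; exact n5 (by linear_combination -h0 + hs)
      · linear_combination (2 * θ - θ ^ 2) * hs
    · refine ⟨1, θ, fun t ht ha hb => ?_⟩
      show θ * y t - x t ≠ 0 ∧ θ * y _ - x _ = 0
      simp only [X0, Y0, X1, Y1, z, ht, ha, hb]
      constructor
      · intro h0; exact n1 (by linear_combination h0 - hs)
      · ring
    · refine ⟨1, 0, fun t ht ha hb => ?_⟩
      show x t - y t ≠ 0 ∧ θ * y _ - x _ = 0
      simp only [X0, Y0, X1, Y1, z, ht, ha, hb]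
      constructor
      · intro h0; exact n1 (by linear_combination h0)
      · ring
    · refine ⟨0, 1, fun t ht ha hb => ?_⟩
      show θ * y t - x t ≠ 0 ∧ θ * y _ - x _ = 0
      simp only [X0, Y0, X1, Y1, z, ht, ha, hb]
      constructor
      · intro h0; exact n3 (by linear_combination h0)
      · ring
    · refine ⟨0, 1, fun t ht ha hb => ?_⟩
      show x t - y t ≠ 0 ∧ θ * y _ - x _ = 0
      simp only [X0, Y0, X1, Y1, z, ht, ha, hb]
      constructor
      · intro h0; exact n1 (by linear_combination -h0)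
      · ring
    · refine ⟨1, 0, fun t ht ha hb => ?_⟩
      show θ * y t - x t ≠ 0 ∧ θ * y _ - x _ = 0
      simp only [X0, Y0, X1, Y1, z, ht, ha, hb]
      constructor
      · intro h0; exact n1 (by linear_combination -h0)
      · ring
    · refine ⟨1, θ, fun t ht ha hb => ?_⟩
      show x t - y t ≠ 0 ∧ θ * y _ - x _ = 0
      simp only [X0, Y0, X1, Y1, z, ht, ha, hb]
      constructor
      · intro h0; exact n5 (by linear_combination -h0)
      · ring
  obtain ⟨a, b, hab⟩ := key j r hr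
  obtain ⟨t, ht, ha, hb⟩ := h.surj a b
  exact ⟨t, ht, hab t ht ha hb⟩

end windows

section path

variable [Finite G] (h : Oct P Q n B S H Z W O θ x y)
include h

theorem cover' (j : Bool) {s : G} (hs : s ∈ S) : ∃ a ∈ Q (!j), a⁻¹ * s ∈ Q j := by
  obtain ⟨a, ha, b, hb, e⟩ := h.cover s hs
  cases j
  · refine ⟨b, hb, ?_⟩
    have h1 := h.Q_nrm false _ (inv_mem (h.B_le false (h.S_le (h.Q_le true hb)))) a ha
    rwa [inv_inv, mul_assoc, ← e] at h1
  · exact ⟨a, ha, by rw [e, inv_mul_cancel_left]; exact hb⟩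

/-- The windows cover. -/
theorem cov_win (r : ℕ) : ∀ (i : Bool) (m : ℕ), r ≤ 6 →
    Cov Q S (nxt i (m + r + 1)) (alt n i (m + r + 1)) (Win Q n i m r) := by
  induction r with
  | zero =>
    intro i m _ s hs
    have h1 := mem_cj.1 hs
    obtain ⟨a, ha, ha'⟩ := h.cover' (nxt i (m + 1)) h1
    refine ⟨alt n i (m + 1) * a * (alt n i (m + 1))⁻¹, ?_, ?_⟩
    · show _ ∈ Qs Q n i m
      rw [h.Qs_eq]
      rw [nxt_succ, Bool.not_not] at ha
      exact conj_mem_cj ha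
    · rw [mem_cj]
      have e : (alt n i (m + 0 + 1))⁻¹ * ((alt n i (m + 1) * a * (alt n i (m + 1))⁻¹)⁻¹ * s) *
          alt n i (m + 0 + 1) = a⁻¹ * ((alt n i (m + 1))⁻¹ * s * alt n i (m + 1)) := by
        rw [Nat.add_zero]; group
      rw [e]
      exact ha'
  | succ r ih =>
    intro i m hr
    have h1 := ih i (m + 1) (by omega)
    have e1 : m + 1 + r + 1 = m + (r + 1) + 1 := by omega
    rw [e1] at h1
    obtain ⟨t, ht, hf, hv⟩ := h.exists_weight (nxt i (m + 1)) r (by omega)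
    have e2 : alt n i (m + (r + 1) + 1) = alt n i (m + 1) * alt n (nxt i (m + 1)) (r + 1) := by
      rw [← alt_add]
      congr 1
      omega
    have e3 : nxt i (m + (r + 1) + 1) = nxt (nxt i (m + 1)) (r + 1) := by
      rw [← nxt_add]
      congr 1
      omega
    have e4 : (!(nxt i (m + 1))) = nxt i m := by rw [nxt_succ, Bool.not_not]
    set g := alt n i (m + (r + 1) + 1) with hg
    have hgN : g ∈ normalizer (H : Set G) := h.alt_norm _ _
    have hk : g * t * g⁻¹ ∈ H := conj_mem_of_normalizer hgN ht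
    have h2 := h.step (j := nxt i m) (g' := alt n i (m + 1)) h1 hgN (h.alt_norm _ _) hk
      (fun s hs => h.Win_H i r (m + 1) hk hs)
      ((Win_le i (m + 1) r).trans (h.Qs_le i (m + 1))) ?_ ?_
    · rw [← h.Qs_eq] at h2
      exact h2
    · have : g⁻¹ * (g * t * g⁻¹) * g = t := by group
      rw [this, e3]
      exact hf
    · have : (alt n i (m + 1))⁻¹ * (g * t * g⁻¹) * alt n i (m + 1) =
          alt n (nxt i (m + 1)) (r + 1) * t * (alt n (nxt i (m + 1)) (r + 1))⁻¹ := by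
        rw [e2]; group
      rw [this, ← e4]
      exact hv

/-- **(PATH)** -/
theorem pathTo : ∀ k < 8, h.frame.PathTo k := by
  intro k hk i b hb
  have hb' : b ∈ B := hb
  change ∃ c ∈ B, ∃ d ∈ B, alt n i k * b * n (nxt i k) = c * alt n i (k + 1) * d
  rcases Nat.eq_zero_or_pos k with rfl | hk0
  · exact ⟨b, hb', 1, one_mem _, by simp⟩
  · obtain ⟨r, rfl⟩ : ∃ r, k = 0 + r + 1 := ⟨k - 1, by omega⟩
    set j := nxt i (0 + r + 1) with hj
    set a := alt n i (0 + r + 1) with ha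
    have h1 : b * n j ∈ P j := mul_mem (h.B_le j hb') (h.n_mem j)
    rcases (h.memP j _).1 h1 with h2 | ⟨s, hs, c, hc, e⟩
    · exact absurd ((B.mul_mem_cancel_left hb').1 h2) (h.n_not j)
    · obtain ⟨r', hr', hq⟩ := h.cov_win r i 0 (by omega) _ (conj_mem_cj (g := a) hs)
      set q := a⁻¹ * (r'⁻¹ * (a * s * a⁻¹)) * a with hqdef
      have hq' : q ∈ Q j := mem_cj.1 hq
      have hr'B : r' ∈ B := by
        have := (Win_le i 0 r hr')
        rw [Qs, alt_zero, cj_one] at this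
        exact h.S_le (h.Q_le _ this)
      have h3 : (n j)⁻¹ * q * n j ∈ Q j := by
        have := h.Q_nrm j _ (inv_mem (h.n_mem j)) q hq'
        rwa [inv_inv] at this
      refine ⟨r', hr'B, (n j)⁻¹ * q * n j * c, mul_mem (h.S_le (h.Q_le j h3)) hc, ?_⟩
      rw [alt_succ', ← ha, ← hj]
      calc a * b * n j = a * (b * n j) := by group
        _ = a * (s * n j * c) := by rw [e]
        _ = r' * (a * n j) * ((n j)⁻¹ * q * n j * c) := by rw [hqdef]; group

end path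

end Oct

end Cfsg.Agent.Omega.TwoFFour
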