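import Cfsg.Agent.Omega.TwoFFour.Cores
import Cfsg.Agent.Omega.TwoFFour.Tor
import Cfsg.Agent.Omega.TwoFFour.GenPlug

/-!
# THEOREM 2F4 (helper279, #12906), (4): `Q₀ / F₀` acts linearly; the fields `W_gen`, `O_le`, `fixZ`, `fixO` of `Oct`

* `psi s` : `[s, w] = e (psi s (f w), 0)` for `s ∈ K ⊓ C(Z)`, `w ∈ W`; `psi_add`, `psi_smul`;
* `fix_Z`, `fix_O` : if a torus element `g` of type `(a, l, m, k)` commutes with `s`, then `s` centralises `Z₂` if `l ≠ a`,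
  and `O` if `θ a * θ l ≠ a * (a * l)`;
* `OO` : the preimage of `F e₁` in `W`; `OO_le`, `W_gen`.
-/

set_option autoImplicit false
set_option linter.unusedSectionVars false

namespace Cfsg.Agent.Omega.TwoFFour

open Subgroup Matrix
open Cfsg.Agent.ZN Cfsg.Agent.MinSimple.VModule Cfsg.Agent.Lib.SL2Mat
open Cfsg.Agent.LieRecognition.SzMatrix (Good Umat Umat_def Dmat Dmat_def)
open Cfsg.Agent.Omega.NatPair (NatMod ap ext2 cj mem_cj)

variable {G : Type*} [Group G]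

namespace Sit

variable {F : Type*} [Field F] {θ : F →+* F} {e : ℕ} {H : Good F θ e} {S : Sylow 2 G} {V Z W : Subgroup G}
variable (h : Sit F H S V Z W)

/-- the coordinate of `[s, w]`, `f w = v` -/
noncomputable def psi (s : G) (v : Fin 4 → F) : F := h.cz (s * h.P.r v * s⁻¹ * (h.P.r v)⁻¹)

include h

theorem cz_e (c : F) : h.cz (h.N.e ![c, 0]) = c :=
  (h.e_inj (h.e_cz ((h.e_memZ c 0).2 rfl))).1

theorem cz_one : h.cz 1 = 0 := by
  have := h.cz_e 0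
  rwa [h.e_zero] at this

theorem eq_of_cz {g g' : G} (hg : g ∈ Z) (hg' : g' ∈ Z) (hc : h.cz g = h.cz g') : g = g' := by
  rw [← h.e_cz hg, hc, h.e_cz hg']

theorem vec0 (c : F) : (![c, 0, 0, 0] : Fin 4 → F) = Pi.single 0 c := by
  apply ext4 <;> simp

section fixed

variable {s : G} (hsK : s ∈ h.P.K) (hsZ : s ∈ centralizer (Z : Set G))
include hsK hsZ

theorem comm_memZ {w : G} (hw : w ∈ W) : s * w * s⁻¹ * w⁻¹ ∈ Z := h.K_comm hsK hw

theorem comm_cong {w w' : G} (hw : w ∈ W) (hw' : w' ∈ W) (hf : h.P.f w = h.P.f w') :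
    s * w * s⁻¹ * w⁻¹ = s * w' * s⁻¹ * w'⁻¹ := by
  have h1 : w⁻¹ * w' ∈ Z := (h.P.f_eq_iff hw hw').1 hf
  have h2 : w⁻¹ * w' * s = s * (w⁻¹ * w') := mem_centralizer_iff.1 hsZ _ h1
  calc s * w * s⁻¹ * w⁻¹ = s * w * s⁻¹ * (w⁻¹ * w') * w'⁻¹ := by group
    _ = s * w * s⁻¹ * (w⁻¹ * w' * s) * s⁻¹ * w'⁻¹ := by group
    _ = s * w * s⁻¹ * (s * (w⁻¹ * w')) * s⁻¹ * w'⁻¹ := by rw [h2]
    _ = _ := by group

/-- `[s, w] = e (psi s (f w), 0)` -/
theorem comm_eq {w : G} (hw : w ∈ W) : s * w * s⁻¹ * w⁻¹ = h.N.e ![h.psi s (h.P.f w), 0] := by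
  unfold psi
  rw [h.e_cz (h.comm_memZ hsK hsZ (h.P.r_mem _))]
  exact h.comm_cong hsK hsZ hw (h.P.r_mem _) (h.P.f_r _).symm

theorem psi_eq {w : G} (hw : w ∈ W) : h.psi s (h.P.f w) = h.cz (s * w * s⁻¹ * w⁻¹) := by
  rw [h.comm_eq hsK hsZ hw, h.cz_e]

theorem psi_add (v v' : Fin 4 → F) : h.psi s (v + v') = h.psi s v + h.psi s v' := by
  obtain ⟨w, hw, rfl⟩ := h.P.f_surj v
  obtain ⟨w', hw', rfl⟩ := h.P.f_surj v'
  rw [← h.P.f_mul hw hw', h.psi_eq hsK hsZ (mul_mem hw hw'), h.psi_eq hsK hsZ hw, h.psi_eq hsK hsZ hw']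
  have h1 := h.comm_memZ hsK hsZ hw
  have h2 := h.comm_memZ hsK hsZ hw'
  rw [← h.cz_mul h1 h2]
  congr 1
  have h3 : s * w' * s⁻¹ * w'⁻¹ * w⁻¹ = w⁻¹ * (s * w' * s⁻¹ * w'⁻¹) :=
    h.ab _ (h.Z_le_W h2) _ (inv_mem hw)
  calc s * (w * w') * s⁻¹ * (w * w')⁻¹ = s * w * s⁻¹ * (s * w' * s⁻¹ * w'⁻¹ * w⁻¹) := by group
    _ = s * w * s⁻¹ * (w⁻¹ * (s * w' * s⁻¹ * w'⁻¹)) := by rw [h3]
    _ = _ := by group

theorem psi_zero : h.psi s 0 = 0 := by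
  have := h.psi_add hsK hsZ 0 0
  rw [add_zero] at this
  exact left_eq_add.1 this

theorem psi_neg (v : Fin 4 → F) : h.psi s (-v) = -h.psi s v := by
  have := h.psi_add hsK hsZ (-v) v
  rw [neg_add_cancel, h.psi_zero hsK hsZ] at this
  exact eq_neg_of_add_eq_zero_left this.symm

/-- `s` centralises `w` iff `psi` vanishes -/
theorem psi_eq_zero_iff {w : G} (hw : w ∈ W) : h.psi s (h.P.f w) = 0 ↔ s * w = w * s := by
  constructor
  · intro h1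
    have h2 := h.comm_eq hsK hsZ hw
    rw [h1, h.e_zero] at h2
    rw [mul_inv_eq_one, mul_inv_eq_iff_eq_mul] at h2
    exact h2
  · intro h1
    rw [h.psi_eq hsK hsZ hw, h1]
    have e1 : w * s * s⁻¹ * w⁻¹ = 1 := by group
    rw [e1, h.cz_one]

/-- conjugation with an element `g ∈ C(Z)` -/
theorem psi_conj {g : G} (hg : g ∈ centralizer (Z : Set G)) (v : Fin 4 → F) :
    h.psi (g * s * g⁻¹) (h.P.act g v) = h.psi s v := by
  have hgC := h.cZ_le hg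
  obtain ⟨w, hw, rfl⟩ := h.P.f_surj v
  have h1 : g * s * g⁻¹ ∈ h.P.K := h.P.conj_mem_K hgC hsK
  have h2 : g * s * g⁻¹ ∈ centralizer (Z : Set G) := h.C_norm_cZ hgC hsZ
  rw [h.P.act_f hgC hw, h.psi_eq h1 h2 (h.conjW hgC hw), h.psi_eq hsK hsZ hw]
  congr 1
  have h3 := mem_centralizer_iff.1 hg _ (h.comm_memZ hsK hsZ hw)
  calc g * s * g⁻¹ * (g * w * g⁻¹) * (g * s * g⁻¹)⁻¹ * (g * w * g⁻¹)⁻¹
      = g * (s * w * s⁻¹ * w⁻¹) * g⁻¹ := by group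
    _ = s * w * s⁻¹ * w⁻¹ := by rw [← h3]; group

/-- conjugation with a torus element -/
theorem psi_tor {g : G} {a l m k : Fˣ} (t : Tor h g a l m k) (v : Fin 4 → F) :
    h.psi (g * s * g⁻¹) (h.P.act g v) = a * h.psi s v := by
  have hgC := t.memB.2
  obtain ⟨w, hw, rfl⟩ := h.P.f_surj v
  have h1 : g * s * g⁻¹ ∈ h.P.K := h.P.conj_mem_K hgC hsK
  have h2 : g * s * g⁻¹ ∈ centralizer (Z : Set G) := h.C_norm_cZ hgC hsZ
  rw [h.P.act_f hgC hw, h.psi_eq h1 h2 (h.conjW hgC hw)]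
  have e1 : g * s * g⁻¹ * (g * w * g⁻¹) * (g * s * g⁻¹)⁻¹ * (g * w * g⁻¹)⁻¹ = g * (s * w * s⁻¹ * w⁻¹) * g⁻¹ := by
    group
  rw [e1, h.comm_eq hsK hsZ hw, t.V, mul_zero, h.cz_e]

end fixed

/-- every element of `Sz` is induced by an element of `C(Z)` -/
theorem exists_cZ [Finite G] {A : GL (Fin 4) F} (hA : A ∈ Cfsg.Lie.Sz F e) :
    ∃ g ∈ centralizer (Z : Set G), h.P.Ind g A := by
  rcases H.bruhat hA with ⟨a, b, k, rfl⟩ | ⟨a, b, c, d, k, rfl⟩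
  · exact h.ind_mul (h.ind_U a b) (h.exists_cZ_D k)
  · exact h.ind_mul (h.ind_mul (h.ind_U a b) h.exists_cZ_W) (h.ind_mul (h.ind_U c d) (h.exists_cZ_D k))

theorem phi_surj [Finite G] : Function.Surjective h.phi := by
  have := h.finF
  exact Finite.surjective_of_injective h.phi_inj

/-- linearity on the line `F e₀` -/
theorem psi_single [Finite G] {s : G} (hsK : s ∈ h.P.K) (hsZ : s ∈ centralizer (Z : Set G)) (c x : F) :
    h.psi s (Pi.single 0 (h.sig c * x)) = c * h.psi s (Pi.single 0 x) := by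
  obtain ⟨y, rfl⟩ := h.phi_surj x
  have hsS : s ∈ S := h.Qx_le_S ⟨hsK, hsZ⟩
  obtain ⟨b, hb⟩ := h.exists_up hsS
  have key : ∀ y, h.psi s (Pi.single 0 (h.phi y)) = b * y := by
    intro y
    have h1 : h.P.f (h.N.e ![0, y]) = Pi.single 0 (h.phi y) := by rw [h.f_e, h.vec0]
    have hW : h.N.e ![0, y] ∈ W := h.V_le_W (h.e_mem _ _)
    rw [← h1, h.psi_eq hsK hsZ hW, hb]
    have h2 : (h.N.e ![0, y])⁻¹ = h.N.e ![0, y] := inv_eq_of_mul_eq_one_left (h.sq _ hW)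
    rw [h2, h.e_mul, H.add_self, zero_add, add_zero, h.cz_e]
  rw [← h.phi_mul, key, key]
  ring

/-- **`Q₀ / F₀` acts linearly**: `psi s` is linear with respect to the field structure `sig` -/
theorem psi_smul [Finite G] {s : G} (hsK : s ∈ h.P.K) (hsZ : s ∈ centralizer (Z : Set G)) (c : F) (v : Fin 4 → F) :
    h.psi s (h.sig c • v) = c * h.psi s v := by
  let X : AddSubgroup (Fin 4 → F) :=
    { carrier := {v | h.psi s (h.sig c • v) = c * h.psi s v}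
      add_mem' := by
        intro v w hv hw
        show h.psi s (h.sig c • (v + w)) = c * h.psi s (v + w)
        rw [smul_add, h.psi_add hsK hsZ, h.psi_add hsK hsZ, show h.psi s (h.sig c • v) = _ from hv,
          show h.psi s (h.sig c • w) = _ from hw, mul_add]
      zero_mem' := by
        show h.psi s (h.sig c • 0) = c * h.psi s 0
        rw [smul_zero, h.psi_zero hsK hsZ, mul_zero]
      neg_mem' := by
        intro v hv
        show h.psi s (h.sig c • (-v)) = c * h.psi s (-v)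
        rw [smul_neg, h.psi_neg hsK hsZ, h.psi_neg hsK hsZ, show h.psi s (h.sig c • v) = _ from hv, mul_neg] }
  have hX : X = ⊤ := by
    refine span_lines H X fun A hA x => ?_
    obtain ⟨g, hg, hgA⟩ := h.exists_cZ hA
    show h.psi s (h.sig c • mv A (Pi.single 0 x)) = c * h.psi s (mv A (Pi.single 0 x))
    have hgC := h.cZ_le hg
    have h1 : g⁻¹ * s * g⁻¹⁻¹ ∈ h.P.K := h.P.conj_mem_K (inv_mem hgC) hsK
    have h2 : g⁻¹ * s * g⁻¹⁻¹ ∈ centralizer (Z : Set G) := h.C_norm_cZ (inv_mem hgC) hsZ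
    have h3 : ∀ v, h.psi s (mv A v) = h.psi (g⁻¹ * s * g⁻¹⁻¹) v := by
      intro v
      have h4 := h.psi_conj h1 h2 hg v
      have e1 : g * (g⁻¹ * s * g⁻¹⁻¹) * g⁻¹ = s := by group
      rw [e1, hgA] at h4
      exact h4
    have h4 : h.sig c • (Pi.single 0 x : Fin 4 → F) = Pi.single 0 (h.sig c * x) := by
      apply ext4 <;> simp
    rw [← mv_smul, h3, h3, h4]
    exact h.psi_single h1 h2 c x
  have : v ∈ X := by rw [hX]; exact AddSubgroup.mem_top v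
  exact this

/-- a torus element commuting with `s` -/
theorem psi_fix [Finite G] {s : G} (hsK : s ∈ h.P.K) (hsZ : s ∈ centralizer (Z : Set G)) {g : G} {a l m k : Fˣ}
    (t : Tor h g a l m k) (hc : g * s = s * g) {v : Fin 4 → F} {d : F} (hv : h.P.act g v = h.sig d • v) (hd : d ≠ a) :
    h.psi s v = 0 := by
  have h1 := h.psi_tor hsK hsZ t v
  have e1 : g * s * g⁻¹ = s := by rw [hc, mul_inv_cancel_right]
  rw [e1, hv, h.psi_smul hsK hsZ] at h1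
  have h2 : (d - a) * h.psi s v = 0 := by rw [sub_mul, h1, sub_self]
  exact (mul_eq_zero.1 h2).resolve_left (sub_ne_zero.2 hd)

/-- **`fixZ`** -/
theorem fix_Z' [Finite G] {n : G} (hn : h.Sw n) {s : G} (hsK : s ∈ h.P.K) (hsZ : s ∈ centralizer (Z : Set G)) {g : G}
    {a l m k : Fˣ} (t : Tor h g a l m k) (hc : g * s = s * g) (hla : l ≠ a) : ∀ z ∈ cj n Z, s * z = z * s := by
  intro z hz
  obtain ⟨c, hc'⟩ := (h.memZ _).1 (mem_cj.1 hz)
  have hz' : z = h.N.e ![0, c] := by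
    have := hn c 0
    rw [hc'] at this
    rw [← this]; group
  rw [hz']
  have hW : h.N.e ![0, c] ∈ W := h.V_le_W (h.e_mem _ _)
  rw [← h.psi_eq_zero_iff hsK hsZ hW]
  refine h.psi_fix hsK hsZ t hc (d := l) ?_ (fun h1 => hla (Units.ext h1))
  rw [h.f_e, t.W, mv_D, t.rel]
  apply ext4 <;> simp [mul_assoc]

/-- the preimage of `F e₁` -/
def OO : Subgroup G where
  carrier := {g | g ∈ W ∧ h.P.f g 0 = 0 ∧ h.P.f g 2 = 0 ∧ h.P.f g 3 = 0}
  mul_mem' := by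
    rintro x y ⟨hx, hx0, hx2, hx3⟩ ⟨hy, hy0, hy2, hy3⟩
    refine ⟨mul_mem hx hy, ?_, ?_, ?_⟩ <;> rw [h.P.f_mul hx hy, Pi.add_apply]
    · rw [hx0, hy0, add_zero]
    · rw [hx2, hy2, add_zero]
    · rw [hx3, hy3, add_zero]
  one_mem' := by
    refine ⟨one_mem _, ?_, ?_, ?_⟩ <;> rw [h.P.f_one] <;> rfl
  inv_mem' := by
    rintro x ⟨hx, hx0, hx2, hx3⟩
    refine ⟨inv_mem hx, ?_, ?_, ?_⟩ <;> rw [h.P.f_inv hx, Pi.neg_apply]
    · rw [hx0, neg_zero]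
    · rw [hx2, neg_zero]
    · rw [hx3, neg_zero]

theorem mem_OO {g : G} : g ∈ h.OO ↔ g ∈ W ∧ h.P.f g 0 = 0 ∧ h.P.f g 2 = 0 ∧ h.P.f g 3 = 0 := Iff.rfl

theorem OO_le_I : h.OO ≤ h.I := fun _ hg => ⟨hg.1, hg.2.2⟩

/-- **`O_le`** -/
theorem OO_le [Finite G] {n : G} (hn : h.Sw n) : h.OO ≤ cj n W := by
  intro g hg
  rw [mem_cj]
  exact h.I_conj hn (h.OO_le_I hg)

/-- **`fixO`** -/
theorem fix_O' [Finite G] {s : G} (hsK : s ∈ h.P.K) (hsZ : s ∈ centralizer (Z : Set G)) {g : G}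
    {a l m k : Fˣ} (t : Tor h g a l m k) (hc : g * s = s * g) (hla : (m : F) * (θ k * (k : F)⁻¹) ≠ h.sig a) :
    ∀ z ∈ h.OO, s * z = z * s := by
  intro z hz
  obtain ⟨hzW, h0, h2, h3⟩ := hz
  rw [← h.psi_eq_zero_iff hsK hsZ hzW]
  -- `m θ(k) / k = sig d`
  obtain ⟨d, hd⟩ := h.sig.surjective ((m : F) * (θ k * (k : F)⁻¹))
  refine h.psi_fix hsK hsZ t hc (d := d) ?_ ?_
  · rw [hd, t.W, mv_D]
    apply ext4
    · show (m : F) * (k * h.P.f z 0) = m * (θ k * (k : F)⁻¹) * h.P.f z 0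
      rw [h0]; ring
    · show (m : F) * (θ k * (k : F)⁻¹ * h.P.f z 1) = m * (θ k * (k : F)⁻¹) * h.P.f z 1
      ring
    · show (m : F) * (k * (θ k)⁻¹ * h.P.f z 2) = m * (θ k * (k : F)⁻¹) * h.P.f z 2
      rw [h2]; ring
    · show (m : F) * ((k : F)⁻¹ * h.P.f z 3) = m * (θ k * (k : F)⁻¹) * h.P.f z 3
      rw [h3]; ring
  · rintro rfl
    exact hla hd.symm

/-- the scalar of `g` on `F e₁` -/
theorem scal_O [Finite G] (o : Out h) {g : G} {a l m k : Fˣ} (t : Tor h g a l m k) :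
    (m : F) * (θ k * (k : F)⁻¹) * h.sig (a * l) = h.sig (θ (a : F) * θ (l : F)) := by
  have h4 := t.rel
  have h5 := o.rel2 t
  have h6 : θ (m : F) = h.sig a := by
    have h7 : θ (m : F) ^ 2 = h.sig a ^ 2 := by
      rw [← map_pow, h5, ← aut_theta H, H.sq, map_pow]
    have h8 : (θ (m : F) - h.sig a) ^ 2 = 0 := by
      have := H.two
      linear_combination h7 + (h.sig a ^ 2 - θ (m : F) * h.sig a) * this
    exact sub_eq_zero.1 (pow_eq_zero_iff two_ne_zero |>.1 h8)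
  rw [map_mul, map_mul, aut_theta H h.sig (l : F), h4, map_mul, h6, ← h5]
  have hk := k.ne_zero
  field_simp

/-- **`fixO`** -/
theorem fix_O [Finite G] (o : Out h) {s : G} (hsK : s ∈ h.P.K) (hsZ : s ∈ centralizer (Z : Set G)) {g : G}
    {a l m k : Fˣ} (t : Tor h g a l m k) (hc : g * s = s * g) (hla : θ (a : F) * θ (l : F) ≠ a * (a * l)) :
    ∀ z ∈ h.OO, s * z = z * s := by
  refine h.fix_O' hsK hsZ t hc fun h1 => hla ?_
  have h2 := h.scal_O o t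
  rw [h1, ← map_mul] at h2
  exact (h.sig.injective h2).symm

/-- **`W_gen`** -/
theorem W_gen [Finite G] {n₀ n₁ : G} (hn : h.Sw n₁) (hC : n₀ ∈ normalizer (Z : Set G))
    (hW : h.P.Ind n₀ (Cfsg.Agent.LieRecognition.SzMatrix.W F)) :
    W ≤ Z ⊔ cj n₁ Z ⊔ cj (n₀ * n₁) Z ⊔ h.OO ⊔ cj n₀ h.OO := by
  intro w hw
  obtain ⟨c, hc⟩ := h.phi_surj (h.P.f w 0)
  obtain ⟨c', hc'⟩ := h.phi_surj (h.P.f w 3)
  obtain ⟨o, ho, hof⟩ := h.P.f_surj ![0, h.P.f w 1, 0, 0]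
  obtain ⟨o', ho', hof'⟩ := h.P.f_surj ![0, h.P.f w 2, 0, 0]
  have hO : o ∈ h.OO := ⟨ho, by rw [hof]; rfl, by rw [hof]; rfl, by rw [hof]; rfl⟩
  have hO' : o' ∈ h.OO := ⟨ho', by rw [hof']; rfl, by rw [hof']; rfl, by rw [hof']; rfl⟩
  have hZ2 : ∀ c, h.N.e ![0, c] ∈ cj n₁ Z := by
    intro c
    rw [mem_cj, ← hn c 0]
    have e1 : n₁⁻¹ * (n₁ * h.N.e ![c, 0] * n₁⁻¹) * n₁ = h.N.e ![c, 0] := by group
    rw [e1, h.e_memZ]
  have hZ2' : n₀ * h.N.e ![0, c'] * n₀⁻¹ ∈ cj (n₀ * n₁) Z := by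
    have h1 := hZ2 c'
    rw [mem_cj] at h1 ⊢
    have e1 : (n₀ * n₁)⁻¹ * (n₀ * h.N.e ![0, c'] * n₀⁻¹) * (n₀ * n₁) = n₁⁻¹ * h.N.e ![0, c'] * n₁ := by group
    rwa [e1]
  have hOO' : n₀ * o' * n₀⁻¹ ∈ cj n₀ h.OO := by
    rw [mem_cj]
    have e1 : n₀⁻¹ * (n₀ * o' * n₀⁻¹) * n₀ = o' := by group
    rwa [e1]
  have hm1 : h.N.e ![0, c] ∈ W := h.V_le_W (h.e_mem _ _)
  have hm2 : n₀ * h.N.e ![0, c'] * n₀⁻¹ ∈ W := h.conjW hC (h.V_le_W (h.e_mem _ _))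
  have hm4 : n₀ * o' * n₀⁻¹ ∈ W := h.conjW hC ho'
  set p := h.N.e ![0, c] * (n₀ * h.N.e ![0, c'] * n₀⁻¹) * o * (n₀ * o' * n₀⁻¹) with hp
  have hpW : p ∈ W := mul_mem (mul_mem (mul_mem hm1 hm2) ho) hm4
  have hpf : h.P.f w = h.P.f p := by
    rw [hp, h.P.f_mul (mul_mem (mul_mem hm1 hm2) ho) hm4, h.P.f_mul (mul_mem hm1 hm2) ho, h.P.f_mul hm1 hm2,
      h.f_conj hC ho', h.f_conj hC (h.V_le_W (h.e_mem _ _)), hW, hW, h.f_e, h.f_e, hof, hof', hc, hc', mv_W, mv_W]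
    apply ext4 <;> simp
  have h1 : w⁻¹ * p ∈ Z := (h.P.f_eq_iff hw hpW).1 hpf
  have e1 : w = p * (w⁻¹ * p)⁻¹ := by group
  rw [e1]
  refine mul_mem (mul_mem (mul_mem (mul_mem ?_ ?_) ?_) ?_) (inv_mem ?_)
  · exact mem_sup_left (mem_sup_left (mem_sup_left (mem_sup_right (hZ2 c))))
  · exact mem_sup_left (mem_sup_left (mem_sup_right hZ2'))
  · exact mem_sup_left (mem_sup_right hO)
  · exact mem_sup_right hOO'
  · exact mem_sup_left (mem_sup_left (mem_sup_left (mem_sup_left h1)))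

end Sit

end Cfsg.Agent.Omega.TwoFFour
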