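import Cfsg.Agent.Omega.TwoFFour.Wts
import Cfsg.Agent.Omega.TwoFFour.OutOf
import Cfsg.Agent.Omega.TwoFFour.GenPlug
import Cfsg.Agent.Omega.TwoFFour.Psi

/-!
# THEOREM 2F4: the situation `Sit` gives the amalgam `Oct`
-/

set_option autoImplicit false
set_option linter.unusedSectionVars false

namespace Cfsg.Agent.Omega.TwoFFour

open Subgroup Matrix
open Cfsg.Agent.ZN Cfsg.Agent.MinSimple.VModule Cfsg.Agent.Lib.SL2Mat
open Cfsg.Agent.LieRecognition.SzMatrix (Good Umat Umat_def Dmat Dmat_def W_mul_W theta_ne_zero)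
open Cfsg.Agent.Omega.NatPair (NatMod ap ext2)

variable {G : Type*} [Group G]

namespace Sit

variable {F : Type*} [Field F] {θ : F →+* F} {e : ℕ} {H : Good F θ e} {S : Sylow 2 G} {V Z W : Subgroup G}
variable {h : Sit F H S V Z W} {Hh : Subgroup G}

theorem form' {g : G} (hg : g ∈ h.Bo) : ∃ (ρ : F ≃+* F) (a l : Fˣ) (τ : F),
    ∀ x y, g * h.N.e ![x, y] * g⁻¹ = h.N.e ![a * ρ x + τ * ρ y, l * ρ y] := by
  obtain ⟨ρ, a, τ, l, hf⟩ := h.form hg
  have hl : l ≠ 0 := by
    rintro rfl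
    have h6 := hf 0 1
    rw [zero_mul] at h6
    have h7 : h.N.e ![0, 1] ∈ Z := by
      have h8 : g * h.N.e ![0, 1] * g⁻¹ ∈ Z := by rw [h6, h.e_memZ]
      exact (h.conj_mem_iff hg.2).1 h8
    rw [h.e_memZ] at h7
    exact one_ne_zero h7
  have ha : a ≠ 0 := by
    rintro rfl
    have h6 := hf 1 0
    rw [map_zero, mul_zero, mul_zero, add_zero, zero_mul, h.e_zero, mul_inv_eq_one] at h6
    have h7 : h.N.e ![1, 0] = 1 := by
      have h8 : g * h.N.e ![1, 0] = g * 1 := by rw [h6, mul_one]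
      exact mul_left_cancel h8
    rw [← h.e_zero] at h7
    exact one_ne_zero (h.e_inj h7).1
  exact ⟨ρ, Units.mk0 a ha, Units.mk0 l hl, τ, hf⟩

/-- **`split`** -/
theorem Hall.split [Finite G] (o : Out h) (hH : Hall h Hh) {b : G} (hb : b ∈ h.Bo) :
    ∃ s ∈ S, s⁻¹ * b ∈ normalizer (Hh : Set G) := by
  refine Hall.exists_conj o hH S.isPGroup' ?_ ?_
  · intro x hx
    refine mem_normalizer_of_map_le ?_
    rintro _ ⟨s, hs, rfl⟩
    exact o.nrm x (TT_le (hH.le hx)) s hs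
  · intro g hg
    obtain ⟨a, l, m, k, t⟩ := hH.le hg
    obtain ⟨ρ, a', l', τ, hf⟩ := form' hb
    set g' := b * g * b⁻¹ with hg'
    have hgB : g' ∈ h.Bo := mul_mem (mul_mem hb t.memB) (inv_mem hb)
    have ha' := a'.ne_zero
    have hl' := l'.ne_zero
    -- the action of `g'`
    have hV : ∀ x y, g' * h.N.e ![x, y] * g'⁻¹ = h.N.e ![ρ a * x + τ * (ρ l - ρ a) / l' * y, ρ l * y] := by
      intro x y
      have e1 : h.N.e ![x, y] = b * h.N.e ![ρ.symm ((x - τ * (y / l')) / a'), ρ.symm (y / l')] * b⁻¹ := by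
        rw [hf, ρ.apply_symm_apply, ρ.apply_symm_apply]
        congr 1
        apply ext2
        · show x = a' * ((x - τ * (y / l')) / a') + τ * (y / l')
          field_simp
          ring
        · show y = l' * (y / l')
          field_simp
      have e2 : g' * h.N.e ![x, y] * g'⁻¹ =
          b * (g * h.N.e ![ρ.symm ((x - τ * (y / l')) / a'), ρ.symm (y / l')] * g⁻¹) * b⁻¹ := by
        rw [e1, hg']; group
      rw [e2, t.V, hf, map_mul, map_mul, ρ.apply_symm_apply, ρ.apply_symm_apply]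
      congr 1
      apply ext2
      · show a' * (ρ a * ((x - τ * (y / l')) / a')) + τ * (ρ l * (y / l')) = ρ a * x + τ * (ρ l - ρ a) / l' * y
        field_simp
        ring
      · show l' * (ρ l * (y / l')) = ρ l * y
        field_simp
    set A : Fˣ := Units.map (ρ : F →* F) a with hA
    set L : Fˣ := Units.map (ρ : F →* F) l with hL
    have hAv : (A : F) = ρ a := rfl
    have hLv : (L : F) = ρ l := rfl
    obtain ⟨s, hs, hsK, hsU⟩ := o.cover_K (τ * (ρ l - ρ a) / l' / ρ l)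
    have hLne : ρ (l : F) ≠ 0 := by
      rw [← hLv]; exact L.ne_zero
    have hsg : s * g' ∈ h.Bo := mul_mem ⟨h.SV hs, h.S_le_C hs⟩ hgB
    have hV' : ∀ x y, s * g' * h.N.e ![x, y] * (s * g')⁻¹ = h.N.e ![A * x, L * y] := by
      intro x y
      have e2 : s * g' * h.N.e ![x, y] * (s * g')⁻¹ = s * (g' * h.N.e ![x, y] * g'⁻¹) * s⁻¹ := by group
      rw [e2, hV, hsU, hAv, hLv]
      congr 1
      apply ext2
      · show ρ a * x + τ * (ρ l - ρ a) / l' * y + τ * (ρ l - ρ a) / l' / ρ l * (ρ l * y) = ρ a * x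
        have e3 : τ * (ρ l - ρ a) / l' / ρ l * (ρ l * y) = τ * (ρ l - ρ a) / l' * y := by field_simp
        rw [e3, add_assoc, H.add_self, add_zero]
      · rfl
    obtain ⟨c, hc, m', k', t'⟩ := o.adjust hsg hV'
    obtain ⟨c', hc', y, hy, e2⟩ := hH.cover _ ⟨_, _, _, _, t'⟩
    refine ⟨s⁻¹ * c⁻¹ * c', mul_mem (mul_mem (inv_mem hs) (inv_mem (o.CV hc))) (o.CV hc'), y, hy, ?_⟩
    rw [mul_assoc (s⁻¹ * c⁻¹), ← e2]; group

/-! ### The amalgam -/

/-- the parabolic subgroups -/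
def PP (V Z : Subgroup G) : Bool → Subgroup G
  | false => normalizer (Z : Set G)
  | true => normalizer (V : Set G)

/-- `O₂(P i)` -/
def QQ (h : Sit F H S V Z W) : Bool → Subgroup G
  | false => (S : Subgroup G) ⊓ h.P.K
  | true => centralizer (V : Set G)

/-- the reflections -/
def nn (n₀ n₁ : G) : Bool → G
  | false => n₀
  | true => n₁

theorem odd_units (h : Sit F H S V Z W) : Odd (Nat.card Fˣ) := by
  have := h.finF
  rw [Nat.card_units, h.cardF]
  have h2 : Even (2 ^ (2 * h.mf + 1)) := ⟨2 ^ (2 * h.mf), by rw [pow_succ]; ring⟩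
  exact Nat.Even.sub_odd (Nat.one_le_two_pow) h2 odd_one

theorem one_lt_units (h : Sit F H S V Z W) : 1 < Nat.card Fˣ := by
  have := h.finF
  rw [Nat.card_units, h.cardF]
  have h1 := h.one_le
  have h2 : 2 ^ 3 ≤ 2 ^ (2 * h.mf + 1) := Nat.pow_le_pow_right (by norm_num) (by omega)
  omega

theorem nrm_of {P K : Subgroup G} [Finite G] (hK : ∀ p ∈ P, ∀ k ∈ K, p * k * p⁻¹ ∈ K) : P ≤ normalizer (K : Set G) := by
  intro p hp
  refine mem_normalizer_of_map_le ?_
  rintro _ ⟨k, hk, rfl⟩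
  exact hK p hp k hk

/-- **`Sit` gives `Oct`** -/
theorem oct [Finite F] [Finite G] (h : Sit F H S V Z W)
    (hC2 : ∀ v ∈ Z, v ≠ 1 → centralizer ({v} : Set G) ⊓ centralizer (o2 (centralizer ({v} : Set G)) : Set G) ≤
      o2 (centralizer ({v} : Set G)))
    {Hh : Subgroup G} (hH : Hall h Hh) {n₀ n₁ : G} (hn₁ : h.Sw n₁) (hn₁H : n₁ ∈ normalizer (Hh : Set G))
    (hn₀ : n₀ ∈ centralizer (Z : Set G)) (hn₀W : h.P.Ind n₀ (Cfsg.Agent.LieRecognition.SzMatrix.W F))
    (hn₀H : n₀ ∈ normalizer (Hh : Set G)) :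
    Oct (PP V Z) h.QQ (nn n₀ n₁) h.Bo S Hh Z W h.OO (e : ZMod (Nat.card Fˣ)) h.xw h.yw := by
  have o := h.out
  have hn₀C := h.cZ_le hn₀
  have hn₀V := h.w_notin hn₀C hn₀W
  have hn₁M := h.sw_mem hn₁
  have hn₁Z := h.sw_notin hn₁
  exact
  { inter := inf_comm _ _
    memP := by
      intro i g
      cases i
      · exact h.memP_false hn₀C hn₀V
      · exact h.memP_true hn₁M hn₁Z
    twoS := S.isPGroup'
    S_le := h.S_le_B
    S_nrm := o.nrm
    oddB := fun b hb => h.oddB hb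
    H_le := fun g hg => TT_le (hH.le hg)
    oddH := hH.odd
    split := fun b hb => Hall.split o hH hb
    n_norm := by
      intro i
      cases i
      · exact hn₀H
      · exact hn₁H
    n_not := by
      intro i
      cases i
      · exact fun hb => hn₀V hb.1
      · exact fun hb => hn₁Z hb.2
    Q_le := by
      intro i
      cases i
      · exact inf_le_left
      · exact o.CV
    Q_nrm := by
      intro i p hp a ha
      cases i
      · have h1 : p * a * p⁻¹ ∈ h.P.K := h.P.conj_mem_K hp ha.2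
        exact ⟨o.KZ ⟨h1, h.C_norm_cZ hp (h.SZ ha.1)⟩, h1⟩
      · exact h.conjC hp ha
    Q_max := by
      intro i s hs hB
      cases i
      · exact ⟨hs, h.Q_max_false hn₀C hn₀V hs hB.1⟩
      · exact h.Q_max_true hn₁M hn₁Z hs hB.2
    Q_ne := by
      intro i
      cases i
      · exact h.Q_ne_false
      · exact h.Q_ne_true
    cover := by
      intro s hs
      obtain ⟨a, ha, haK, hac⟩ := o.fac s hs
      exact ⟨a, ⟨ha, haK⟩, a⁻¹ * s, hac, by group⟩
    oddN := h.odd_units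
    one_lt := h.one_lt_units
    sq := e_sq H
    x_mul := hH.mul_x
    y_mul := hH.mul_y
    surj := hH.surj o
    inj := hH.inj'
    x₀ := fun g hg => (hH.x₀ o hn₀ hn₀W hn₀H g hg).1
    y₀ := fun g hg => (hH.x₀ o hn₀ hn₀W hn₀H g hg).2
    x₁ := fun g hg => (hH.x₁ hn₁ hn₁H g hg).1
    y₁ := fun g hg => (hH.x₁ hn₁ hn₁H g hg).2
    triv := by
      intro i g hg hfr s hs
      obtain ⟨a, l, m, k, t⟩ := hH.le hg
      cases i
      · rw [fr_false_iff o t] at hfr
        subst hfr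
        exact ⟨S.mul_mem (o.nrm g t.memB s hs) (inv_mem hs), t.triv_false hs⟩
      · rw [fr_true_iff t] at hfr
        subst hfr
        exact t.triv_true o hs
    free := by
      intro i g hg hfr s hs hc
      obtain ⟨a, l, m, k, t⟩ := hH.le hg
      cases i
      · rw [Ne, fr_false_iff o t] at hfr
        exact ⟨hs, t.free_false hfr hs hc.2⟩
      · rw [Ne, fr_true_iff t] at hfr
        exact t.free_true hfr hs hc
    Z_le := h.Z_le_W.trans (h.W_le_cen.trans o.CV)
    Z_cen := fun z hz s hs => (h.S_comm_Z hs hz).symm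
    Z_sq := fun z hz => h.sq z (h.Z_le_W hz)
    Z_pair := h.Z_pair
    Z_nrm := fun p hp z hz => h.conjZ hp hz
    Z_norm := fun g hg => h.Z_norm hg
    Z_x := by
      intro g hg hx z hz
      obtain ⟨a, l, m, k, t⟩ := hH.le hg
      rw [t.xw_eq, dl_eq_zero] at hx
      subst hx
      exact t.Z_x hz
    Z_two := fun v hv hv1 => h.Z_two hv (hC2 v hv hv1)
    W_nrm := fun p hp w hw => h.conjW hp hw
    W_cen := by
      intro i
      cases i
      · exact h.cenW_le_K
      · exact centralizer_le h.V_le_W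
    W_gen := h.W_gen hn₁ hn₀C hn₀W
    O_le := h.OO_le hn₁
    fixZ := by
      intro g hg s hs hc hne
      obtain ⟨a, l, m, k, t⟩ := hH.le hg
      rw [t.xw_eq, t.yw_eq] at hne
      exact h.fix_Z' hn₁ hs.2 (h.SZ hs.1) t hc fun hla => hne (by rw [hla])
    fixO := by
      intro g hg s hs hc hne
      obtain ⟨a, l, m, k, t⟩ := hH.le hg
      rw [t.xw_eq, t.yw_eq] at hne
      refine h.fix_O o hs.2 (h.SZ hs.1) t hc fun hla => hne ?_
      have h1 : thU θ a * thU θ l = a * (a * l) := Units.ext hla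
      have h2 := congrArg dl h1
      rw [dl_mul, dl_mul, dl_mul, dl_th H, dl_th H] at h2
      linear_combination h2
    omega := by
      intro s hs hss
      obtain ⟨z, hz, hzS, hzK⟩ := h.omega_four hn₁ hn₀C hn₀V hs hss.2
      exact ⟨z, hz, S.mul_mem (inv_mem hzS) hs, hzK⟩
    gen₀ := by
      intro p hp
      obtain ⟨c, hc, h1⟩ := h.gen_zero hn₁ hn₀C hn₀V p hp
      exact ⟨c, hc, h1.2, h1.1⟩
    gen₁ := by
      intro s hs
      obtain ⟨r, hr, hrS, hrK, hrc⟩ := h.gen_one hn₁ hn₀C hn₀V (fun g hg hgZ => o.KZ ⟨hg, hgZ⟩) hs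
      exact ⟨r, ⟨hr, hrS, hrK⟩, hrc⟩
    core := by
      intro K hK hP
      exact h.core (hK.trans inf_le_right) (nrm_of (hP true)) (nrm_of (hP false)) }

/-- **`Sit` gives `Oct`** -/
theorem exists_oct [Finite G] (h : Sit F H S V Z W)
    (hC2 : ∀ v ∈ Z, v ≠ 1 → centralizer ({v} : Set G) ⊓ centralizer (o2 (centralizer ({v} : Set G)) : Set G) ≤
      o2 (centralizer ({v} : Set G))) :
    ∃ (n : Bool → G) (Hh : Subgroup G) (N : ℕ) (t : ZMod N) (x y : G → ZMod N),
      Oct (PP V Z) h.QQ n h.Bo S Hh Z W h.OO t x y := by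
  have := h.finF
  obtain ⟨Hh, hH⟩ := h.out.exists_hall
  obtain ⟨n₁, hn₁, hn₁H⟩ := Hall.exists_n₁ h.out hH
  obtain ⟨n₀, hn₀, hn₀W, hn₀H⟩ := Hall.exists_n₀ h.out hH
  exact ⟨_, _, _, _, _, _, h.oct hC2 hH hn₁ hn₁H hn₀ hn₀W hn₀H⟩

end Sit

end Cfsg.Agent.Omega.TwoFFour
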