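import Cfsg.Agent.Omega.TwoFFour.SzNorm
import Cfsg.Agent.Omega.NatPair.Pair

/-!
# Natural `Sz(q)`-modules as sections of a group

`SzMod F H C W Z`: `W / Z` is identified with `F⁴` such that `C / C_C(W/Z)` has the normal subgroup `Sz F e`.

* `act g`: the action of `g ∈ C` on `F⁴`; `K`: the kernel;
* `exists_semi`, `two`, `exists_borel`, `exists_fix`: Lemma N, (m3'), (m3) for the elements of `C`;
* `Ad S`: a 2-group `S ≤ C` acts as `T = {U a b}`; `exists_ad`: for a Sylow subgroup of `G` in `C` there are adapted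
  coordinates.
-/

set_option autoImplicit false
set_option linter.unusedSectionVars false

namespace Cfsg.Agent.Omega.TwoFFour

open Subgroup Cfsg.Agent.LieRecognition.SzMatrix Cfsg.Agent.ThreePrime.SzRel
open Cfsg.Agent.Omega.NatPair (cj mem_cj)

variable {G : Type*} [Group G] {F : Type*} [Field F] {θ : F →+* F} {e : ℕ}

/-- `W / Z` is the natural module of a normal subgroup `Sz F e` of `C / C_C(W/Z)` -/
structure SzMod (H : Good F θ e) (C W Z : Subgroup G) where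
  f : G → (Fin 4 → F)
  f_mul : ∀ {x y : G}, x ∈ W → y ∈ W → f (x * y) = f x + f y
  f_surj : ∀ v, ∃ x ∈ W, f x = v
  f_ker : ∀ {x : G}, x ∈ W → (f x = 0 ↔ x ∈ Z)
  Z_le : Z ≤ W
  conjW : ∀ {g x : G}, g ∈ C → x ∈ W → g * x * g⁻¹ ∈ W
  conjZ : ∀ {g x : G}, g ∈ C → x ∈ Z → g * x * g⁻¹ ∈ Z
  lift : ∀ A ∈ Cfsg.Lie.Sz F e, ∃ g ∈ C, ∀ x ∈ W, f (g * x * g⁻¹) = mv A (f x)
  norm : ∀ g ∈ C, ∀ h ∈ C, ∀ A ∈ Cfsg.Lie.Sz F e, (∀ x ∈ W, f (h * x * h⁻¹) = mv A (f x)) →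
    ∃ B ∈ Cfsg.Lie.Sz F e, ∀ x ∈ W, f (g * h * g⁻¹ * x * (g * h * g⁻¹)⁻¹) = mv B (f x)

namespace SzMod

variable {H : Good F θ e} {C W Z : Subgroup G} (M : SzMod H C W Z)

theorem f_one : M.f 1 = 0 := (M.f_ker W.one_mem).2 Z.one_mem

theorem f_inv {x : G} (hx : x ∈ W) : M.f x⁻¹ = -M.f x := by
  have h := M.f_mul (inv_mem hx) hx
  rw [inv_mul_cancel, M.f_one] at h
  exact eq_neg_of_add_eq_zero_left h.symm

theorem f_eq_iff {x y : G} (hx : x ∈ W) (hy : y ∈ W) : M.f x = M.f y ↔ x⁻¹ * y ∈ Z := by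
  rw [← M.f_ker (mul_mem (inv_mem hx) hy), M.f_mul (inv_mem hx) hy, M.f_inv hx]
  constructor
  · intro h
    rw [h, neg_add_cancel]
  · intro h
    exact (neg_add_eq_zero.1 h)

/-- a preimage -/
noncomputable def r (v : Fin 4 → F) : G := (M.f_surj v).choose

theorem r_mem (v : Fin 4 → F) : M.r v ∈ W := (M.f_surj v).choose_spec.1

theorem f_r (v : Fin 4 → F) : M.f (M.r v) = v := (M.f_surj v).choose_spec.2

/-- the action on `F⁴` -/
noncomputable def act (g : G) (v : Fin 4 → F) : Fin 4 → F := M.f (g * M.r v * g⁻¹)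

theorem act_f {g x : G} (hg : g ∈ C) (hx : x ∈ W) : M.act g (M.f x) = M.f (g * x * g⁻¹) := by
  unfold act
  rw [M.f_eq_iff (M.conjW hg (M.r_mem _)) (M.conjW hg hx)]
  have h1 : (M.r (M.f x))⁻¹ * x ∈ Z := (M.f_eq_iff (M.r_mem _) hx).1 (M.f_r _)
  have h2 := M.conjZ hg h1
  have e : (g * M.r (M.f x) * g⁻¹)⁻¹ * (g * x * g⁻¹) = g * ((M.r (M.f x))⁻¹ * x) * g⁻¹ := by group
  rw [e]
  exact h2

theorem act_mul {g h : G} (hg : g ∈ C) (hh : h ∈ C) (v : Fin 4 → F) : M.act (g * h) v = M.act g (M.act h v) := by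
  obtain ⟨x, hx, rfl⟩ := M.f_surj v
  rw [M.act_f (mul_mem hg hh) hx, M.act_f hh hx, M.act_f hg (M.conjW hh hx)]
  congr 1
  group

theorem act_one (v : Fin 4 → F) : M.act 1 v = v := by
  obtain ⟨x, hx, rfl⟩ := M.f_surj v
  rw [M.act_f (one_mem _) hx]
  simp

theorem act_inv_act {g : G} (hg : g ∈ C) (v : Fin 4 → F) : M.act g⁻¹ (M.act g v) = v := by
  rw [← M.act_mul (inv_mem hg) hg, inv_mul_cancel, M.act_one]

theorem act_act_inv {g : G} (hg : g ∈ C) (v : Fin 4 → F) : M.act g (M.act g⁻¹ v) = v := by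
  rw [← M.act_mul hg (inv_mem hg), mul_inv_cancel, M.act_one]

theorem act_inj {g : G} (hg : g ∈ C) : Function.Injective (M.act g) := by
  intro v w h
  rw [← M.act_inv_act hg v, h, M.act_inv_act hg]

theorem act_add {g : G} (hg : g ∈ C) (v w : Fin 4 → F) : M.act g (v + w) = M.act g v + M.act g w := by
  obtain ⟨x, hx, rfl⟩ := M.f_surj v
  obtain ⟨y, hy, rfl⟩ := M.f_surj w
  rw [← M.f_mul hx hy, M.act_f hg (mul_mem hx hy), M.act_f hg hx, M.act_f hg hy,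
    ← M.f_mul (M.conjW hg hx) (M.conjW hg hy)]
  congr 1
  group

theorem act_zero {g : G} (hg : g ∈ C) : M.act g 0 = 0 := by
  have h := M.act_add hg 0 0
  rw [add_zero] at h
  exact left_eq_add.1 h

theorem act_neg {g : G} (hg : g ∈ C) (v : Fin 4 → F) : M.act g (-v) = -M.act g v := by
  have h := M.act_add hg (-v) v
  rw [neg_add_cancel, M.act_zero hg] at h
  exact eq_neg_of_add_eq_zero_left h.symm

theorem act_sub {g : G} (hg : g ∈ C) (v w : Fin 4 → F) : M.act g (v - w) = M.act g v - M.act g w := by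
  rw [sub_eq_add_neg, M.act_add hg, M.act_neg hg, ← sub_eq_add_neg]

theorem act_iterate {g : G} (hg : g ∈ C) (n : ℕ) (v : Fin 4 → F) : (M.act g)^[n] v = M.act (g ^ n) v := by
  induction n generalizing v with
  | zero => rw [pow_zero, M.act_one]; rfl
  | succ n ih =>
    rw [Function.iterate_succ_apply, ih, pow_succ, M.act_mul (pow_mem hg n) hg]

/-- `g` acts as `A` -/
def Ind (g : G) (A : GL (Fin 4) F) : Prop := ∀ v, M.act g v = mv A v

theorem ind_iff {g : G} (hg : g ∈ C) {A : GL (Fin 4) F} : M.Ind g A ↔ ∀ x ∈ W, M.f (g * x * g⁻¹) = mv A (M.f x) := by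
  constructor
  · intro h x hx
    rw [← M.act_f hg hx, h]
  · intro h v
    obtain ⟨x, hx, rfl⟩ := M.f_surj v
    rw [M.act_f hg hx, h x hx]

theorem exists_ind {A : GL (Fin 4) F} (hA : A ∈ Cfsg.Lie.Sz F e) : ∃ g ∈ C, M.Ind g A := by
  obtain ⟨g, hg, h⟩ := M.lift A hA
  exact ⟨g, hg, (M.ind_iff hg).2 h⟩

theorem Ind.mul {M : SzMod H C W Z} {g h : G} {A B : GL (Fin 4) F} (hg : g ∈ C) (hh : h ∈ C) (hA : M.Ind g A)
    (hB : M.Ind h B) : M.Ind (g * h) (A * B) := by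
  intro v
  rw [M.act_mul hg hh, hB, hA, mv_mul]

theorem Ind.inv {M : SzMod H C W Z} {g : G} {A : GL (Fin 4) F} (hg : g ∈ C) (hA : M.Ind g A) : M.Ind g⁻¹ A⁻¹ := by
  intro v
  apply M.act_inj hg
  rw [M.act_act_inv hg, hA, mv_mv_inv]

theorem Ind.unique {M : SzMod H C W Z} {g : G} {A B : GL (Fin 4) F} (hA : M.Ind g A) (hB : M.Ind g B) : A = B :=
  mv_inj fun v => by rw [← hA, hB]

theorem ind_one : M.Ind 1 1 := fun v => by rw [M.act_one, mv_one]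

/-- the elements of `C` normalise `Sz` -/
theorem nrm {g : G} (hg : g ∈ C) : Nrm H (M.act g) where
  add := M.act_add hg
  inj := M.act_inj hg
  nrm A hA := by
    obtain ⟨h, hh, hA'⟩ := M.exists_ind hA
    obtain ⟨B, hB, hB'⟩ := M.norm g hg h hh A hA ((M.ind_iff hh).1 hA')
    refine ⟨B, hB, fun v => ?_⟩
    have h1 : M.Ind (g * h * g⁻¹) B := (M.ind_iff (mul_mem (mul_mem hg hh) (inv_mem hg))).2 hB'
    rw [← hA', ← h1, ← M.act_mul hg hh, ← M.act_mul (mul_mem (mul_mem hg hh) (inv_mem hg)) hg]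
    congr 1
    group

/-- the kernel of the action -/
def K : Subgroup G where
  carrier := {g | g ∈ C ∧ ∀ v, M.act g v = v}
  mul_mem' := by
    rintro g h ⟨hg, hg'⟩ ⟨hh, hh'⟩
    exact ⟨mul_mem hg hh, fun v => by rw [M.act_mul hg hh, hh', hg']⟩
  one_mem' := ⟨one_mem _, M.act_one⟩
  inv_mem' := by
    rintro g ⟨hg, hg'⟩
    refine ⟨inv_mem hg, fun v => ?_⟩
    conv_lhs => rw [← hg' v]
    rw [M.act_inv_act hg]

theorem mem_K {g : G} : g ∈ M.K ↔ g ∈ C ∧ ∀ v, M.act g v = v := Iff.rfl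

theorem K_le : M.K ≤ C := fun _ h => h.1

theorem mem_K_iff {g : G} (hg : g ∈ C) : g ∈ M.K ↔ ∀ x ∈ W, g * x * g⁻¹ * x⁻¹ ∈ Z := by
  rw [mem_K]
  constructor
  · rintro ⟨-, h⟩ x hx
    have h1 := h (M.f x)
    rw [M.act_f hg hx, M.f_eq_iff (M.conjW hg hx) hx] at h1
    -- `(gxg⁻¹)⁻¹ x ∈ Z`
    have h2 := M.conjZ hg h1
    have h3 : g * x * g⁻¹ ∈ W := M.conjW hg hx
    have h4 : M.f (g * x * g⁻¹ * x⁻¹) = 0 := by
      rw [M.f_mul h3 (inv_mem hx), M.f_inv hx, ← M.act_f hg hx, h, add_neg_cancel]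
    exact (M.f_ker (mul_mem h3 (inv_mem hx))).1 h4
  · intro h
    refine ⟨hg, fun v => ?_⟩
    obtain ⟨x, hx, rfl⟩ := M.f_surj v
    rw [M.act_f hg hx]
    have h3 : g * x * g⁻¹ ∈ W := M.conjW hg hx
    have h4 := (M.f_ker (mul_mem h3 (inv_mem hx))).2 (h x hx)
    rw [M.f_mul h3 (inv_mem hx), M.f_inv hx] at h4
    exact add_neg_eq_zero.1 h4

theorem ind_one_iff {g : G} (hg : g ∈ C) : M.Ind g 1 ↔ g ∈ M.K := by
  rw [mem_K]
  constructor
  · intro h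
    exact ⟨hg, fun v => by rw [h, mv_one]⟩
  · rintro ⟨-, h⟩ v
    rw [h, mv_one]

theorem conj_mem_K {g k : G} (hg : g ∈ C) (hk : k ∈ M.K) : g * k * g⁻¹ ∈ M.K := by
  refine ⟨mul_mem (mul_mem hg hk.1) (inv_mem hg), fun v => ?_⟩
  rw [M.act_mul (mul_mem hg hk.1) (inv_mem hg), M.act_mul hg hk.1, hk.2, M.act_act_inv hg]

section finite

variable [Fintype F] {m : ℕ} (hm : 1 ≤ m) (hF : Fintype.card F = 2 ^ (2 * m + 1))
include hm hF

/-- **Lemma N** -/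
theorem exists_semi {g : G} (hg : g ∈ C) : ∃ mu : Fˣ, ∃ A ∈ Cfsg.Lie.Sz F e, ∃ σ : F ≃+* F,
    ∀ v, M.act g v = (mu : F) • mv A (fun i => σ (v i)) := (M.nrm hg).exists_semi hm hF

/-- 2-elements modulo `K` act as elements of `Sz` -/
theorem two {g : G} (hg : g ∈ C) {n : ℕ} (hn : g ^ 2 ^ n ∈ M.K) : ∃ A ∈ Cfsg.Lie.Sz F e, M.Ind g A := by
  refine (M.nrm hg).exists_of_two hm hF (n := n) fun v => ?_
  rw [M.act_iterate hg, hn.2]

/-- **(m3')** -/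
theorem exists_borel {g : G} (hg : g ∈ C) (h3 : M.act g (Pi.single 0 1) 3 = 0) :
    ∃ (mu : Fˣ) (a b : F) (k : Fˣ) (σ : F ≃+* F),
      ∀ v, M.act g v = (mu : F) • mv (H.U a b * H.D k) (fun i => σ (v i)) := (M.nrm hg).exists_borel hm hF h3

/-- **(m3)** -/
theorem exists_fix {g : G} (hg : g ∈ C) (h3 : ∀ c, M.act g (Pi.single 0 c) = Pi.single 0 c) :
    ∃ (mu : Fˣ) (a b : F) (k : Fˣ), mu * k = 1 ∧ ∀ v, M.act g v = (mu : F) • mv (H.U a b * H.D k) v :=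
  (M.nrm hg).exists_fix hm hF h3

end finite

/-- the elements of `C` acting as elements of `Sz` -/
def C0 : Subgroup G where
  carrier := {g | g ∈ C ∧ ∃ A ∈ Cfsg.Lie.Sz F e, M.Ind g A}
  mul_mem' := by
    rintro g h ⟨hg, A, hA, hA'⟩ ⟨hh, B, hB, hB'⟩
    exact ⟨mul_mem hg hh, A * B, mul_mem hA hB, hA'.mul hg hh hB'⟩
  one_mem' := ⟨one_mem _, 1, one_mem _, M.ind_one⟩
  inv_mem' := by
    rintro g ⟨hg, A, hA, hA'⟩
    exact ⟨inv_mem hg, A⁻¹, inv_mem hA, hA'.inv hg⟩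

theorem mem_C0 {g : G} : g ∈ M.C0 ↔ g ∈ C ∧ ∃ A ∈ Cfsg.Lie.Sz F e, M.Ind g A := Iff.rfl

/-- the projection to `Sz` -/
noncomputable def toSz : M.C0 →* ↥(Cfsg.Lie.Sz F e) where
  toFun g := ⟨g.2.2.choose, g.2.2.choose_spec.1⟩
  map_one' := Subtype.ext ((1 : M.C0).2.2.choose_spec.2.unique M.ind_one)
  map_mul' g h := Subtype.ext ((g * h).2.2.choose_spec.2.unique
    (g.2.2.choose_spec.2.mul g.2.1 h.2.1 h.2.2.choose_spec.2))

theorem toSz_ind (g : M.C0) : M.Ind g (M.toSz g).1 := g.2.2.choose_spec.2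

theorem toSz_eq {g : M.C0} {A : ↥(Cfsg.Lie.Sz F e)} (h : M.Ind g A.1) : M.toSz g = A :=
  Subtype.ext ((M.toSz_ind g).unique h)

theorem toSz_surj : Function.Surjective M.toSz := by
  intro A
  obtain ⟨g, hg, hA⟩ := M.exists_ind A.2
  exact ⟨⟨g, hg, A.1, A.2, hA⟩, M.toSz_eq hA⟩

/-- change of coordinates -/
def change (A : ↥(Cfsg.Lie.Sz F e)) : SzMod H C W Z where
  f x := mv A.1 (M.f x)
  f_mul hx hy := by rw [M.f_mul hx hy, mv_add]
  f_surj v := by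
    obtain ⟨x, hx, h⟩ := M.f_surj (mv A.1⁻¹ v)
    exact ⟨x, hx, by rw [h, mv_mv_inv]⟩
  f_ker := by
    intro x hx
    rw [← M.f_ker hx]
    constructor
    · intro h
      have h1 : mv A.1 (M.f x) = mv A.1 0 := by rw [h, mv_zero]
      exact mv_injective _ h1
    · intro h
      rw [h, mv_zero]
  Z_le := M.Z_le
  conjW := M.conjW
  conjZ := M.conjZ
  lift B hB := by
    obtain ⟨g, hg, h⟩ := M.lift (A.1⁻¹ * B * A.1) (mul_mem (mul_mem (inv_mem A.2) hB) A.2)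
    refine ⟨g, hg, fun x hx => ?_⟩
    rw [h x hx, mv_mul, mv_mul, mv_mv_inv]
  norm g hg h hh B hB hhB := by
    obtain ⟨B', hB', h2⟩ := M.norm g hg h hh (A.1⁻¹ * B * A.1) (mul_mem (mul_mem (inv_mem A.2) hB) A.2)
      (fun x hx => by
        have h1 := hhB x hx
        rw [mv_mul, mv_mul, ← h1, mv_inv_mv])
    refine ⟨A.1 * B' * A.1⁻¹, mul_mem (mul_mem A.2 hB') (inv_mem A.2), fun x hx => ?_⟩
    rw [h2 x hx, mv_mul, mv_mul, mv_inv_mv]

theorem change_f (A : ↥(Cfsg.Lie.Sz F e)) (x : G) : (M.change A).f x = mv A.1 (M.f x) := rfl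

theorem change_act (A : ↥(Cfsg.Lie.Sz F e)) {g : G} (hg : g ∈ C) (v : Fin 4 → F) :
    (M.change A).act g v = mv A.1 (M.act g (mv A.1⁻¹ v)) := by
  obtain ⟨x, hx, rfl⟩ := (M.change A).f_surj v
  rw [(M.change A).act_f hg hx, change_f, change_f, mv_inv_mv, M.act_f hg hx]

theorem change_ind (A : ↥(Cfsg.Lie.Sz F e)) {g : G} (hg : g ∈ C) {B : GL (Fin 4) F} (hB : M.Ind g B) :
    (M.change A).Ind g (A.1 * B * A.1⁻¹) := by
  intro v
  rw [M.change_act A hg, hB, mv_mul, mv_mul]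

theorem change_K (A : ↥(Cfsg.Lie.Sz F e)) : (M.change A).K = M.K := by
  ext g
  rw [mem_K, mem_K]
  constructor
  · rintro ⟨hg, h⟩
    refine ⟨hg, fun v => ?_⟩
    have h1 := h (mv A.1 v)
    rw [M.change_act A hg, mv_inv_mv] at h1
    exact mv_injective _ h1
  · rintro ⟨hg, h⟩
    refine ⟨hg, fun v => ?_⟩
    rw [M.change_act A hg, h, mv_mv_inv]

/-- the subgroup `S` acts as `T` -/
structure Ad (S : Subgroup G) : Prop where
  le : S ≤ C
  exists_U : ∀ s ∈ S, ∃ a b, M.Ind s (H.U a b)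
  surj : ∀ a b, ∃ s ∈ S, M.Ind s (H.U a b)

open scoped Pointwise in
/-- **Adapted coordinates** -/
theorem exists_ad [Finite G] [Fintype F] {m : ℕ} (hm : 1 ≤ m) (hF : Fintype.card F = 2 ^ (2 * m + 1))
    (S : Sylow 2 G) (hS : (S : Subgroup G) ≤ C) : ∃ M' : SzMod H C W Z, M'.Ad S ∧ M'.K = M.K := by
  classical
  have : Fact (Nat.Prime 2) := ⟨Nat.prime_two⟩
  have hS0 : (S : Subgroup G) ≤ M.C0 := by
    intro s hs
    refine ⟨hS hs, ?_⟩
    obtain ⟨n, hn⟩ := S.2 ⟨s, hs⟩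
    have hn' : s ^ 2 ^ n = 1 := congrArg Subtype.val hn
    exact M.two hm hF (hS hs) (n := n) (by rw [hn']; exact one_mem _)
  let S0 : Sylow 2 M.C0 := S.subtype hS0
  have hS0' : ∀ x : M.C0, x ∈ (S0 : Subgroup M.C0) ↔ (x : G) ∈ S := fun x => mem_subgroupOf
  let P1 : Sylow 2 ↥(Cfsg.Lie.Sz F e) := S0.mapSurjective M.toSz_surj
  have hP1 : (P1 : Subgroup ↥(Cfsg.Lie.Sz F e)) = (S0 : Subgroup M.C0).map M.toSz := rfl
  let R := ofGood H
  obtain ⟨P, hP⟩ := R.exists_sylow_eq hm hF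
  obtain ⟨A, hA⟩ := MulAction.exists_smul_eq ↥(Cfsg.Lie.Sz F e) P1 P
  have hconj : ∀ y, y ∈ (P1 : Subgroup ↥(Cfsg.Lie.Sz F e)) ↔ A * y * A⁻¹ ∈ R.T := by
    intro y
    rw [← hP, ← hA, Sylow.smul_def, Sylow.pointwise_smul_def, Subgroup.mem_pointwise_smul_iff_inv_smul_mem]
    have e1 : (MulAut.conj A)⁻¹ • (A * y * A⁻¹) = y := by
      rw [← map_inv, MulAut.smul_def, MulAut.conj_apply]
      group
    rw [e1]
  refine ⟨M.change A, ⟨hS, ?_, ?_⟩, M.change_K A⟩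
  · intro s hs
    have h1 : M.toSz ⟨s, hS0 hs⟩ ∈ (P1 : Subgroup ↥(Cfsg.Lie.Sz F e)) := by
      rw [hP1]
      exact mem_map_of_mem _ ((hS0' _).2 hs)
    obtain ⟨a, b, h2⟩ := (hconj _).1 h1
    refine ⟨a, b, ?_⟩
    have h3 := M.change_ind A (hS hs) (M.toSz_ind ⟨s, hS0 hs⟩)
    have h4 : A.1 * (M.toSz ⟨s, hS0 hs⟩).1 * A.1⁻¹ = H.U a b := congrArg Subtype.val h2
    rw [h4] at h3
    exact h3
  · intro a b
    have h1 : A⁻¹ * H.u a b * A ∈ (P1 : Subgroup ↥(Cfsg.Lie.Sz F e)) := by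
      rw [hconj]
      have e1 : A * (A⁻¹ * H.u a b * A) * A⁻¹ = H.u a b := by group
      rw [e1]
      exact R.u_mem a b
    rw [hP1] at h1
    obtain ⟨s, hs, h2⟩ := h1
    refine ⟨s, (hS0' _).1 hs, ?_⟩
    have h3 := M.change_ind A s.2.1 (M.toSz_ind s)
    rw [h2] at h3
    have e1 : A.1 * (A⁻¹ * H.u a b * A).1 * A.1⁻¹ = H.U a b := by
      show A.1 * (A.1⁻¹ * H.U a b * A.1) * A.1⁻¹ = _
      group
    rw [e1] at h3
    exact h3

end SzMod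

end Cfsg.Agent.Omega.TwoFFour
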