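import Cfsg.Agent.Omega.TwoFFour.Syl
import Cfsg.Agent.Omega.TwoFFour.SzMod
import Cfsg.Agent.Omega.NatPair.Mod

/-!
# THEOREM 2F4 (helper279, #12906), the situation

`Sit F H S V Z W` : the hypotheses (V), (W), (n = 1) of the theorem, in adapted coordinates:
`N : NatMod F V`, `Z` the line of `e₀` in `V`; `P : SzMod F H (N(Z)) W Z`, `V / Z` the line of `e₀` in `W / Z`.

* `Sw n` : `n` interchanges the two coordinates of `V`; `Up s a` : `s` acts on `V` as the transvection `up a`;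
* `exists_up`, `exists_of_up` : `S` acts on `V` as the group of all `up a`;
* `decomp` : every `g ∈ N(V)` lies in `B` or in `S n B`, `B = N(V) ⊓ N(Z)`.
-/

set_option autoImplicit false
set_option linter.unusedSectionVars false

namespace Cfsg.Agent.Omega.TwoFFour

open Subgroup Matrix
open Cfsg.Agent.ZN Cfsg.Agent.MinSimple.VModule Cfsg.Agent.Lib.SL2Mat
open Cfsg.Agent.LieRecognition.SzMatrix (Good)
open Cfsg.Agent.Omega.NatPair (NatMod ap ext2)

variable {G : Type*} [Group G]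

/-- The hypotheses (V), (W), (n = 1) of THEOREM 2F4. -/
structure Sit (F : Type*) [Field F] {θ : F →+* F} {e : ℕ} (H : Good F θ e) (S : Sylow 2 G) (V Z W : Subgroup G) where
  N : NatMod F V
  P : SzMod H (normalizer (Z : Set G)) W Z
  mf : ℕ
  cardF : Nat.card F = 2 ^ (2 * mf + 1)
  one_le : 1 ≤ mf
  memZ : ∀ g, g ∈ Z ↔ ∃ c, N.e ![c, 0] = g
  SV : (S : Subgroup G) ≤ normalizer (V : Set G)
  SZ : (S : Subgroup G) ≤ centralizer (Z : Set G)
  memV : ∀ g, g ∈ V ↔ g ∈ W ∧ ∃ c, P.f g = ![c, 0, 0, 0]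
  ab : ∀ x ∈ W, ∀ y ∈ W, x * y = y * x
  sq : ∀ x ∈ W, x * x = 1
  Ad : P.Ad (S : Subgroup G)
  char2 : normalizer (Z : Set G) ⊓ centralizer (o2 (normalizer (Z : Set G)) : Set G) ≤ o2 (normalizer (Z : Set G))
  nonloc : ∀ R ≤ normalizer (Z : Set G), IsPGroup 2 R → normalizer (V : Set G) ≤ normalizer (R : Set G) →
    normalizer (Z : Set G) ≤ normalizer (R : Set G) → R = ⊥
  ne : ∃ m ∈ normalizer (V : Set G), ∃ x ∈ W, ∃ y ∈ W, x * (m * y * m⁻¹) ≠ m * y * m⁻¹ * x

namespace Sit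

variable {F : Type*} [Field F] {θ : F →+* F} {e : ℕ} {H : Good F θ e} {S : Sylow 2 G} {V Z W : Subgroup G}
variable (h : Sit F H S V Z W)

/-- `n` interchanges the coordinates of `V` -/
def Sw (n : G) : Prop := ∀ x y, n * h.N.e ![x, y] * n⁻¹ = h.N.e ![y, x]

/-- `s` acts on `V` as the transvection `up a` -/
def Up (s : G) (a : F) : Prop := ∀ x y, s * h.N.e ![x, y] * s⁻¹ = h.N.e ![x + a * y, y]

include h

theorem char_two : CharP F 2 := by
  have h1 := H.two
  exact CharTwo.of_one_ne_zero_of_two_eq_zero one_ne_zero h1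

theorem finF : Finite F := by
  refine Nat.finite_of_card_ne_zero ?_
  rw [h.cardF]
  positivity

theorem conj_mem_iff {X : Subgroup G} {g x : G} (hg : g ∈ normalizer (X : Set G)) : g * x * g⁻¹ ∈ X ↔ x ∈ X :=
  (mem_normalizer_iff.1 hg x).symm

theorem conjZ {g z : G} (hg : g ∈ normalizer (Z : Set G)) (hz : z ∈ Z) : g * z * g⁻¹ ∈ Z :=
  (mem_normalizer_iff.1 hg z).1 hz

theorem conjV {g z : G} (hg : g ∈ normalizer (V : Set G)) (hz : z ∈ V) : g * z * g⁻¹ ∈ V :=
  (mem_normalizer_iff.1 hg z).1 hz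

theorem e_surj {g : G} (hg : g ∈ V) : ∃ x y, h.N.e ![x, y] = g := by
  obtain ⟨v, hv⟩ := (h.N.mem_iff g).1 hg
  refine ⟨v 0, v 1, ?_⟩
  rw [← hv]
  congr 1
  exact ext2 rfl rfl

theorem e_mem (x y : F) : h.N.e ![x, y] ∈ V := h.N.e_mem _

theorem e_mul (x y x' y' : F) : h.N.e ![x, y] * h.N.e ![x', y'] = h.N.e ![x + x', y + y'] := by
  rw [← h.N.e_add]
  congr 1
  exact ext2 rfl rfl

theorem e_inj {x y x' y' : F} (hh : h.N.e ![x, y] = h.N.e ![x', y']) : x = x' ∧ y = y' := by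
  have h1 := h.N.e_inj hh
  exact ⟨congrFun h1 0, congrFun h1 1⟩

theorem e_zero : h.N.e ![0, 0] = 1 := by
  rw [← h.N.e_zero]
  congr 1
  exact ext2 rfl rfl

theorem e_memZ (x y : F) : h.N.e ![x, y] ∈ Z ↔ y = 0 := by
  rw [h.memZ]
  constructor
  · rintro ⟨c, hc⟩
    exact (h.e_inj hc).2.symm
  · rintro rfl
    exact ⟨x, rfl⟩

theorem Z_le_V : Z ≤ V := by
  intro g hg
  obtain ⟨c, rfl⟩ := (h.memZ g).1 hg
  exact h.e_mem _ _

theorem V_le_W : V ≤ W := fun g hg => ((h.memV g).1 hg).1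

theorem Z_le_W : Z ≤ W := h.Z_le_V.trans h.V_le_W

theorem W_le_cen : W ≤ centralizer (V : Set G) := by
  intro x hx
  rw [mem_centralizer_iff]
  intro y hy
  exact h.ab y (h.V_le_W hy) x hx

theorem cen_le_M : centralizer (V : Set G) ≤ normalizer (V : Set G) := centralizer_le_normalizer _

theorem cen_le_cenZ : centralizer (V : Set G) ≤ centralizer (Z : Set G) := centralizer_le h.Z_le_V

theorem cen_le_C : centralizer (V : Set G) ≤ normalizer (Z : Set G) :=
  h.cen_le_cenZ.trans (centralizer_le_normalizer _)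

theorem S_le_C : (S : Subgroup G) ≤ normalizer (Z : Set G) := h.SZ.trans (centralizer_le_normalizer _)

theorem W_le_C : W ≤ normalizer (Z : Set G) := h.W_le_cen.trans h.cen_le_C

theorem W_le_M : W ≤ normalizer (V : Set G) := h.W_le_cen.trans h.cen_le_M

theorem cen_comm {c v : G} (hc : c ∈ centralizer (V : Set G)) (hv : v ∈ V) : c * v = v * c :=
  (mem_centralizer_iff.1 hc v hv).symm

theorem M_normC : normalizer (V : Set G) ≤ normalizer ((centralizer (V : Set G) : Subgroup G) : Set G) := by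
  have key : ∀ g ∈ normalizer (V : Set G), ∀ x ∈ centralizer (V : Set G), g * x * g⁻¹ ∈ centralizer (V : Set G) := by
    intro g hg x hx
    rw [mem_centralizer_iff] at hx ⊢
    intro v hv
    have h1 := hx _ (h.conjV (inv_mem hg) hv)
    rw [inv_inv] at h1
    calc v * (g * x * g⁻¹) = g * ((g⁻¹ * v * g) * x) * g⁻¹ := by group
      _ = g * (x * (g⁻¹ * v * g)) * g⁻¹ := by rw [h1]
      _ = g * x * g⁻¹ * v := by group
  intro g hg
  rw [mem_normalizer_iff]
  refine fun x => ⟨key g hg x, fun hx => ?_⟩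
  have := key g⁻¹ (inv_mem hg) _ hx
  have e : g⁻¹ * (g * x * g⁻¹) * g⁻¹⁻¹ = x := by group
  rwa [e] at this

theorem conjC {g c : G} (hg : g ∈ normalizer (V : Set G)) (hc : c ∈ centralizer (V : Set G)) :
    g * c * g⁻¹ ∈ centralizer (V : Set G) := (mem_normalizer_iff.1 (h.M_normC hg) c).1 hc

theorem mem_cen_of_e {c : G} (hc : ∀ x y, c * h.N.e ![x, y] * c⁻¹ = h.N.e ![x, y]) : c ∈ centralizer (V : Set G) := by
  rw [mem_centralizer_iff]
  intro v hv
  obtain ⟨x, y, rfl⟩ := h.e_surj hv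
  exact (mul_inv_eq_iff_eq_mul.1 (hc x y)).symm

theorem e_of_mem_cen {c : G} (hc : c ∈ centralizer (V : Set G)) (x y : F) :
    c * h.N.e ![x, y] * c⁻¹ = h.N.e ![x, y] := by
  rw [h.cen_comm hc (h.e_mem x y), mul_inv_cancel_right]

/-! ### The element `n` -/

theorem exists_sw : ∃ n, h.Sw n := by
  obtain ⟨n, hn⟩ := h.N.lift (wm 1 one_ne_zero)
  refine ⟨n, fun x y => ?_⟩
  rw [hn]
  congr 1
  have := H.neg_eq x
  apply ext2
  · simp [ap]
  · simp [ap, this]

theorem mem_M_of {n : G} {φ : F → F → Fin 2 → F} (hn : ∀ x y, n * h.N.e ![x, y] * n⁻¹ = h.N.e (φ x y)) [Finite G] :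
    n ∈ normalizer (V : Set G) := by
  refine mem_normalizer_of_map_le ?_
  rintro _ ⟨v, hv, rfl⟩
  obtain ⟨x, y, rfl⟩ := h.e_surj hv
  have : (MulAut.conj n).toMonoidHom (h.N.e ![x, y]) = n * h.N.e ![x, y] * n⁻¹ := rfl
  rw [this, hn]
  exact h.N.e_mem _

theorem mem_C_of [Finite G] {n : G} (hn : ∀ c, n * h.N.e ![c, 0] * n⁻¹ ∈ Z) : n ∈ normalizer (Z : Set G) := by
  refine mem_normalizer_of_map_le ?_
  rintro _ ⟨v, hv, rfl⟩
  obtain ⟨c, rfl⟩ := (h.memZ v).1 hv
  exact hn c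

variable {n : G} (hn : h.Sw n)
include hn

theorem sw_inv : h.Sw n⁻¹ := by
  intro x y
  rw [← hn y x]; group

theorem sw_mem [Finite G] : n ∈ normalizer (V : Set G) := h.mem_M_of hn

theorem sw_sq : n * n ∈ centralizer (V : Set G) := by
  apply h.mem_cen_of_e
  intro x y
  have : n * n * h.N.e ![x, y] * (n * n)⁻¹ = n * (n * h.N.e ![x, y] * n⁻¹) * n⁻¹ := by group
  rw [this, hn, hn]

theorem sw_notin : n ∉ normalizer (Z : Set G) := by
  intro hc
  have h1 := h.conjZ hc ((h.e_memZ 1 0).2 rfl)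
  rw [hn, h.e_memZ] at h1
  exact one_ne_zero h1

omit hn

/-! ### `S` on `V` -/

theorem up_mul {s t : G} {a b : F} (hs : h.Up s a) (ht : h.Up t b) : h.Up (s * t) (a + b) := by
  intro x y
  have : s * t * h.N.e ![x, y] * (s * t)⁻¹ = s * (t * h.N.e ![x, y] * t⁻¹) * s⁻¹ := by group
  rw [this, ht, hs]
  congr 2
  ring

theorem up_inv {s : G} {a : F} (hs : h.Up s a) : h.Up s⁻¹ a := by
  intro x y
  have h1 := hs (x + a * y) y
  have h2 : x + a * y + a * y = x := by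
    have := H.add_self (a * y)
    linear_combination this
  rw [h2] at h1
  rw [← h1]; group

theorem up_one : h.Up 1 0 := by
  intro x y
  simp

theorem up_cen {c : G} (hc : c ∈ centralizer (V : Set G)) : h.Up c 0 := by
  intro x y
  rw [h.e_of_mem_cen hc, zero_mul, add_zero]

theorem cen_of_up {c : G} (hc : h.Up c 0) : c ∈ centralizer (V : Set G) := by
  apply h.mem_cen_of_e
  intro x y
  rw [hc, zero_mul, add_zero]

theorem up_inj {s : G} {a b : F} (ha : h.Up s a) (hb : h.Up s b) : a = b := by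
  have h1 := ha 0 1
  rw [hb 0 1] at h1
  have h2 := (h.e_inj h1).1
  rw [zero_add, zero_add, mul_one, mul_one] at h2
  exact h2.symm

theorem up_mem_M [Finite G] {s : G} {a : F} (hs : h.Up s a) : s ∈ normalizer (V : Set G) := h.mem_M_of hs

theorem up_cenZ {s : G} {a : F} (hs : h.Up s a) : s ∈ centralizer (Z : Set G) := by
  rw [mem_centralizer_iff]
  intro z hz
  obtain ⟨c, rfl⟩ := (h.memZ z).1 hz
  have := hs c 0
  rw [mul_zero, add_zero] at this
  exact (mul_inv_eq_iff_eq_mul.1 this).symm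

theorem up_mem_C {s : G} {a : F} (hs : h.Up s a) : s ∈ normalizer (Z : Set G) :=
  centralizer_le_normalizer _ (h.up_cenZ hs)

theorem odd_aut : Odd (Nat.card (F ≃+* F)) := by
  have := h.finF
  have : Fintype F := Fintype.ofFinite F
  have h1 := Lib.FieldAutCard.card_ringAut (F := F) (p := 2) (f := 2 * h.mf + 1) (by omega)
    (by rw [← Nat.card_eq_fintype_card, h.cardF])
  rw [h1]
  exact ⟨h.mf, rfl⟩

/-- `S` acts on `V` by transvections with centre `Z` -/
theorem exists_up [Finite G] {s : G} (hs : s ∈ S) : ∃ a, h.Up s a := by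
  have := h.finF
  have := h.char_two
  have hsM := h.SV hs
  have hsZ : ∀ c, s * h.N.e ![c, 0] = h.N.e ![c, 0] * s := fun c =>
    (mem_centralizer_iff.1 (h.SZ hs) _ ((h.e_memZ c 0).2 rfl)).symm
  -- the field automorphism is trivial
  have hlin : h.N.sg ⟨s, hsM⟩ = 1 := by
    have h1 : (h.N.sgHom ⟨s, hsM⟩) = 1 := by
      obtain ⟨k, hk⟩ := S.isPGroup' ⟨s, hs⟩
      have hk' : s ^ 2 ^ k = 1 := congrArg Subtype.val hk
      have h2 : orderOf (h.N.sgHom ⟨s, hsM⟩) ∣ 2 ^ k := by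
        rw [orderOf_dvd_iff_pow_eq_one, ← map_pow]
        have : (⟨s, hsM⟩ : normalizer (V : Set G)) ^ 2 ^ k = 1 := Subtype.ext hk'
        rw [this, map_one]
      have h3 : orderOf (h.N.sgHom ⟨s, hsM⟩) ∣ Nat.card (F ≃+* F) := orderOf_dvd_natCard _
      have h4 : Nat.Coprime (2 ^ k) (Nat.card (F ≃+* F)) :=
        Nat.Coprime.pow_left k (Nat.coprime_two_left.2 h.odd_aut)
      exact orderOf_eq_one_iff.1 (Nat.eq_one_of_dvd_coprimes h4 h2 h3)
    exact h1
  have hsm : ∀ (c : F) x, h.N.act s (c • x) = c • h.N.act s x := by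
    intro c x
    have := h.N.sg_spec ⟨s, hsM⟩ c x
    rw [hlin] at this
    exact this
  have h0 : h.N.act s ![1, 0] = ![1, 0] := (h.N.commute_e hsM).1 (hsZ 1)
  set v := h.N.act s ![0, 1] with hv
  have hform : ∀ x y, h.N.act s ![x, y] = ![x + v 0 * y, v 1 * y] := by
    intro x y
    have e1 : (![x, y] : Fin 2 → F) = x • ![1, 0] + y • ![0, 1] := by apply ext2 <;> simp
    rw [e1, h.N.act_add hsM, hsm, hsm, h0, ← hv]
    apply ext2
    · simp [mul_comm]
    · simp [mul_comm]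
  -- the second eigenvalue is 1
  have hpow : ∀ k : ℕ, ∃ t, h.N.act (s ^ k) ![0, 1] = ![t, v 1 ^ k] := by
    intro k
    induction k with
    | zero => exact ⟨0, by rw [pow_zero, h.N.act_one, pow_zero]⟩
    | succ k ih =>
      obtain ⟨t, ht⟩ := ih
      refine ⟨t + v 0 * v 1 ^ k, ?_⟩
      rw [pow_succ', h.N.act_mul hsM (pow_mem hsM k), ht, hform, pow_succ']
  have hv1 : v 1 = 1 := by
    obtain ⟨k, hk⟩ := S.isPGroup' ⟨s, hs⟩
    have hk' : s ^ 2 ^ k = 1 := congrArg Subtype.val hk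
    obtain ⟨t, ht⟩ := hpow (2 ^ k)
    rw [hk', h.N.act_one] at ht
    have h5 : v 1 ^ 2 ^ k = 1 := (congrFun ht 1).symm
    have h6 : (v 1 - 1) ^ 2 ^ k = 0 := by
      rw [sub_pow_char_pow, h5, one_pow, sub_self]
    exact sub_eq_zero.1 (pow_eq_zero_iff (by positivity) |>.1 h6)
  refine ⟨v 0, fun x y => ?_⟩
  rw [← h.N.e_act hsM, hform, hv1, one_mul]

/-- the transvections in `N(V)` -/
def upGrp : Subgroup G where
  carrier := {g | ∃ a, h.Up g a}
  mul_mem' := by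
    rintro s t ⟨a, ha⟩ ⟨b, hb⟩
    exact ⟨_, h.up_mul ha hb⟩
  one_mem' := ⟨0, h.up_one⟩
  inv_mem' := by
    rintro s ⟨a, ha⟩
    exact ⟨a, h.up_inv ha⟩

theorem mem_upGrp {g : G} : g ∈ h.upGrp ↔ ∃ a, h.Up g a := Iff.rfl

theorem S_le_upGrp [Finite G] : (S : Subgroup G) ≤ h.upGrp := fun _ hs => h.exists_up hs

theorem cen_le_upGrp : centralizer (V : Set G) ≤ h.upGrp := fun _ hc => ⟨0, h.up_cen hc⟩

theorem upGrp_le_M [Finite G] : h.upGrp ≤ normalizer (V : Set G) := fun _ ⟨_, ha⟩ => h.up_mem_M ha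

theorem upGrp_sq {g : G} (hg : g ∈ h.upGrp) : g ^ 2 ^ 1 ∈ centralizer (V : Set G) := by
  obtain ⟨a, ha⟩ := hg
  apply h.cen_of_up
  have h1 := h.up_mul ha ha
  rw [H.add_self] at h1
  rwa [pow_one, pow_two]

/-- every transvection is induced by an element of a Sylow 2-subgroup -/
theorem exists_of_up' [Finite G] {Q L : Subgroup G} (hQ : Syl2 Q L) (hL : L ≤ h.upGrp) {g : G}
    (hg : g ∈ L) {a : F} (ha : h.Up g a) : ∃ s ∈ Q, h.Up s a ∧ s⁻¹ * g ∈ centralizer (V : Set G) := by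
  have h1 : L ≤ normalizer ((centralizer (V : Set G) ⊓ L : Subgroup G) : Set G) := by
    intro x hx
    have h2 := h.M_normC (h.upGrp_le_M (hL hx))
    have h3 := le_normalizer (H := L) hx
    rw [mem_normalizer_iff] at h2 h3 ⊢
    intro y
    rw [mem_inf, mem_inf, h2 y, h3 y]
  obtain ⟨s, hs, hsc⟩ := hQ.cover (K := centralizer (V : Set G) ⊓ L) inf_le_right h1
    (fun g hg => ⟨1, h.upGrp_sq (hL hg), L.pow_mem hg _⟩) hg
  refine ⟨s, hs, ?_, hsc.1⟩
  have h4 := h.up_mul ha (h.up_inv (h.up_cen hsc.1))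
  have : g * (s⁻¹ * g)⁻¹ = s := by group
  rwa [this, add_zero] at h4

theorem exists_of_up [Finite G] (a : F) : ∃ s ∈ S, h.Up s a := by
  obtain ⟨g, hg⟩ := h.N.lift (up a)
  have hga : h.Up g a := by
    intro x y
    rw [hg]
    congr 1
    apply ext2 <;> simp [ap]
  obtain ⟨s, hs, hsa, -⟩ := h.exists_of_up' (Syl2.of_sylow S h.S_le_upGrp) le_rfl ⟨a, hga⟩ hga
  exact ⟨s, hs, hsa⟩

/-! ### The decomposition `N(V) = B ∪ S n B` -/

theorem decomp [Finite G] (hn : h.Sw n) {g : G} (hg : g ∈ normalizer (V : Set G)) (hgC : g ∉ normalizer (Z : Set G)) :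
    ∃ s ∈ S, ∃ b ∈ normalizer (V : Set G) ⊓ normalizer (Z : Set G), g = s * n * b := by
  have := h.finF
  have := h.char_two
  set σ := h.N.sg ⟨g, hg⟩ with hσ
  have hsm : ∀ c : F, h.N.act g ![c, 0] = σ c • h.N.act g ![1, 0] := by
    intro c
    have := h.N.sg_spec ⟨g, hg⟩ c ![1, 0]
    rw [← hσ] at this
    rw [← this]
    congr 1
    apply ext2 <;> simp
  set v := h.N.act g ![1, 0] with hv
  have hge : ∀ c, g * h.N.e ![c, 0] * g⁻¹ = h.N.e ![σ c * v 0, σ c * v 1] := by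
    intro c
    rw [← h.N.e_act hg, hsm]
    congr 1
    apply ext2 <;> simp
  have hv1 : v 1 ≠ 0 := by
    intro h1
    apply hgC
    apply h.mem_C_of
    intro c
    rw [hge, h.e_memZ, h1, mul_zero]
  obtain ⟨s, hs, hsu⟩ := h.exists_of_up (v 0 / v 1)
  refine ⟨s, hs, (s * n)⁻¹ * g, ⟨?_, ?_⟩, by group⟩
  · exact Subgroup.mul_mem _ (Subgroup.inv_mem _ (Subgroup.mul_mem _ (h.SV hs) (h.sw_mem hn))) hg
  · apply h.mem_C_of
    intro c
    have e1 : (s * n)⁻¹ * g * h.N.e ![c, 0] * ((s * n)⁻¹ * g)⁻¹ =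
        n⁻¹ * (s⁻¹ * (g * h.N.e ![c, 0] * g⁻¹) * s) * n := by group
    have e2 : s⁻¹ * (h.N.e ![σ c * v 0, σ c * v 1]) * s = h.N.e ![0, σ c * v 1] := by
      have h3 := hsu 0 (σ c * v 1)
      have h4 : (0 : F) + v 0 / v 1 * (σ c * v 1) = σ c * v 0 := by
        field_simp
        ring
      rw [h4] at h3
      rw [← h3]; group
    have e3 : n⁻¹ * h.N.e ![0, σ c * v 1] * n = h.N.e ![σ c * v 1, 0] := by
      have := h.sw_inv hn 0 (σ c * v 1)
      rwa [inv_inv] at this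
    rw [e1, hge, e2, e3, h.e_memZ]

end Sit

end Cfsg.Agent.Omega.TwoFFour
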