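import Cfsg.Agent.Omega.TwoFFour.SitOf
import Cfsg.Agent.Omega.NatPair.Norm
import Cfsg.Agent.Omega.NO3S.Basic

/-!
# THEOREM 2F4: the situation `Sit` from the data of NO-3S

`exists_sit` : `Hyp S P`, `V_P` natural, `|Z| = q`, critical distance 1 (points = conjugates of `Z`), `W / Z` natural for
`Sz(q)` ⟹ `Sit F H S V Z W`.
-/

set_option autoImplicit false
set_option linter.unusedSectionVars false

namespace Cfsg.Agent.Omega.TwoFFour

open Subgroup Cfsg Cfsg.Agent.ZN Cfsg.Agent.Omega.MinPar Cfsg.Agent.Omega.Frame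
open Cfsg.Agent.Omega.NoFF.Lines Cfsg.Agent.Omega.NO3S
open Cfsg.Agent.Omega.NatPair (NatMod PreMod ap)
open Cfsg.Agent.MinSimple.VModule
open Cfsg.Agent.LieRecognition.SzMatrix (Good)
open scoped Pointwise

universe u

variable {G : Type u} [Group G] [Finite G] {S : Sylow 2 G} {P : Subgroup G}

/-- `V_P` is natural for `N_G(V_P)` -/
theorem exists_natMod (h : Hyp S P) {F : Type} [Field F] [Finite F] [CharP F 2] (hF : 4 ≤ Nat.card F)
    (M : NatP F (zl (S : Subgroup G) P) P) (hZ : Nat.card (zc (S : Subgroup G)) = Nat.card F) :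
    ∃ N : NatMod F (zl (S : Subgroup G) P), N.e = M.e := by
  let M' : PreMod F (zl (S : Subgroup G) P) :=
    { e := M.e, e_add := M.e_add, e_inj := M.e_inj, mem_iff := M.mem_iff
      lift := fun A => (M.lift A).imp fun g hg => hg.2 }
  have hSP : (S : Subgroup G) ≤ P := h.star.isLoc.le
  have hSV : (S : Subgroup G) ≤ normalizer (zl (S : Subgroup G) P : Set G) := hSP.trans (le_normalizer_zl _ _)
  rcases M'.dich S hSV (fun s hs k A hA => M.norm s (hSP hs) k A hA) with h1 | h1
  · exact ⟨PreMod.toNatMod _ h1, rfl⟩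
  · exfalso
    obtain ⟨w, -, -, -, h2⟩ := h1.point
    have h3 : zc (S : Subgroup G) ≤ zl (S : Subgroup G) P ⊓ centralizer ((S : Subgroup G) : Set G) := by
      refine le_inf zc_le_zl' fun z hz => ?_
      rw [mem_centralizer_iff]
      intro s hs
      exact ((mem_zc.1 hz).2.1 s hs)
    have h4 := Nat.card_le_card_of_injective _ (inclusion_injective h3)
    rw [hZ, h2] at h4
    omega

/-- **`Sit` from the data of NO-3S.** -/
theorem exists_sit (h : Hyp S P) {F' : Type} [Field F'] [Finite F'] [CharP F' 2] (hF' : 4 ≤ Nat.card F')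
    (M : NatP F' (zl (S : Subgroup G) P) P) (hZ : Nat.card (zc (S : Subgroup G)) = Nat.card F') {y : G}
    (hc : CritN (S : Subgroup G) P 1 1 y) {F : Type*} [Field F] {θ : F →+* F} {e : ℕ} {H : Good F θ e} {m : ℕ}
    (hm : 1 ≤ m) (hF : Nat.card F = 2 ^ (2 * m + 1)) (hFF : Nat.card F' = Nat.card F)
    (M' : SzMod H (normalizer (zc (S : Subgroup G) : Set G)) (WN (S : Subgroup G) P) (zc (S : Subgroup G))) :
    ∃ h' : Sit F H S (zl (S : Subgroup G) P) (zc (S : Subgroup G)) (WN (S : Subgroup G) P), h'.P.K = M'.K := by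
  obtain ⟨N, -⟩ := exists_natMod h hF' M hZ
  have hSP : (S : Subgroup G) ≤ P := h.star.isLoc.le
  have hPV : P ≤ normalizer (zl (S : Subgroup G) P : Set G) := le_normalizer_zl _ _
  have hVW : zl (S : Subgroup G) P ≤ WN (S : Subgroup G) P := zl_le_WW.trans WW_le_WN
  refine Sit.exists_of hm hF hFF S N zc_le_zl' (hZ.trans hFF) (hSP.trans hPV) (le_centralizer_zc _) M' hVW
    ?_ ?_ ?_ ?_ ?_
  · intro x hx y hy
    exact (mem_centralizer_iff.1 (h.WN_comm hx) y hy).symm
  · intro x hx
    rw [← pow_two]
    exact h.WN_sq x hx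
  · exact (isLoc_normalizer_zc S h.ne).char2 S h.ctx.char2
  · intro R _ hR2 hR1 hR3
    exact h.nonLoc R hR2 (hPV.trans hR1) ((centralizer_le_normalizer _).trans hR3)
  · -- the critical pair
    by_contra hcon
    push Not at hcon
    apply hc.ne
    have key : ∀ {a b : G}, Path (normalizer (zc (S : Subgroup G) : Set G)) {P} 1 a b →
        Com (zc (S : Subgroup G)) (normalizer (zc (S : Subgroup G) : Set G)) {P} a b := by
      intro a b hab
      cases hab with
      | step hg hP hp hc' =>
        cases hg with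
        | zero _ hc'' =>
          rename_i p c' Q c''
          rw [Set.mem_singleton_iff.1 hP] at hp
          have h1 : Com (zc (S : Subgroup G)) (normalizer (zc (S : Subgroup G) : Set G)) {P} 1 p := by
            unfold Com
            rw [map_one, one_smul]
            intro x hx
            rw [mem_centralizer_iff]
            intro y hy
            have hy' : p⁻¹ * y * p ∈ WN (S : Subgroup G) P := by
              have h2 := mem_pointwise_smul_iff_inv_smul_mem.1 hy
              have e2 : (MulAut.conj p)⁻¹ • y = p⁻¹ * y * p := by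
                rw [← map_inv, MulAut.smul_def, MulAut.conj_apply, inv_inv]
              rwa [e2] at h2
            have h2 := hcon p (hPV hp) x hx _ hy'
            have e1 : p * (p⁻¹ * y * p) * p⁻¹ = y := by group
            rw [e1] at h2
            exact h2.symm
          have h2 := (com_mul_left (g := a * c'')).2 h1
          rw [mul_one] at h2
          unfold Com at h2 ⊢
          rwa [W_mul hc', ← W_mul (g := a) hc'']
    exact key hc.path

end Cfsg.Agent.Omega.TwoFFour
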