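import Cfsg.Agent.Omega.TwoFFour.Sit

/-!
# THEOREM 2F4: the situation `Sit` from coordinate-free data

* `natRebase`, `natOfEquiv` : change of basis and of the field in `NatMod`;
* `exists_line` : `Z ≤ V` centralised by the Sylow group `S`, `|Z| = |F|`: `Z` is a line;
* `Sit.exists_of` : `V` natural for `N(V)`, `W / Z` natural for `Sz(q)` (`SzMod`, no adapted coordinates) ⟹ `Sit`.
-/

set_option autoImplicit false
set_option linter.unusedSectionVars false

namespace Cfsg.Agent.Omega.TwoFFour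

open Subgroup Matrix
open Cfsg.Agent.ZN Cfsg.Agent.MinSimple.VModule Cfsg.Agent.Lib.SL2Mat
open Cfsg.Agent.LieRecognition.SzMatrix (Good)
open Cfsg.Agent.Omega.NatPair

variable {G : Type*} [Group G]

section change

variable {F : Type*} [Field F] {V : Subgroup G}

/-- change of basis -/
def natRebase (N : NatMod F V) (B : Matrix.SpecialLinearGroup (Fin 2) F) : NatMod F V where
  e x := N.e (ap B x)
  e_add x y := by rw [ap_add, N.e_add]
  e_inj x y hxy := by
    have h1 := N.e_inj hxy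
    rw [← ap_inv_ap B x, h1, ap_inv_ap]
  mem_iff g := by
    rw [N.mem_iff]
    constructor
    · rintro ⟨x, rfl⟩
      exact ⟨ap B⁻¹ x, by rw [ap_ap_inv]⟩
    · rintro ⟨x, rfl⟩
      exact ⟨_, rfl⟩
  lift A := by
    obtain ⟨g, hg⟩ := N.lift (B * A * B⁻¹)
    refine ⟨g, fun x => ?_⟩
    rw [hg, ap_mul, ap_mul, ap_inv_ap]
  norm g hg k A hA := by
    obtain ⟨A', hA'⟩ := N.norm g hg k (B * A * B⁻¹) (fun x => by
      have h1 := hA (ap B⁻¹ x)
      rw [ap_ap_inv] at h1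
      rw [h1, ap_mul, ap_mul])
    refine ⟨B⁻¹ * A' * B, fun x => ?_⟩
    rw [hA', ap_mul, ap_mul, ap_ap_inv]

theorem natRebase_e (N : NatMod F V) (B : Matrix.SpecialLinearGroup (Fin 2) F) (x : Fin 2 → F) :
    (natRebase N B).e x = N.e (ap B x) := rfl

variable {F' : Type*} [Field F']

/-- transport of a matrix -/
def slMap (σ : F' ≃+* F) (A : Matrix.SpecialLinearGroup (Fin 2) F') : Matrix.SpecialLinearGroup (Fin 2) F :=
  mk (σ (ent A 0 0)) (σ (ent A 0 1)) (σ (ent A 1 0)) (σ (ent A 1 1)) (by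
    rw [← map_mul, ← map_mul, ← map_sub, det_eq, map_one])

theorem ap_slMap (σ : F' ≃+* F) (A : Matrix.SpecialLinearGroup (Fin 2) F') (x : Fin 2 → F') :
    ap (slMap σ A) (fun i => σ (x i)) = fun i => σ (ap A x i) := by
  apply ext2
  · show σ (ent A 0 0) * σ (x 0) + σ (ent A 0 1) * σ (x 1) = σ (ent A 0 0 * x 0 + ent A 0 1 * x 1)
    rw [map_add, map_mul, map_mul]
  · show σ (ent A 1 0) * σ (x 0) + σ (ent A 1 1) * σ (x 1) = σ (ent A 1 0 * x 0 + ent A 1 1 * x 1)
    rw [map_add, map_mul, map_mul]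

theorem slMap_symm (σ : F' ≃+* F) (A : Matrix.SpecialLinearGroup (Fin 2) F) : slMap σ (slMap σ.symm A) = A := by
  apply ext_ent
  · exact σ.apply_symm_apply _
  · exact σ.apply_symm_apply _
  · exact σ.apply_symm_apply _
  · exact σ.apply_symm_apply _

/-- change of the field -/
def natOfEquiv (N : NatMod F V) (σ : F' ≃+* F) : NatMod F' V where
  e x := N.e (fun i => σ (x i))
  e_add x y := by
    rw [← N.e_add]
    congr 1
    funext i
    exact map_add σ _ _
  e_inj x y hxy := by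
    have h1 := N.e_inj hxy
    funext i
    exact σ.injective (congrFun h1 i)
  mem_iff g := by
    rw [N.mem_iff]
    constructor
    · rintro ⟨x, rfl⟩
      refine ⟨fun i => σ.symm (x i), ?_⟩
      congr 1
      funext i
      exact σ.apply_symm_apply _
    · rintro ⟨x, rfl⟩
      exact ⟨_, rfl⟩
  lift A := by
    obtain ⟨g, hg⟩ := N.lift (slMap σ A)
    refine ⟨g, fun x => ?_⟩
    rw [hg, ap_slMap]
  norm g hg k A hA := by
    obtain ⟨A', hA'⟩ := N.norm g hg k (slMap σ A) (fun x => by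
      have h1 := hA (fun i => σ.symm (x i))
      have e1 : (fun i => σ (σ.symm (x i))) = x := funext fun i => σ.apply_symm_apply _
      have e2 := ap_slMap σ A (fun i => σ.symm (x i))
      simp only [RingEquiv.apply_symm_apply] at h1 e2
      rw [h1, ← e2])
    refine ⟨slMap σ.symm A', fun x => ?_⟩
    rw [hA', ← ap_slMap, slMap_symm]

end change

section line

variable {F : Type*} [Field F] [Finite F] [CharP F 2] {V Z : Subgroup G}

/-- an element of `S` acts as a nontrivial involution of `SL₂(F)` -/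
theorem exists_inv_S [Finite G] (N : NatMod F V) (S : Sylow 2 G) (SV : (S : Subgroup G) ≤ normalizer (V : Set G)) :
    ∃ s ∈ S, ∃ A : Matrix.SpecialLinearGroup (Fin 2) F, N.Ind s A ∧ A ≠ 1 := by
  obtain ⟨g, hg⟩ := N.lift (up (1 : F))
  have hg : N.Ind g (up 1) := hg
  have hgM := N.mem_normalizer hg
  -- the 2-part of `g`
  obtain ⟨k, m, hm, hkm⟩ := Nat.exists_eq_two_pow_mul_odd (n := orderOf g) (orderOf_pos g).ne'
  have hpow : ∀ n : ℕ, N.Ind (g ^ n) (up (n : F)) := by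
    intro n
    induction n with
    | zero =>
      intro x
      rw [pow_zero, Nat.cast_zero, up_zero, ap_one]
      group
    | succ n ih =>
      intro x
      have e1 : g ^ (n + 1) * N.e x * (g ^ (n + 1))⁻¹ = g ^ n * (g * N.e x * g⁻¹) * (g ^ n)⁻¹ := by
        rw [pow_succ]; group
      rw [e1, hg, ih, ← ap_mul, up_mul, Nat.cast_succ]
  have h1 : N.Ind (g ^ m) (up 1) := by
    have h2 := hpow m
    have h3 : (m : F) = 1 := by
      obtain ⟨l, rfl⟩ := hm
      push_cast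
      rw [CharTwo.two_eq_zero, zero_mul, zero_add]
    rwa [h3] at h2
  have h2 : IsPGroup 2 (zpowers (g ^ m)) := by
    intro x
    refine ⟨k, ?_⟩
    obtain ⟨_, j, rfl⟩ := x
    apply Subtype.ext
    show ((g ^ m) ^ j) ^ 2 ^ k = 1
    rw [← zpow_natCast, ← _root_.zpow_mul, mul_comm, _root_.zpow_mul, zpow_natCast, ← pow_mul, mul_comm m, ← hkm,
      pow_orderOf_eq_one, _root_.one_zpow]
  obtain ⟨x, hx, hxS⟩ := (Syl2.of_sylow S SV).exists_conj_le ((zpowers_le).2 (pow_mem hgM m)) h2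
  obtain ⟨B, hB⟩ := N.norm x hx (g ^ m) (up 1) h1
  refine ⟨_, hxS _ (mem_zpowers _), B, hB, ?_⟩
  rintro rfl
  -- then `g ^ m` centralises `V`
  have h3 : ∀ v, g ^ m * N.e v * (g ^ m)⁻¹ = N.e v := by
    intro v
    obtain ⟨w, hw⟩ := (N.mem_iff _).1 ((mem_normalizer_iff.1 hx _).1 (N.e_mem v))
    have h4 := hB w
    rw [ap_one] at h4
    rw [hw] at h4
    have e1 : x * g ^ m * x⁻¹ * (x * N.e v * x⁻¹) * (x * g ^ m * x⁻¹)⁻¹ = x * (g ^ m * N.e v * (g ^ m)⁻¹) * x⁻¹ := by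
      group
    rw [e1] at h4
    exact mul_left_cancel (mul_right_cancel h4)
  have h4 := h3 ![0, 1]
  rw [h1] at h4
  have h5 := congrFun (N.e_inj h4) 0
  simp [ap] at h5

/-- `Z` is a line -/
theorem exists_line [Finite G] (N : NatMod F V) (S : Sylow 2 G) (SV : (S : Subgroup G) ≤ normalizer (V : Set G))
    (SZ : (S : Subgroup G) ≤ centralizer (Z : Set G)) (hZV : Z ≤ V) (hZ : Nat.card Z = Nat.card F) :
    ∃ w ≠ 0, ∀ g, g ∈ Z ↔ ∃ c : F, N.e (c • w) = g := by
  obtain ⟨s, hs, A, hA, hA1⟩ := exists_inv_S N S SV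
  have hfix : ∀ x, N.e x ∈ Z → ap A x = x := by
    intro x hx
    apply N.e_inj
    rw [← hA, ← mem_centralizer_iff.1 (SZ hs) _ hx, mul_inv_cancel_right]
  have hne : Z ≠ ⊥ := by
    rintro rfl
    rw [card_bot] at hZ
    exact absurd hZ.symm Finite.one_lt_card.ne'
  obtain ⟨z, hz, hz1⟩ : ∃ z ∈ Z, z ≠ 1 := (Subgroup.ne_bot_iff_exists_ne_one.1 hne).elim
    fun z hz => ⟨(z : G), z.2, fun h => hz (Subtype.ext h)⟩
  obtain ⟨w, rfl⟩ := (N.mem_iff z).1 (hZV hz)
  have hw : w ≠ 0 := by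
    rintro rfl
    exact hz1 N.e_zero
  refine ⟨w, hw, ?_⟩
  have hsub : ∀ x, N.e x ∈ Z → ∃ c : F, x = c • w := by
    intro x hx
    by_contra hcon
    have h1 : dt w x ≠ 0 := fun h => hcon (exists_smul_of_dt hw h)
    apply hA1
    apply ap_inj
    intro y
    rw [ap_one]
    obtain ⟨a, b, rfl⟩ := exists_comb h1 y
    rw [ap_add, ap_smul, ap_smul, hfix w hz, hfix x hx]
  have hle : Z ≤ N.line w := by
    intro g hg
    obtain ⟨x, rfl⟩ := (N.mem_iff g).1 (hZV hg)
    obtain ⟨c, rfl⟩ := hsub x hg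
    exact ⟨c, rfl⟩
  have heq : Z = N.line w := eq_of_le_of_card_ge hle (by rw [N.card_line hw, hZ])
  intro g
  rw [heq]
  exact N.mem_line

end line

section main

variable {F : Type*} [Field F] {θ : F →+* F} {e : ℕ} {H : Good F θ e} {V Z W : Subgroup G}

/-- `S` acts on `V` by transvections with centre `Z` -/
theorem comm_VS [Finite G] {m : ℕ} (hF : Nat.card F = 2 ^ (2 * m + 1)) (H : Good F θ e) (N : NatMod F V) (S : Sylow 2 G)
    (SV : (S : Subgroup G) ≤ normalizer (V : Set G)) (SZ : (S : Subgroup G) ≤ centralizer (Z : Set G))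
    (memZ : ∀ g, g ∈ Z ↔ ∃ c, N.e ![c, 0] = g) {s : G} (hs : s ∈ S) {v : G} (hv : v ∈ V) : s * v * s⁻¹ * v⁻¹ ∈ Z := by
  have hfin : Finite F := Nat.finite_of_card_ne_zero (by rw [hF]; positivity)
  have hch : CharP F 2 := CharTwo.of_one_ne_zero_of_two_eq_zero one_ne_zero H.two
  have hsM := SV hs
  have hsZ : ∀ c, s * N.e ![c, 0] = N.e ![c, 0] * s := fun c =>
    (mem_centralizer_iff.1 (SZ hs) _ ((memZ _).2 ⟨c, rfl⟩)).symm
  -- the field automorphism is trivial
  have hfix : ∀ c, N.act s ![c, 0] = ![c, 0] := fun c => (N.commute_e hsM).1 (hsZ c)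
  have hsm : ∀ (c : F) x, N.act s (c • x) = c • N.act s x := by
    intro c x
    have h1 := N.sg_spec ⟨s, hsM⟩ c ![1, 0]
    have e1 : (c • ![1, 0] : Fin 2 → F) = ![c, 0] := by apply ext2 <;> simp
    rw [e1, hfix, hfix] at h1
    have h2 := congrFun h1 0
    have h3 : N.sg ⟨s, hsM⟩ c = c := by simpa using h2.symm
    rw [N.sg_spec ⟨s, hsM⟩, h3]
  have h0 : N.act s ![1, 0] = ![1, 0] := hfix 1
  set v₀ := N.act s ![0, 1] with hv₀
  have hform : ∀ x y, N.act s ![x, y] = ![x + v₀ 0 * y, v₀ 1 * y] := by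
    intro x y
    have e1 : (![x, y] : Fin 2 → F) = x • ![1, 0] + y • ![0, 1] := by apply ext2 <;> simp
    rw [e1, N.act_add hsM, hsm, hsm, h0, ← hv₀]
    apply ext2
    · simp [mul_comm]
    · simp [mul_comm]
  have hpow : ∀ k : ℕ, ∃ t, N.act (s ^ k) ![0, 1] = ![t, v₀ 1 ^ k] := by
    intro k
    induction k with
    | zero => exact ⟨0, by rw [pow_zero, N.act_one, pow_zero]⟩
    | succ k ih =>
      obtain ⟨t, ht⟩ := ih
      refine ⟨t + v₀ 0 * v₀ 1 ^ k, ?_⟩
      rw [pow_succ', N.act_mul hsM (pow_mem hsM k), ht, hform, pow_succ']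
  have hv1 : v₀ 1 = 1 := by
    obtain ⟨k, hk⟩ := S.isPGroup' ⟨s, hs⟩
    have hk' : s ^ 2 ^ k = 1 := congrArg Subtype.val hk
    obtain ⟨t, ht⟩ := hpow (2 ^ k)
    rw [hk', N.act_one] at ht
    have h5 : v₀ 1 ^ 2 ^ k = 1 := (congrFun ht 1).symm
    have h6 : (v₀ 1 - 1) ^ 2 ^ k = 0 := by
      rw [sub_pow_char_pow, h5, one_pow, sub_self]
    exact sub_eq_zero.1 (pow_eq_zero_iff (by positivity) |>.1 h6)
  obtain ⟨x, rfl⟩ := (N.mem_iff v).1 hv
  rw [memZ]
  refine ⟨v₀ 0 * x 1, ?_⟩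
  have e1 : N.e x = N.e ![x 0, x 1] := by congr 1; apply ext2 <;> rfl
  rw [e1, ← N.e_act hsM, hform, hv1, one_mul, eq_mul_inv_iff_mul_eq, ← N.e_add]
  congr 1
  apply ext2
  · show v₀ 0 * x 1 + x 0 = x 0 + v₀ 0 * x 1
    ring
  · show 0 + x 1 = x 1
    ring

/-- **The situation from coordinate-free data.** -/
theorem Sit.exists_of [Finite G] {F' : Type*} [Field F'] [Finite F'] {m : ℕ} (hm : 1 ≤ m)
    (hF : Nat.card F = 2 ^ (2 * m + 1)) (hFF : Nat.card F' = Nat.card F) (S : Sylow 2 G)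
    (N' : NatMod F' V) (hZV : Z ≤ V) (hZ : Nat.card Z = Nat.card F)
    (SV : (S : Subgroup G) ≤ normalizer (V : Set G)) (SZ : (S : Subgroup G) ≤ centralizer (Z : Set G))
    (M' : SzMod H (normalizer (Z : Set G)) W Z) (hVW : V ≤ W)
    (ab : ∀ x ∈ W, ∀ y ∈ W, x * y = y * x) (sq : ∀ x ∈ W, x * x = 1)
    (char2 : normalizer (Z : Set G) ⊓ centralizer (o2 (normalizer (Z : Set G)) : Set G) ≤ o2 (normalizer (Z : Set G)))
    (nonloc : ∀ R ≤ normalizer (Z : Set G), IsPGroup 2 R → normalizer (V : Set G) ≤ normalizer (R : Set G) →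
      normalizer (Z : Set G) ≤ normalizer (R : Set G) → R = ⊥)
    (ne : ∃ m ∈ normalizer (V : Set G), ∃ x ∈ W, ∃ y ∈ W, x * (m * y * m⁻¹) ≠ m * y * m⁻¹ * x) :
    ∃ h : Sit F H S V Z W, h.P.K = M'.K := by
  classical
  have hfin : Finite F := Nat.finite_of_card_ne_zero (by rw [hF]; positivity)
  have hft : Fintype F := Fintype.ofFinite F
  have hft' : Fintype F' := Fintype.ofFinite F'
  have hch : CharP F 2 := CharTwo.of_one_ne_zero_of_two_eq_zero one_ne_zero H.two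
  have hF2 : Fintype.card F = 2 ^ (2 * m + 1) := by rw [← Nat.card_eq_fintype_card, hF]
  -- the same field
  let σ : F ≃+* F' := FiniteField.ringEquivOfCardEq (K := F) (K' := F') (by
    rw [← Nat.card_eq_fintype_card, ← Nat.card_eq_fintype_card, hFF])
  obtain ⟨w, hw, hwZ⟩ := exists_line (natOfEquiv N' σ) S SV SZ hZV hZ
  obtain ⟨B, hB⟩ := exists_ap_e hw
  let N : NatMod F V := natRebase (natOfEquiv N' σ) B
  have memZ : ∀ g, g ∈ Z ↔ ∃ c, N.e ![c, 0] = g := by
    intro g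
    rw [hwZ]
    have e1 : ∀ c : F, N.e ![c, 0] = (natOfEquiv N' σ).e (c • w) := by
      intro c
      have e2 : (![c, 0] : Fin 2 → F) = c • ![1, 0] := by apply ext2 <;> simp
      rw [natRebase_e, e2, ap_smul, hB]
    simp only [e1]
  obtain ⟨M, hM, hMK⟩ := M'.exists_ad hm hF2 S (SZ.trans (centralizer_le_normalizer _))
  have hSC : (S : Subgroup G) ≤ normalizer (Z : Set G) := SZ.trans (centralizer_le_normalizer _)
  have hV1 : ∀ g ∈ V, ∃ c, M.f g = ![c, 0, 0, 0] := by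
    intro g hg
    have h1 : ∀ a b, mv (H.U a b) (M.f g) = M.f g := by
      intro a b
      obtain ⟨s, hs, hsU⟩ := hM.surj a b
      rw [← hsU, M.act_f (hSC hs) (hVW hg), M.f_eq_iff (M.conjW (hSC hs) (hVW hg)) (hVW hg)]
      have h3 := comm_VS hF H N S SV SZ memZ hs hg
      have h4 : (s * g * s⁻¹)⁻¹ * g = (s * g * s⁻¹)⁻¹ * (s * g * s⁻¹ * g⁻¹)⁻¹ * (s * g * s⁻¹) := by group
      rw [h4]
      have h5 : ∀ x ∈ W, ∀ z ∈ Z, x⁻¹ * z * x = z := by
        intro x hx z hz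
        rw [mul_assoc, ab z (M.Z_le hz) x hx, inv_mul_cancel_left]
      rw [h5 _ (M.conjW (hSC hs) (hVW hg)) _ (inv_mem h3)]
      exact inv_mem h3
    obtain ⟨h2, h3, h4⟩ := (fix_T H).1 h1
    refine ⟨M.f g 0, ?_⟩
    apply ext4
    · rfl
    · exact h2
    · exact h3
    · exact h4
  have memV : ∀ g, g ∈ V ↔ g ∈ W ∧ ∃ c, M.f g = ![c, 0, 0, 0] := by
    intro g
    refine ⟨fun hg => ⟨hVW hg, hV1 g hg⟩, ?_⟩
    rintro ⟨hg, c, hc⟩
    -- `c ↦ f (e (0, c))` is injective, hence surjective on `F e₀`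
    let φ : F → F := fun d => M.f (N.e ![0, d]) 0
    have hφ : Function.Injective φ := by
      intro d d' hd
      obtain ⟨c₁, h1⟩ := hV1 _ (N.e_mem ![0, d])
      obtain ⟨c₂, h2⟩ := hV1 _ (N.e_mem ![0, d'])
      have h3 : c₁ = c₂ := by
        have h4 : M.f (N.e ![0, d]) 0 = M.f (N.e ![0, d']) 0 := hd
        rw [h1, h2] at h4
        exact h4
      have h4 : M.f (N.e ![0, d]) = M.f (N.e ![0, d']) := by rw [h1, h2, h3]
      rw [M.f_eq_iff (hVW (N.e_mem _)) (hVW (N.e_mem _)), ← N.e_neg, ← N.e_add, memZ] at h4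
      obtain ⟨c₃, h5⟩ := h4
      have h6 := congrFun (N.e_inj h5) 1
      have h7 : (0 : F) = -d + d' := h6
      linear_combination h7
    obtain ⟨d, hd⟩ := (Finite.surjective_of_injective hφ) c
    obtain ⟨c₁, h1⟩ := hV1 _ (N.e_mem ![0, d])
    have h2 : c₁ = c := by
      have h3 : M.f (N.e ![0, d]) 0 = c := hd
      rw [h1] at h3
      exact h3
    have h3 : M.f g = M.f (N.e ![0, d]) := by rw [hc, h1, h2]
    rw [M.f_eq_iff hg (hVW (N.e_mem _))] at h3
    have h4 : g = N.e ![0, d] * (g⁻¹ * N.e ![0, d])⁻¹ := by group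
    rw [h4]
    exact mul_mem (N.e_mem _) (inv_mem (hZV h3))
  exact ⟨{ N := N, P := M, mf := m, cardF := hF, one_le := hm, memZ := memZ, SV := SV, SZ := SZ, memV := memV,
           ab := ab, sq := sq, Ad := hM, char2 := char2, nonloc := nonloc, ne := ne }, hMK⟩

end main

end Cfsg.Agent.Omega.TwoFFour
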