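import Cfsg.Agent.Omega.TwoFFour.SzMod

/-!
# Natural `Sz(q)`-modules: subgroups of `C`

* `SzMod.m1`: a nontrivial elementary abelian subgroup of `T` normalised by the torus is `Z(T)`;
* `SzMod.le_K`: a normal 2-subgroup of `C` acts trivially;
* `gen_orbit`, `SzMod.gen_trans`: two opposite `Z(T)`, `Z(T')` generate a group transitive on the lines `A (F e₀)`;
* `SzMod.conj`: conjugation.
-/

set_option autoImplicit false
set_option linter.unusedSectionVars false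

namespace Cfsg.Agent.Omega.TwoFFour

open Subgroup Cfsg.Agent.LieRecognition.SzMatrix Cfsg.Agent.ThreePrime.SzRel
open Cfsg.Agent.Omega.NatPair (cj mem_cj)

variable {F : Type*} [Field F] {θ : F →+* F} {e : ℕ}

theorem add_self_vec (H : Good F θ e) (v : Fin 4 → F) : v + v = 0 := by
  funext i
  exact H.add_self (v i)

theorem U_zero_comm (H : Good F θ e) (a b c : F) : H.U a b * H.U 0 c = H.U 0 c * H.U a b := by
  rw [H.U_mul, H.U_mul, map_zero, mul_zero, zero_mul, add_zero, add_zero, zero_add, add_zero, add_comm b c]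

theorem conj_U_zero (H : Good F θ e) (a b : F) (k : Fˣ) (c : F) :
    (H.U a b * H.D k) * H.U 0 c * (H.U a b * H.D k)⁻¹ = H.U 0 (c * θ k) := by
  rw [mul_inv_eq_iff_eq_mul, mul_assoc, H.D_mul_U, zero_mul, zero_mul, ← mul_assoc, U_zero_comm, mul_assoc]

theorem U_zero_sq_iff (H : Good F θ e) (a b : F) : H.U a b * H.U a b = 1 ↔ a = 0 := by
  rw [← Std.sq_iff H a b]
  constructor
  · intro h; exact Subtype.ext h
  · intro h; exact congrArg Subtype.val h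

/-- `[M, Z(T)] = C_M(Z(T))`, already for one involution -/
theorem exists_comm (H : Good F θ e) {b : F} (hb : b ≠ 0) {v : Fin 4 → F} (h2 : v 2 = 0) (h3 : v 3 = 0) :
    ∃ w, mv (H.U 0 b) w - w = v := by
  refine ⟨![0, 0, b⁻¹ * (v 0 - θ b * (b⁻¹ * v 1)), b⁻¹ * v 1], ?_⟩
  rw [mv_U]
  apply ext4 <;> simp only [Pi.sub_apply]
  · show 0 + 0 * 0 + b * (b⁻¹ * (v 0 - θ b * (b⁻¹ * v 1))) + (0 * b + 0 ^ 2 * θ 0 + θ b) * (b⁻¹ * v 1) - 0 = v 0
    rw [← mul_assoc b b⁻¹, mul_inv_cancel₀ hb]; ring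
  · show 0 + θ 0 * (b⁻¹ * (v 0 - θ b * (b⁻¹ * v 1))) + (b + 0 * θ 0) * (b⁻¹ * v 1) - 0 = v 1
    rw [map_zero, mul_zero, add_zero, zero_mul, ← mul_assoc b b⁻¹, mul_inv_cancel₀ hb]; ring
  · show b⁻¹ * (v 0 - θ b * (b⁻¹ * v 1)) + 0 * (b⁻¹ * v 1) - b⁻¹ * (v 0 - θ b * (b⁻¹ * v 1)) = v 2
    rw [h2]; ring
  · show b⁻¹ * v 1 - b⁻¹ * v 1 = v 3
    rw [h3]; ring

theorem comm_mem (H : Good F θ e) (b : F) (w : Fin 4 → F) :
    (mv (H.U 0 b) w - w) 2 = 0 ∧ (mv (H.U 0 b) w - w) 3 = 0 := by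
  rw [mv_U]
  constructor
  · show w 2 + 0 * w 3 - w 2 = 0
    ring
  · show w 3 - w 3 = 0
    ring

theorem comm_mem' (H : Good F θ e) (a b : F) (w : Fin 4 → F) : (mv (H.U a b) w - w) 3 = 0 := by
  rw [mv_U]
  show w 3 - w 3 = 0
  ring

/-! ### Two opposite root groups are transitive on the lines -/

/-- `v` lies in a line of the orbit of `F e₀` under `L` -/
def Orb (L : Subgroup (GL (Fin 4) F)) (v : Fin 4 → F) : Prop :=
  ∃ l ∈ L, ∃ c : F, c ≠ 0 ∧ v = c • mv l (Pi.single 0 1)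

theorem Orb.mv {L : Subgroup (GL (Fin 4) F)} {v : Fin 4 → F} (h : Orb L v) {l : GL (Fin 4) F} (hl : l ∈ L) :
    Orb L (mv l v) := by
  obtain ⟨l', hl', c, hc, rfl⟩ := h
  exact ⟨l * l', mul_mem hl hl', c, hc, by rw [mv_smul, mv_mul]⟩

theorem Orb.smul {L : Subgroup (GL (Fin 4) F)} {v : Fin 4 → F} (h : Orb L v) {c : F} (hc : c ≠ 0) :
    Orb L (c • v) := by
  obtain ⟨l', hl', d, hd, rfl⟩ := h
  exact ⟨l', hl', c * d, mul_ne_zero hc hd, by rw [smul_smul]⟩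

theorem gen_orbit [Finite F] (H : Good F θ e) (L : Subgroup (GL (Fin 4) F)) (h1 : ∀ b, H.U 0 b ∈ L)
    (h2 : ∀ b, W F * H.U 0 b * W F ∈ L) {A : GL (Fin 4) F} (hA : A ∈ Cfsg.Lie.Sz F e) :
    Orb L (mv A (Pi.single 0 1)) := by
  have h0 : Orb L (Pi.single 0 1) := ⟨1, one_mem _, 1, one_ne_zero, by rw [mv_one, one_smul]⟩
  have hwu : ∀ (c : F) (v : Fin 4 → F), mv (W F * H.U 0 c * W F) v =
      ![v 0, v 1, v 2 + c * v 0, v 3 + c * v 1 + θ c * v 0] := fun c v => Std.mv_wuw H c v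
  -- points `u(a, b) e₃` with `a ≠ 0`
  have h3 : ∀ a : F, a ≠ 0 → Orb L (mv (H.U a (a * θ a)) (Pi.single 3 1)) := by
    intro a ha
    obtain ⟨k, hk⟩ := Std.exists_div H (Units.mk0 a ha)⁻¹
    have hk0 := k.ne_zero
    have hk1 := theta_ne_zero θ k
    have hk' : θ k * (k : F)⁻¹ = a⁻¹ := by
      rw [hk, Units.val_inv_eq_inv_val, Units.val_mk0]
    have hak : a * θ k = k := by
      field_simp at hk'
      linear_combination hk'
    have h4 := (h0.mv (h2 k)).smul (c := (θ k)⁻¹) (inv_ne_zero hk1)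
    have e1 : (θ k)⁻¹ • mv (W F * H.U 0 k * W F) (Pi.single 0 1) = mv (H.U a (a * θ a)) (Pi.single 3 1) := by
      have hθa : θ a * (k : F) ^ 2 = θ k := by
        have := congrArg θ hak
        rw [map_mul, H.sq] at this
        exact this
      rw [hwu, mv_U]
      apply ext4
      · simp only [Pi.smul_apply, smul_eq_mul]
        simp
        have e2 : (θ k : F)⁻¹ = θ a * a ^ 2 := by
          apply inv_eq_of_mul_eq_one_right
          have : θ (k : F) * (θ a * a ^ 2) * θ k = 1 * θ k := by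
            have e3 : θ (k : F) * (θ a * a ^ 2) * θ k = θ a * (a * θ k) ^ 2 := by ring
            rw [e3, hak, hθa, one_mul]
          exact mul_right_cancel₀ hk1 this
        rw [e2, H.sq]
        linear_combination (-(a ^ 2 * θ a)) * H.two
      · simp only [Pi.smul_apply, smul_eq_mul]
        simp
        exact (H.add_self _).symm
      · simp only [Pi.smul_apply, smul_eq_mul]
        simp
        rw [← hak]
        field_simp
        have : θ (a * θ k) = θ k := by rw [hak]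
        rw [this]
        exact div_self hk1
      · simp only [Pi.smul_apply, smul_eq_mul]
        simp
    rwa [e1] at h4
  have h4 : ∀ a b : F, a ≠ 0 → Orb L (mv (H.U a b) (Pi.single 3 1)) := by
    intro a b ha
    have h5 := (h3 a ha).mv (h1 (b + a * θ a))
    rw [← mv_mul, H.U_mul, zero_add, zero_mul, add_zero] at h5
    have e1 : b + a * θ a + a * θ a = b := by rw [add_assoc, H.add_self, add_zero]
    rwa [e1] at h5
  have h5 : Orb L (Pi.single 3 1) := by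
    have h6 := ((h4 1 0 one_ne_zero).mv (inv_mem (h2 1))).mv (inv_mem (h1 1))
    have e1 : mv (H.U 0 1)⁻¹ (mv (W F * H.U 0 1 * W F)⁻¹ (mv (H.U 1 0) (Pi.single 3 1))) = Pi.single 3 1 := by
      have e2 : mv (H.U 1 0) (Pi.single 3 1) = mv (W F * H.U 0 1 * W F) (mv (H.U 0 1) (Pi.single 3 1)) := by
        rw [hwu, mv_U, mv_U]
        apply ext4 <;> simp
        have := H.two
        linear_combination this
      rw [e2, mv_inv_mv, mv_inv_mv]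
    rwa [e1] at h6
  have h6 : ∀ a b : F, Orb L (mv (H.U a b) (Pi.single 3 1)) := by
    intro a b
    by_cases ha : a = 0
    · rw [ha]
      exact h5.mv (h1 b)
    · exact h4 a b ha
  rcases H.bruhat hA with ⟨a, b, k, rfl⟩ | ⟨a, b, c, d, k, rfl⟩
  · rw [mv_ud_zero]
    refine ⟨1, one_mem _, k, k.ne_zero, ?_⟩
    rw [mv_one]
    apply ext4 <;> simp
  · have h7 := (h6 a b).smul k.ne_zero
    rw [mv_mul, mv_ud_zero, mv_mul, ← mv_smul]  at *
    have e1 : mv (W F) (Pi.single 0 ((k : F) * 1)) = (k : F) • Pi.single 3 1 := by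
      rw [mv_W]
      apply ext4 <;> simp
    rw [e1]
    exact h7

theorem conj_U_of (H : Good F θ e) {B : GL (Fin 4) F} (hB : B ∈ Cfsg.Lie.Sz F e)
    (h3 : mv B (Pi.single 0 1) 3 ≠ 0) : ∃ a b : F, ∀ x : F, ∃ y : F,
      (H.U a b)⁻¹ * (B * H.U 0 y * B⁻¹) * H.U a b = W F * H.U 0 x * W F := by
  rcases H.bruhat hB with ⟨a, b, k, rfl⟩ | ⟨a, b, c, d, k, rfl⟩
  · exfalso
    apply h3
    rw [mv_ud_zero]
    simp
  · refine ⟨a, b, fun x => ?_⟩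
    refine ⟨x * (θ k)⁻¹, ?_⟩
    have h4 := conj_U_zero H c d k (x * (θ k)⁻¹)
    rw [inv_mul_cancel_right₀ (theta_ne_zero θ k)] at h4
    have h5 : (H.U a b)⁻¹ * (H.U a b * W F * (H.U c d * H.D k) * H.U 0 (x * (θ k)⁻¹) *
        (H.U a b * W F * (H.U c d * H.D k))⁻¹) * H.U a b =
        W F * (H.U c d * H.D k * H.U 0 (x * (θ k)⁻¹) * (H.U c d * H.D k)⁻¹) * (W F)⁻¹ := by group
    have h6 : (W F)⁻¹ = W F := inv_eq_of_mul_eq_one_right W_mul_W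
    rw [h5, h4, h6]

/-- the general form: `Z(T)` and `Z(T)^B`, `B` not in the Borel subgroup -/
theorem gen_orbit' [Finite F] (H : Good F θ e) (L : Subgroup (GL (Fin 4) F)) (h1 : ∀ b, H.U 0 b ∈ L)
    {B : GL (Fin 4) F} (hB : B ∈ Cfsg.Lie.Sz F e) (h3 : mv B (Pi.single 0 1) 3 ≠ 0)
    (h2 : ∀ b, B * H.U 0 b * B⁻¹ ∈ L) {A : GL (Fin 4) F} (hA : A ∈ Cfsg.Lie.Sz F e) :
    Orb L (mv A (Pi.single 0 1)) := by
  obtain ⟨a, b, hab⟩ := conj_U_of H hB h3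
  -- `L' = U⁻¹ L U`
  let L' : Subgroup (GL (Fin 4) F) := L.comap (MulAut.conj (H.U a b)).toMonoidHom
  have hL' : ∀ x, x ∈ L' ↔ H.U a b * x * (H.U a b)⁻¹ ∈ L := fun x => Iff.rfl
  have h4 := gen_orbit H L' (fun c => by
    rw [hL', U_zero_comm, mul_inv_cancel_right]
    exact h1 c) (fun c => by
    obtain ⟨y, hy⟩ := hab c
    rw [hL', ← hy]
    have e1 : H.U a b * ((H.U a b)⁻¹ * (B * H.U 0 y * B⁻¹) * H.U a b) * (H.U a b)⁻¹ = B * H.U 0 y * B⁻¹ := by group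
    rw [e1]
    exact h2 y) (A := (H.U a b)⁻¹ * A) (mul_mem (inv_mem (H.U_mem a b)) hA)
  obtain ⟨l, hl, c, hc, h5⟩ := h4
  refine ⟨_, (hL' l).1 hl, c, hc, ?_⟩
  have h6 : mv (H.U a b) (mv ((H.U a b)⁻¹ * A) (Pi.single 0 1)) = mv A (Pi.single 0 1) := by
    rw [← mv_mul, mul_inv_cancel_left]
  rw [← h6, h5, mv_smul, mv_mul, mv_mul]
  congr 2
  congr 1
  have h7 : mv (H.U a b)⁻¹ (Pi.single 0 1) = Pi.single 0 1 := by
    have h8 : mv (H.U a b) (Pi.single 0 1) = Pi.single 0 1 := (fix_T H).2 (by simp) a b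
    conv_lhs => rw [← h8]
    rw [mv_inv_mv]
  rw [h7]

/-! ### Groups -/

variable {G : Type*} [Group G]

namespace SzMod

variable {H : Good F θ e} {C W Z : Subgroup G} (M : SzMod H C W Z)

/-- the image of a subgroup of `C` in the matrices -/
def img (X : Subgroup G) : Subgroup (GL (Fin 4) F) where
  carrier := {A | A ∈ Cfsg.Lie.Sz F e ∧ ∃ x ∈ X, x ∈ C ∧ M.Ind x A}
  mul_mem' := by
    rintro A B ⟨hA, x, hx, hxC, hxA⟩ ⟨hB, y, hy, hyC, hyB⟩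
    exact ⟨mul_mem hA hB, x * y, mul_mem hx hy, mul_mem hxC hyC, hxA.mul hxC hyC hyB⟩
  one_mem' := ⟨one_mem _, 1, one_mem _, one_mem _, M.ind_one⟩
  inv_mem' := by
    rintro A ⟨hA, x, hx, hxC, hxA⟩
    exact ⟨inv_mem hA, x⁻¹, inv_mem hx, inv_mem hxC, hxA.inv hxC⟩

theorem mem_img {X : Subgroup G} {A : GL (Fin 4) F} :
    A ∈ M.img X ↔ A ∈ Cfsg.Lie.Sz F e ∧ ∃ x ∈ X, x ∈ C ∧ M.Ind x A := Iff.rfl

/-- **(g4)**: if `X ≤ C` induces `Z(T)` and `Z(T)^B`, `B` not in the Borel subgroup, then `X` is transitive on the lines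
`g (F e₀)`, `g ∈ C`. -/
theorem gen_trans [Fintype F] {m : ℕ} (hm : 1 ≤ m) (hF : Fintype.card F = 2 ^ (2 * m + 1)) {X : Subgroup G} (hX : X ≤ C)
    (h1 : ∀ b, ∃ x ∈ X, M.Ind x (H.U 0 b)) {B : GL (Fin 4) F} (hB : B ∈ Cfsg.Lie.Sz F e)
    (h3 : mv B (Pi.single 0 1) 3 ≠ 0) (h2 : ∀ b, ∃ x ∈ X, M.Ind x (B * H.U 0 b * B⁻¹)) {g : G} (hg : g ∈ C) :
    ∃ x ∈ X, ∀ c : F, ∃ d : F, M.act (x⁻¹ * g) (Pi.single 0 c) = Pi.single 0 d := by
  obtain ⟨mu, A, hA, σ, hγ⟩ := M.exists_semi hm hF hg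
  obtain ⟨l, ⟨-, x, hx, hxC, hxl⟩, c, hc, h4⟩ := gen_orbit' H (M.img X)
    (fun b => by
      obtain ⟨x, hx, h⟩ := h1 b
      exact ⟨H.U_mem 0 b, x, hx, hX hx, h⟩) hB h3
    (fun b => by
      obtain ⟨x, hx, h⟩ := h2 b
      exact ⟨mul_mem (mul_mem hB (H.U_mem 0 b)) (inv_mem hB), x, hx, hX hx, h⟩) hA
  refine ⟨x, hx, fun d => ⟨mu * σ d * c, ?_⟩⟩
  have h5 : (fun i => σ ((Pi.single 0 d : Fin 4 → F) i)) = σ d • Pi.single 0 1 := by
    apply ext4 <;> simp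
  rw [M.act_mul (inv_mem hxC) hg, hγ, h5, mv_smul, h4, hxl.inv hxC, mv_smul, mv_smul, mv_smul, mv_inv_mv]
  apply ext4 <;> simp [mul_assoc]

/-- **(m1)** -/
theorem m1 {S A : Subgroup G} (hM : M.Ad S) (hAS : A ≤ S) (hsq : ∀ a ∈ A, a * a ∈ M.K) (hne : ¬ A ≤ M.K)
    (hτ : ∀ k : Fˣ, ∃ g ∈ C, (∃ a b, M.Ind g (H.U a b * H.D k)) ∧ ∀ x ∈ A, ∃ y ∈ A, (g * x * g⁻¹)⁻¹ * y ∈ M.K)
    [Finite F] : (∀ a ∈ A, ∃ b, M.Ind a (H.U 0 b)) ∧ ∀ b, ∃ a ∈ A, M.Ind a (H.U 0 b) := by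
  have h1 : ∀ a ∈ A, ∃ b, M.Ind a (H.U 0 b) := by
    intro a ha
    obtain ⟨x, b, hx⟩ := hM.exists_U a (hAS ha)
    have haC := hM.le (hAS ha)
    have h2 : M.Ind (a * a) (H.U x b * H.U x b) := hx.mul haC haC hx
    have h3 : M.Ind (a * a) 1 := (M.ind_one_iff (mul_mem haC haC)).2 (hsq a ha)
    have h4 := (U_zero_sq_iff H x b).1 (h2.unique h3)
    subst h4
    exact ⟨b, hx⟩
  refine ⟨h1, ?_⟩
  obtain ⟨a, ha, haK⟩ := SetLike.not_le_iff_exists.1 hne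
  obtain ⟨b, hb⟩ := h1 a ha
  have hb0 : b ≠ 0 := by
    rintro rfl
    rw [H.U_zero, M.ind_one_iff (hM.le (hAS ha))] at hb
    exact haK hb
  intro c
  by_cases hc : c = 0
  · subst hc
    exact ⟨1, one_mem _, by rw [H.U_zero]; exact M.ind_one⟩
  obtain ⟨x, hx⟩ := Finite.surjective_of_injective θ.injective (b⁻¹ * c)
  have hx0 : x ≠ 0 := by
    rintro rfl
    rw [map_zero] at hx
    exact mul_ne_zero (inv_ne_zero hb0) hc hx.symm
  obtain ⟨g, hg, ⟨u, v, huv⟩, hgA⟩ := hτ (Units.mk0 x hx0)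
  obtain ⟨y, hy, hyK⟩ := hgA a ha
  refine ⟨y, hy, ?_⟩
  have haC := hM.le (hAS ha)
  have h2 : M.Ind (g * a * g⁻¹) (H.U 0 c) := by
    have h3 := (huv.mul hg haC hb).mul (mul_mem hg haC) (inv_mem hg) (huv.inv hg)
    rw [conj_U_zero, Units.val_mk0, hx, mul_inv_cancel_left₀ hb0] at h3
    exact h3
  have hgaC : g * a * g⁻¹ ∈ C := mul_mem (mul_mem hg haC) (inv_mem hg)
  have h3 := h2.mul hgaC hyK.1 ((M.ind_one_iff hyK.1).2 hyK)
  rw [mul_one, mul_inv_cancel_left] at h3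
  exact h3

/-- **(g5)**: a normal 2-subgroup of `C` acts trivially -/
theorem le_K [Fintype F] {m : ℕ} (hm : 1 ≤ m) (hF : Fintype.card F = 2 ^ (2 * m + 1)) {Q : Subgroup G}
    (hQ : IsPGroup 2 Q) (hQC : Q ≤ C) (hn : ∀ g ∈ C, ∀ x ∈ Q, g * x * g⁻¹ ∈ Q) : Q ≤ M.K := by
  classical
  have : Fact (Nat.Prime 2) := ⟨Nat.prime_two⟩
  have hQ0 : Q ≤ M.C0 := by
    intro s hs
    refine ⟨hQC hs, ?_⟩
    obtain ⟨n, hn⟩ := hQ ⟨s, hs⟩
    have hn' : s ^ 2 ^ n = 1 := congrArg Subtype.val hn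
    exact M.two hm hF (hQC hs) (n := n) (by rw [hn']; exact one_mem _)
  let N : Subgroup ↥(Cfsg.Lie.Sz F e) := (Q.subgroupOf M.C0).map M.toSz
  have hN2 : IsPGroup 2 N := (hQ.comap_subtype (K := M.C0)).map M.toSz
  have hNn : ∀ A : ↥(Cfsg.Lie.Sz F e), ∀ x ∈ N, A * x * A⁻¹ ∈ N := by
    rintro A _ ⟨x, hx, rfl⟩
    obtain ⟨g, rfl⟩ := M.toSz_surj A
    refine ⟨g * x * g⁻¹, ?_, by rw [map_mul, map_mul, map_inv]⟩
    exact mem_subgroupOf.2 (hn g g.2.1 x (mem_subgroupOf.1 hx))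
  let R := ofGood H
  obtain ⟨P, hP⟩ := R.exists_sylow_eq hm hF
  obtain ⟨P', hP'⟩ := hN2.exists_le_sylow
  obtain ⟨A, hA⟩ := MulAction.exists_smul_eq ↥(Cfsg.Lie.Sz F e) P' P
  have hNT : N ≤ R.T := by
    intro x hx
    have h1 := hP' (hNn A⁻¹ x hx)
    have h2 : A * (A⁻¹ * x * A⁻¹⁻¹) * A⁻¹ ∈ ((A • P' : Sylow 2 ↥(Cfsg.Lie.Sz F e)) : Subgroup _) := by
      rw [Sylow.smul_def, Sylow.pointwise_smul_def]
      exact Subgroup.smul_mem_pointwise_smul _ (MulAut.conj A) _ h1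
    rw [hA, hP] at h2
    have e1 : A * (A⁻¹ * x * A⁻¹⁻¹) * A⁻¹ = x := by group
    rwa [e1] at h2
  have hN1 : ∀ x ∈ N, x = 1 := by
    intro x hx
    obtain ⟨a, b, h1⟩ := hNT hx
    obtain ⟨c, d, h2⟩ := hNT (hNn H.w x hx)
    have h3 : H.w * H.u a b * H.w = H.u c d * H.d 1 := by
      rw [H.d_one, mul_one]
      have h4 : H.w * x * H.w⁻¹ = H.u c d := h2
      rw [H.w_inv, show x = H.u a b from h1] at h4
      exact h4
    obtain ⟨rfl, rfl⟩ := R.inter _ _ _ _ _ h3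
    rw [show x = H.u 0 0 from h1, H.u_zero]
  intro x hx
  have h1 : M.toSz ⟨x, hQ0 hx⟩ = 1 := hN1 _ (mem_map_of_mem _ (mem_subgroupOf.2 hx))
  have h2 := M.toSz_ind ⟨x, hQ0 hx⟩
  rw [h1] at h2
  exact (M.ind_one_iff (hQC hx)).1 h2

/-- conjugation -/
def conj (g : G) : SzMod H (cj g C) (cj g W) (cj g Z) where
  f x := M.f (g⁻¹ * x * g)
  f_mul {x y} hx hy := by
    have h1 := M.f_mul ((mem_cj).1 hx) ((mem_cj).1 hy)
    rw [← h1]
    congr 1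
    group
  f_surj v := by
    obtain ⟨x, hx, rfl⟩ := M.f_surj v
    refine ⟨g * x * g⁻¹, mem_cj.2 ?_, ?_⟩
    · have e1 : g⁻¹ * (g * x * g⁻¹) * g = x := by group
      rw [e1]; exact hx
    · have e1 : g⁻¹ * (g * x * g⁻¹) * g = x := by group
      rw [e1]
  f_ker {x} hx := by
    rw [mem_cj]
    exact M.f_ker (mem_cj.1 hx)
  Z_le x hx := mem_cj.2 (M.Z_le (mem_cj.1 hx))
  conjW {a x} ha hx := by
    rw [mem_cj] at *
    have e1 : g⁻¹ * (a * x * a⁻¹) * g = (g⁻¹ * a * g) * (g⁻¹ * x * g) * (g⁻¹ * a * g)⁻¹ := by group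
    rw [e1]
    exact M.conjW ha hx
  conjZ {a x} ha hx := by
    rw [mem_cj] at *
    have e1 : g⁻¹ * (a * x * a⁻¹) * g = (g⁻¹ * a * g) * (g⁻¹ * x * g) * (g⁻¹ * a * g)⁻¹ := by group
    rw [e1]
    exact M.conjZ ha hx
  lift A hA := by
    obtain ⟨a, ha, h⟩ := M.lift A hA
    refine ⟨g * a * g⁻¹, mem_cj.2 ?_, fun x hx => ?_⟩
    · have e1 : g⁻¹ * (g * a * g⁻¹) * g = a := by group
      rw [e1]; exact ha
    · rw [mem_cj] at hx
      rw [← h _ hx]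
      congr 1
      group
  norm a ha b hb A hA hbA := by
    rw [mem_cj] at ha hb
    obtain ⟨B, hB, h⟩ := M.norm _ ha _ hb A hA (fun x hx => by
      have h1 := hbA (g * x * g⁻¹) (mem_cj.2 (by
        have e1 : g⁻¹ * (g * x * g⁻¹) * g = x := by group
        rw [e1]; exact hx))
      have e1 : g⁻¹ * (g * x * g⁻¹) * g = x := by group
      rw [e1] at h1
      rw [← h1]
      congr 1
      group)
    refine ⟨B, hB, fun x hx => ?_⟩
    rw [mem_cj] at hx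
    rw [← h _ hx]
    congr 1
    group

theorem conj_f (g x : G) : (M.conj g).f x = M.f (g⁻¹ * x * g) := rfl

theorem conj_act (g : G) {a : G} (ha : a ∈ cj g C) (v : Fin 4 → F) : (M.conj g).act a v = M.act (g⁻¹ * a * g) v := by
  obtain ⟨x, hx, rfl⟩ := (M.conj g).f_surj v
  rw [(M.conj g).act_f ha hx, conj_f, conj_f, M.act_f (mem_cj.1 ha) (mem_cj.1 hx)]
  congr 1
  group

theorem mem_conj_K (g : G) {a : G} : a ∈ (M.conj g).K ↔ g⁻¹ * a * g ∈ M.K := by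
  rw [mem_K, mem_K, mem_cj]
  constructor
  · rintro ⟨h1, h2⟩
    refine ⟨h1, fun v => ?_⟩
    rw [← M.conj_act g (mem_cj.2 h1), h2]
  · rintro ⟨h1, h2⟩
    refine ⟨h1, fun v => ?_⟩
    rw [M.conj_act g (mem_cj.2 h1), h2]

end SzMod

end Cfsg.Agent.Omega.TwoFFour
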