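import Cfsg.Agent.Omega.TwoFFour.SzNorm
import Cfsg.Agent.ThreePrime.SzDataExists

/-!
# Quadratic modules of `Sz(q)` are natural

`exists_nat`: a finite irreducible nontrivial `F₂ Sz(q)`-module on which the centre `{U 0 b}` of a Sylow 2-subgroup acts
quadratically is the natural module `F⁴`.

Proof. `M = Z[T] W y` for every `y ≠ 0` in `C_M(T)`, the torus acts on `C_M(T)` by scalars of a field (this is additivity
of the quadratic action of `{U 0 b}`), and the submodule of `M × F⁴` generated by `(c y, c e₀)`, `c ∈ F`, is the graph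
of an isomorphism.
-/

set_option autoImplicit false
set_option linter.unusedSectionVars false

namespace Cfsg.Agent.Omega.TwoFFour

open Matrix
open Cfsg.Agent.LieRecognition.SzMatrix Cfsg.Agent.ThreePrime.SzRel

section fixed

variable {T : Type*} [Group T] {P : Type*} [AddCommGroup P]

theorem two_dvd_card [Finite P] (two : ∀ m : P, m + m = 0) {m : P} (hm : m ≠ 0) : 2 ∣ Nat.card P := by
  have h1 : addOrderOf m = 2 := by
    have : Fact (Nat.Prime 2) := ⟨Nat.prime_two⟩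
    exact addOrderOf_eq_prime (by rw [two_nsmul]; exact two m) hm
  rw [← h1]
  exact addOrderOf_dvd_natCard m

/-- a 2-group acting on a nonzero elementary abelian 2-group fixes a nonzero element -/
theorem exists_fix_of [Finite P] [DistribMulAction T P] (hT : IsPGroup 2 T) (two : ∀ m : P, m + m = 0)
    (hne : ∃ m : P, m ≠ 0) : ∃ m : P, m ≠ 0 ∧ ∀ t : T, t • m = m := by
  obtain ⟨m, hm⟩ := hne
  have : Fact (Nat.Prime 2) := ⟨Nat.prime_two⟩
  obtain ⟨b, hb, hb0⟩ := hT.exists_fixed_point_of_prime_dvd_card_of_fixed_point P (two_dvd_card two hm)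
    (a := 0) (fun t => smul_zero t)
  exact ⟨b, fun h => hb0 h.symm, hb⟩

/-- the dual action -/
def dualAct [DistribMulAction T P] : DistribMulAction T (P →+ ZMod 2) where
  smul t f := f.comp (DistribMulAction.toAddMonoidHom P t⁻¹)
  one_smul f := by
    ext m
    show f ((1 : T)⁻¹ • m) = f m
    rw [inv_one, one_smul]
  mul_smul t s f := by
    ext m
    show f ((t * s)⁻¹ • m) = f (s⁻¹ • t⁻¹ • m)
    rw [_root_.mul_inv_rev, mul_smul]
  smul_zero t := rfl
  smul_add t f g := rfl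

/-- a 2-group acting on a nonzero elementary abelian 2-group fixes a nonzero functional -/
theorem exists_fun_of [Finite P] [DistribMulAction T P] (hT : IsPGroup 2 T) (two : ∀ m : P, m + m = 0)
    (hne : ∃ m : P, m ≠ 0) : ∃ f : P →+ ZMod 2, (∃ m, f m ≠ 0) ∧ ∀ (t : T) m, f (t • m) = f m := by
  obtain ⟨m, hm⟩ := hne
  letI := dualAct (T := T) (P := P)
  letI : Module (ZMod 2) P := AddCommGroup.zmodModule (fun m => by rw [two_nsmul]; exact two m)
  have hfun : ∃ f : P →+ ZMod 2, f ≠ 0 := by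
    by_contra hcon
    push Not at hcon
    apply hm
    rw [← Module.forall_dual_apply_eq_zero_iff (ZMod 2) m]
    intro φ
    have h1 := hcon φ.toAddMonoidHom
    exact DFunLike.congr_fun h1 m
  have hfin : Finite (P →+ ZMod 2) := Finite.of_injective (fun f => (f : P → ZMod 2)) DFunLike.coe_injective
  obtain ⟨f, hf, hfix⟩ := exists_fix_of (P := P →+ ZMod 2) hT (fun f => by
    ext m
    show f m + f m = 0
    exact CharTwo.add_self_eq_zero _) hfun
  refine ⟨f, ?_, fun t m => ?_⟩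
  · by_contra hcon
    push Not at hcon
    exact hf (AddMonoidHom.ext hcon)
  · have h1 := DFunLike.congr_fun (hfix t⁻¹) m
    have h2 : f (t⁻¹⁻¹ • m) = f m := h1
    rwa [inv_inv] at h2

end fixed

/-- the Suzuki group -/
abbrev LS (F : Type*) [Field F] (e : ℕ) := ↥(Cfsg.Lie.Sz F e)

variable {F : Type*} [Field F] {θ : F →+* F} {e : ℕ} (H : Good F θ e)

theorem wuw {b : F} (hb : b ≠ 0) : ∃ a₁ b₁ a₂ b₂ : F, ∃ k : Fˣ, (k : F) = θ b ∧
    H.w * H.u 0 b * H.w = H.u a₁ b₁ * H.w * (H.u a₂ b₂ * H.d k) := by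
  rcases (ofGood H).bruhat (H.w * H.u 0 b * H.w) with ⟨a, b', k, h⟩ | ⟨a, b', c, d, k, h⟩
  · exact absurd ((ofGood H).inter _ _ _ _ _ h).2 hb
  · refine ⟨a, b', c, d, k, ?_, h⟩
    have h : H.w * H.u 0 b * H.w = H.u a b' * H.w * (H.u c d * H.d k) := h
    have h1 := congrArg (fun g : LS F e => mv g.1 ![1, 0, 0, 0] 3) h
    have h2 : mv (W F * H.U 0 b * W F) ![1, 0, 0, 0] 3 = mv (H.U a b' * W F * (H.U c d * H.D k)) ![1, 0, 0, 0] 3 := h1
    rw [mv_mul, mv_mul, mv_mul, mv_mul, mv_mul, mv_W, mv_W, mv_D, mv_U, mv_U, mv_W, mv_U] at h2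
    simpa using h2.symm

section module

variable {P : Type*} [AddCommGroup P] [DistribMulAction (LS F e) P]

/-- `{U 0 b}` acts quadratically -/
def Qd (H : Good F θ e) (P : Type*) [AddCommGroup P] [DistribMulAction (LS F e) P] : Prop :=
  ∀ (b c : F) (m : P), H.u 0 b • (H.u 0 c • m - m) = H.u 0 c • m - m

/-- the fixed points of `T` -/
def Fx (H : Good F θ e) (y : P) : Prop := ∀ a b, H.u a b • y = y

variable {H}

theorem Fx.d {y : P} (hy : Fx H y) (k : Fˣ) : Fx H (H.d k • y) := by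
  intro a b
  have h1 := H.d_mul_u k (a * ((k : F) ^ 2)⁻¹ * θ k) (b * (θ k)⁻¹)
  have hk := k.ne_zero
  have hθ := theta_ne_zero θ k
  have e1 : a * ((k : F) ^ 2)⁻¹ * θ k * k ^ 2 * (θ k)⁻¹ = a := by field_simp
  have e2 : b * (θ (k : F))⁻¹ * θ k = b := by field_simp
  rw [e1, e2] at h1
  rw [← mul_smul, ← h1, mul_smul, hy]

/-- the elements `u_b w d_b y` -/
theorem exists_E (two : ∀ m : P, m + m = 0) (hQ : Qd H P) : ∃ E : F → P → P,
    (∀ b, b ≠ 0 → ∀ y, Fx H y → ∃ (a₁ b₁ : F) (k : Fˣ), (k : F) = θ b ∧ E b y = H.u a₁ b₁ • H.w • H.d k • y) ∧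
    ∀ b c, b ≠ 0 → c ≠ 0 → b ≠ c → ∀ y, Fx H y → y = E b y + E c y + E (b + c) y := by
  refine ⟨fun b y => H.w • H.u 0 b • H.w • y, ?_, ?_⟩
  · intro b hb y hy
    obtain ⟨a₁, b₁, a₂, b₂, k, hk, h⟩ := wuw H hb
    refine ⟨a₁, b₁, k, hk, ?_⟩
    show H.w • H.u 0 b • H.w • y = _
    rw [← mul_smul, ← mul_smul, h, mul_smul, mul_smul, mul_smul, hy.d k]
  · intro b c _ _ _ y _
    show y = H.w • H.u 0 b • H.w • y + H.w • H.u 0 c • H.w • y + H.w • H.u 0 (b + c) • H.w • y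
    set x := H.w • y with hx
    have h1 : H.u 0 (b + c) = H.u 0 b * H.u 0 c := by rw [H.u_mul]; simp
    have h2 := hQ b c x
    have h3 : H.u 0 (b + c) • x = H.u 0 b • x + H.u 0 c • x + x := by
      rw [h1, mul_smul]
      rw [smul_sub] at h2
      have h4 := two x
      calc H.u 0 b • H.u 0 c • x = (H.u 0 b • H.u 0 c • x - H.u 0 b • x) + H.u 0 b • x := by abel
        _ = (H.u 0 c • x - x) + H.u 0 b • x := by rw [h2]
        _ = H.u 0 b • x + H.u 0 c • x + x - (x + x) := by abel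
        _ = _ := by rw [h4, sub_zero]
    have h5 : H.w • x = y := by rw [hx, ← mul_smul, H.w_mul_w, one_smul]
    rw [h3, smul_add, smul_add, h5]
    have h6 := two (H.w • H.u 0 b • x)
    have h7 := two (H.w • H.u 0 c • x)
    have h8 : H.w • H.u 0 b • x + H.w • H.u 0 c • x + (H.w • H.u 0 b • x + H.w • H.u 0 c • x + y) =
        (H.w • H.u 0 b • x + H.w • H.u 0 b • x) + (H.w • H.u 0 c • x + H.w • H.u 0 c • x) + y := by abel
    rw [h8, h6, h7, zero_add, zero_add]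

/-- the span of `T W Δ` -/
def sp (H : Good F θ e) (Δ : AddSubgroup P) : AddSubgroup P :=
  AddSubgroup.closure {m | ∃ a b, ∃ δ ∈ Δ, m = H.u a b • H.w • δ}

theorem mem_sp {Δ : AddSubgroup P} {δ : P} (hδ : δ ∈ Δ) (a b : F) : H.u a b • H.w • δ ∈ sp H Δ :=
  AddSubgroup.subset_closure ⟨a, b, δ, hδ, rfl⟩

theorem sp_smul {Δ : AddSubgroup P} {g : LS F e} (hg : ∀ a b, ∀ δ ∈ Δ, g • H.u a b • H.w • δ ∈ sp H Δ) {m : P}
    (hm : m ∈ sp H Δ) : g • m ∈ sp H Δ := by
  have h1 : sp H Δ ≤ (sp H Δ).comap (DistribMulAction.toAddMonoidHom P g) := by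
    conv_lhs => unfold sp
    rw [AddSubgroup.closure_le]
    rintro _ ⟨a, b, δ, hδ, rfl⟩
    exact hg a b δ hδ
  exact h1 hm

theorem exists_ne_ne [Finite F] (h4 : 3 ≤ Nat.card F) : ∃ c : F, c ≠ 0 ∧ c ≠ 1 := by
  by_contra hcon
  push Not at hcon
  have h1 : (Set.univ : Set F) ⊆ {0, 1} := by
    intro c _
    by_cases hc : c = 0
    · exact Or.inl hc
    · exact Or.inr (hcon c hc)
  have h2 := Set.ncard_le_ncard h1 (by simp)
  rw [Set.ncard_univ, Set.ncard_pair zero_ne_one] at h2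
  omega

theorem le_sp [Finite F] (h4 : 3 ≤ Nat.card F) (two : ∀ m : P, m + m = 0) (hQ : Qd H P) {Δ : AddSubgroup P}
    (hΔ : ∀ δ ∈ Δ, Fx H δ) (hΔK : ∀ k, ∀ δ ∈ Δ, H.d k • δ ∈ Δ) : Δ ≤ sp H Δ := by
  intro δ hδ
  obtain ⟨E, hE, hE'⟩ := exists_E two hQ
  obtain ⟨c, hc0, hc1⟩ := exists_ne_ne h4
  have h1c : (1 : F) + c ≠ 0 := by
    intro h
    apply hc1
    have := H.add_self c
    linear_combination this - h
  rw [hE' 1 c one_ne_zero hc0 (Ne.symm hc1) δ (hΔ δ hδ)]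
  have key : ∀ b, b ≠ 0 → E b δ ∈ sp H Δ := by
    intro b hb
    obtain ⟨a₁, b₁, k, -, h⟩ := hE b hb δ (hΔ δ hδ)
    rw [h]
    exact mem_sp (hΔK k δ hδ) _ _
  exact add_mem (add_mem (key _ one_ne_zero) (key _ hc0)) (key _ h1c)

theorem sp_inv [Finite F] (h4 : 3 ≤ Nat.card F) (two : ∀ m : P, m + m = 0) (hQ : Qd H P) {Δ : AddSubgroup P}
    (hΔ : ∀ δ ∈ Δ, Fx H δ) (hΔK : ∀ k, ∀ δ ∈ Δ, H.d k • δ ∈ Δ) (g : LS F e) {m : P} (hm : m ∈ sp H Δ) :
    g • m ∈ sp H Δ := by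
  have hu : ∀ a b, ∀ m ∈ sp H Δ, H.u a b • m ∈ sp H Δ := by
    intro a b m hm
    refine sp_smul (fun a' b' δ hδ => ?_) hm
    rw [← mul_smul, H.u_mul]
    exact mem_sp hδ _ _
  have hd : ∀ k, ∀ m ∈ sp H Δ, H.d k • m ∈ sp H Δ := by
    intro k m hm
    refine sp_smul (fun a' b' δ hδ => ?_) hm
    have h1 : H.d k * H.w = H.w * H.d k⁻¹ := by
      have := H.w_mul_d k⁻¹
      rw [inv_inv] at this
      exact this.symm
    rw [← mul_smul, H.d_mul_u, mul_smul, ← mul_smul (H.d k), h1, mul_smul H.w]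
    exact mem_sp (hΔK _ δ hδ) _ _
  have hw : ∀ m ∈ sp H Δ, H.w • m ∈ sp H Δ := by
    intro m hm
    refine sp_smul (fun a b δ hδ => ?_) hm
    rcases (ofGood H).bruhat (H.w * H.u a b * H.w) with ⟨a', b', k, h⟩ | ⟨a', b', c', d', k, h⟩
    · obtain ⟨rfl, rfl⟩ := (ofGood H).inter _ _ _ _ _ h
      have e1 : H.w • H.u 0 0 • H.w • δ = δ := by
        rw [H.u_zero, one_smul, ← mul_smul, H.w_mul_w, one_smul]
      rw [e1]
      exact le_sp h4 two hQ hΔ hΔK hδ
    · have h : H.w * H.u a b * H.w = H.u a' b' * H.w * (H.u c' d' * H.d k) := h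
      rw [← mul_smul, ← mul_smul, h, mul_smul, mul_smul, mul_smul, (hΔ δ hδ).d k]
      exact mem_sp (hΔK k δ hδ) _ _
  rcases (ofGood H).bruhat g with ⟨a, b, k, h⟩ | ⟨a, b, c, d, k, h⟩
  · have h : g = H.u a b * H.d k := h
    rw [h, mul_smul]
    exact hu _ _ _ (hd _ _ hm)
  · have h : g = H.u a b * H.w * (H.u c d * H.d k) := h
    rw [h, mul_smul, mul_smul, mul_smul]
    exact hu _ _ _ (hw _ (hu _ _ _ (hd _ _ hm)))

end module

end Cfsg.Agent.Omega.TwoFFour
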