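import Cfsg.Agent.Omega.TwoFFour.SzNat

set_option autoImplicit false
set_option linter.unusedSectionVars false

namespace Cfsg.Agent.Omega.TwoFFour

open Matrix
open Cfsg.Agent.LieRecognition.SzMatrix Cfsg.Agent.ThreePrime.SzRel

variable {F : Type*} [Field F] {θ : F →+* F} {e : ℕ} {H : Good F θ e}

section module2

variable {P : Type*} [AddCommGroup P] [DistribMulAction (LS F e) P]

/-- induction on the span -/
theorem clos_ind {X : Set P} (p : P → Prop) (h0 : p 0) (hadd : ∀ x y, p x → p y → p (x + y)) (hneg : ∀ x, p x → p (-x))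
    (hX : ∀ x ∈ X, p x) {m : P} (hm : m ∈ AddSubgroup.closure X) : p m :=
  AddSubgroup.closure_induction (p := fun x _ => p x) hX h0 (fun x y _ _ => hadd x y) (fun x _ => hneg x) hm

theorem smul_zero' (g : LS F e) : g • (0 : P) = 0 := smul_zero g

theorem smul_add' (g : LS F e) (x y : P) : g • (x + y) = g • x + g • y := smul_add g x y

theorem smul_neg' (g : LS F e) (x : P) : g • (-x) = -(g • x) := smul_neg g x

theorem Fx.zero : Fx H (0 : P) := fun _ _ => smul_zero _

theorem Fx.add {x y : P} (hx : Fx H x) (hy : Fx H y) : Fx H (x + y) := fun a b => by rw [smul_add, hx, hy]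

theorem Fx.neg {x : P} (hx : Fx H x) : Fx H (-x) := fun a b => by rw [smul_neg, hx]

/-- the hypotheses of the main theorem -/
structure Hy [Finite F] (H : Good F θ e) (P : Type*) [AddCommGroup P] [DistribMulAction (LS F e) P] : Prop where
  three : 3 ≤ Nat.card F
  two : ∀ m : P, m + m = 0
  quad : Qd H P
  irr : ∀ X : AddSubgroup P, (∀ (g : LS F e), ∀ x ∈ X, g • x ∈ X) → X = ⊥ ∨ X = ⊤
  ntriv : ∃ (g : LS F e) (m : P), g • m ≠ m

section irr

variable [Finite F] [Finite P] (h : Hy H P)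
include h

theorem Hy.sp_eq {Δ : AddSubgroup P} (hΔ : ∀ δ ∈ Δ, Fx H δ) (hΔK : ∀ k, ∀ δ ∈ Δ, H.d k • δ ∈ Δ) (hne : Δ ≠ ⊥) :
    sp H Δ = ⊤ := by
  rcases h.irr (sp H Δ) (fun g m hm => sp_inv h.three h.two h.quad hΔ hΔK g hm) with h1 | h1
  · exfalso
    apply hne
    rw [eq_bot_iff, ← h1]
    exact le_sp h.three h.two h.quad hΔ hΔK
  · exact h1

/-- `T`-invariant functionals are determined on `W C_M(T)` -/
theorem Hy.fun_eq {f : P →+ ZMod 2} (hf : ∀ a b m, f (H.u a b • m) = f m) {z : P} (hz : Fx H z) (hz0 : z ≠ 0)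
    (hfz : ∀ k, f (H.w • H.d k • z) = 0) : f = 0 := by
  -- `Δ` = span of the `d k z`
  let Δ : AddSubgroup P := AddSubgroup.closure {m | ∃ k, m = H.d k • z}
  have hΔ : ∀ δ ∈ Δ, Fx H δ := by
    intro δ hδ
    refine clos_ind (Fx H) Fx.zero (fun _ _ => Fx.add) (fun _ => Fx.neg) ?_ hδ
    rintro _ ⟨k, rfl⟩
    exact hz.d k
  have hΔK : ∀ k, ∀ δ ∈ Δ, H.d k • δ ∈ Δ := by
    intro k δ hδ
    refine clos_ind (fun x => H.d k • x ∈ Δ) ?_ ?_ ?_ ?_ hδ
    · show H.d k • (0 : P) ∈ Δ
      rw [smul_zero]; exact Δ.zero_mem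
    · intro x y hx hy
      show H.d k • (x + y) ∈ Δ
      rw [smul_add]; exact Δ.add_mem hx hy
    · intro x hx
      show H.d k • (-x) ∈ Δ
      rw [smul_neg]; exact Δ.neg_mem hx
    · rintro _ ⟨l, rfl⟩
      refine AddSubgroup.subset_closure ⟨k * l, ?_⟩
      rw [← mul_smul, H.d_mul]
  have hne : Δ ≠ ⊥ := by
    intro h1
    apply hz0
    have h2 : z ∈ Δ := AddSubgroup.subset_closure ⟨1, by rw [H.d_one, one_smul]⟩
    rw [h1] at h2
    exact h2
  have h1 := h.sp_eq hΔ hΔK hne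
  have h2 : ∀ δ ∈ Δ, f (H.w • δ) = 0 := by
    intro δ hδ
    refine clos_ind (fun x => f (H.w • x) = 0) ?_ ?_ ?_ ?_ hδ
    · show f (H.w • (0 : P)) = 0
      rw [smul_zero, map_zero]
    · intro x y hx hy
      show f (H.w • (x + y)) = 0
      rw [smul_add, map_add, hx, hy, add_zero]
    · intro x hx
      show f (H.w • (-x)) = 0
      rw [smul_neg, map_neg, hx, neg_zero]
    · rintro _ ⟨k, rfl⟩
      exact hfz k
  ext m
  have h4 : m ∈ sp H Δ := by rw [h1]; exact AddSubgroup.mem_top m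
  show f m = 0
  refine clos_ind (fun x => f x = 0) (map_zero f) ?_ ?_ ?_ h4
  · intro x y hx hy
    show f (x + y) = 0
    rw [map_add, hx, hy, add_zero]
  · intro x hx
    show f (-x) = 0
    rw [map_neg, hx, neg_zero]
  · rintro _ ⟨a, b, δ, hδ, rfl⟩
    rw [hf, h2 δ hδ]

theorem Hy.exists_f : ∃ f : P →+ ZMod 2, f ≠ 0 ∧ ∀ a b m, f (H.u a b • m) = f m := by
  obtain ⟨g, m, hgm⟩ := h.ntriv
  have hne : ∃ m : P, m ≠ 0 := by
    by_contra hcon
    push Not at hcon
    apply hgm
    rw [hcon m, smul_zero]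
  obtain ⟨f, ⟨m', hm'⟩, hf⟩ := exists_fun_of (T := (ofGood H).T) (ofGood H).isPGroup h.two hne
  refine ⟨f, ?_, fun a b m => hf ⟨H.u a b, (ofGood H).u_mem a b⟩ m⟩
  rintro rfl
  exact hm' rfl

theorem Hy.exists_y : ∃ y : P, y ≠ 0 ∧ Fx H y := by
  obtain ⟨g, m, hgm⟩ := h.ntriv
  have hne : ∃ m : P, m ≠ 0 := by
    by_contra hcon
    push Not at hcon
    apply hgm
    rw [hcon m, smul_zero]
  obtain ⟨y, hy, hy'⟩ := exists_fix_of (T := (ofGood H).T) (ofGood H).isPGroup h.two hne
  exact ⟨y, hy, fun a b => hy' ⟨H.u a b, (ofGood H).u_mem a b⟩⟩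

/-- no vector fixed by the Borel subgroup -/
theorem Hy.no_borel {z : P} (hz : Fx H z) (hzK : ∀ k, H.d k • z = z) : z = 0 := by
  by_contra hz0
  obtain ⟨f, hf0, hf⟩ := h.exists_f
  let Δ : AddSubgroup P := AddSubgroup.zmultiples z
  have hΔ' : ∀ δ ∈ Δ, δ = 0 ∨ δ = z := by
    rintro _ ⟨n, rfl⟩
    rcases Int.even_or_odd' n with ⟨m, rfl | rfl⟩
    · left
      show (2 * m) • z = 0
      rw [mul_comm, mul_smul, two_smul, h.two, smul_zero]
    · right
      show (2 * m + 1) • z = z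
      rw [add_smul, mul_comm, mul_smul, two_smul, h.two, smul_zero, zero_add, one_smul]
  have hΔ : ∀ δ ∈ Δ, Fx H δ := by
    intro δ hδ a b
    rcases hΔ' δ hδ with rfl | rfl
    · exact smul_zero _
    · exact hz a b
  have hΔK : ∀ k, ∀ δ ∈ Δ, H.d k • δ ∈ Δ := by
    intro k δ hδ
    rcases hΔ' δ hδ with rfl | rfl
    · rw [smul_zero]; exact hδ
    · rw [hzK]; exact hδ
  have hne : Δ ≠ ⊥ := by
    intro h1
    apply hz0
    have h2 : z ∈ Δ := AddSubgroup.mem_zmultiples z
    rw [h1] at h2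
    exact h2
  have hsp := h.sp_eq hΔ hΔK hne
  -- the orbit
  let O : Set P := {m | m = z ∨ ∃ a b, m = H.u a b • H.w • z}
  have hOu : ∀ a b, ∀ m ∈ O, H.u a b • m ∈ O := by
    rintro a b m (rfl | ⟨a', b', rfl⟩)
    · left; exact hz a b
    · right
      exact ⟨_, _, by rw [← mul_smul, H.u_mul]⟩
  have hOd : ∀ k, ∀ m ∈ O, H.d k • m ∈ O := by
    rintro k m (rfl | ⟨a', b', rfl⟩)
    · left; exact hzK k
    · have h1 : H.d k * H.w = H.w * H.d k⁻¹ := by
        have := H.w_mul_d k⁻¹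
        rw [inv_inv] at this
        exact this.symm
      rw [← mul_smul, H.d_mul_u, mul_smul, ← mul_smul (H.d k), h1, mul_smul H.w, hzK]
      exact Or.inr ⟨_, _, rfl⟩
  have hOw : ∀ m ∈ O, H.w • m ∈ O := by
    rintro m (rfl | ⟨a, b, rfl⟩)
    · right
      exact ⟨0, 0, by rw [H.u_zero, one_smul]⟩
    · rcases (ofGood H).bruhat (H.w * H.u a b * H.w) with ⟨a', b', k, h⟩ | ⟨a', b', c', d', k, h⟩
      · obtain ⟨rfl, rfl⟩ := (ofGood H).inter _ _ _ _ _ h
        left
        rw [H.u_zero, one_smul, ← mul_smul, H.w_mul_w, one_smul]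
      · have h : H.w * H.u a b * H.w = H.u a' b' * H.w * (H.u c' d' * H.d k) := h
        right
        refine ⟨a', b', ?_⟩
        rw [← mul_smul, ← mul_smul, h, mul_smul, mul_smul, mul_smul, hzK, hz]
  have hO : ∀ (g : LS F e), ∀ m ∈ O, g • m ∈ O := by
    intro g m hm
    rcases (ofGood H).bruhat g with ⟨a, b, k, h⟩ | ⟨a, b, c, d, k, h⟩
    · have h : g = H.u a b * H.d k := h
      rw [h, mul_smul]
      exact hOu _ _ _ (hOd _ _ hm)
    · have h : g = H.u a b * H.w * (H.u c d * H.d k) := h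
      rw [h, mul_smul, mul_smul, mul_smul]
      exact hOu _ _ _ (hOw _ (hOu _ _ _ (hOd _ _ hm)))
  -- `f` is constant on the orbit
  have hfw : f (H.w • z) = 1 := by
    have h1 : f (H.w • z) ≠ 0 := by
      intro h2
      apply hf0
      refine h.fun_eq hf hz hz0 fun k => ?_
      rw [hzK, h2]
    rcases zmod_two (f (H.w • z)) with h2 | h2
    · exact absurd h2 h1
    · exact h2
  have hfz : f z = 1 := by
    obtain ⟨E, hE, hE'⟩ := exists_E h.two h.quad
    obtain ⟨c, hc0, hc1⟩ := exists_ne_ne h.three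
    have h1c : (1 : F) + c ≠ 0 := by
      intro h
      apply hc1
      have := H.add_self c
      linear_combination this - h
    have key : ∀ b, b ≠ 0 → f (E b z) = 1 := by
      intro b hb
      obtain ⟨a₁, b₁, k, -, h⟩ := hE b hb z hz
      rw [h, hf, hzK, hfw]
    have h3 := congrArg f (hE' 1 c one_ne_zero hc0 (Ne.symm hc1) z hz)
    rw [map_add, map_add, key _ one_ne_zero, key _ hc0, key _ h1c] at h3
    rw [h3]
    decide
  have hfO : ∀ m ∈ O, f m = 1 := by
    rintro m (rfl | ⟨a, b, rfl⟩)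
    · exact hfz
    · rw [hf, hfw]
  -- `f` is `L`-invariant
  have hspO : ∀ m, m ∈ AddSubgroup.closure O := by
    intro m
    have hm : m ∈ sp H Δ := by rw [hsp]; exact AddSubgroup.mem_top m
    refine clos_ind (fun x => x ∈ AddSubgroup.closure O) (AddSubgroup.zero_mem _) (fun _ _ => AddSubgroup.add_mem _)
      (fun _ => AddSubgroup.neg_mem _) ?_ hm
    rintro _ ⟨a, b, δ, hδ, rfl⟩
    rcases hΔ' δ hδ with rfl | rfl
    · rw [smul_zero, smul_zero]; exact AddSubgroup.zero_mem _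
    · exact AddSubgroup.subset_closure (Or.inr ⟨a, b, rfl⟩)
  have hfg : ∀ (g : LS F e) m, f (g • m) = f m := by
    intro g m
    refine clos_ind (fun x => f (g • x) = f x) ?_ ?_ ?_ ?_ (hspO m)
    · show f (g • (0 : P)) = f 0
      rw [smul_zero]
    · intro x y hx hy
      show f (g • (x + y)) = f (x + y)
      rw [smul_add, map_add, map_add, hx, hy]
    · intro x hx
      show f (g • (-x)) = f (-x)
      rw [smul_neg, map_neg, map_neg, hx]
    · intro m hm
      rw [hfO m hm, hfO _ (hO g m hm)]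
  -- the kernel
  rcases h.irr f.ker (fun g x hx => by
    rw [AddMonoidHom.mem_ker] at hx ⊢
    rw [hfg, hx]) with h1 | h1
  · obtain ⟨g, m, hgm⟩ := h.ntriv
    apply hgm
    have h2 : g • m - m ∈ f.ker := by
      rw [AddMonoidHom.mem_ker, map_sub, hfg, sub_self]
    rw [h1] at h2
    exact sub_eq_zero.1 ((AddSubgroup.mem_bot).1 h2)
  · apply hf0
    ext m
    have h2 : m ∈ f.ker := by rw [h1]; exact AddSubgroup.mem_top m
    exact (AddMonoidHom.mem_ker).1 h2

/-- **additivity of the torus** -/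
theorem Hy.add {y : P} (hy : Fx H y) {k l r : Fˣ} (hkl : (k : F) + l = r) : H.d k • y + H.d l • y = H.d r • y := by
  obtain ⟨b, hb⟩ : ∃ b, θ b = k := Finite.surjective_of_injective θ.injective (k : F)
  obtain ⟨c, hc⟩ : ∃ c, θ c = l := Finite.surjective_of_injective θ.injective (l : F)
  have hb0 : b ≠ 0 := by
    rintro rfl
    rw [map_zero] at hb
    exact k.ne_zero hb.symm
  have hc0 : c ≠ 0 := by
    rintro rfl
    rw [map_zero] at hc
    exact l.ne_zero hc.symm
  have hbc : b ≠ c := by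
    rintro rfl
    apply r.ne_zero
    rw [← hkl, ← hb, ← hc]
    exact H.add_self _
  have hbc0 : b + c ≠ 0 := by
    intro h1
    apply hbc
    have := H.add_self c
    linear_combination h1 - this
  obtain ⟨E, hE, hE'⟩ := exists_E h.two h.quad
  -- `z = d k y + d l y + d r y`
  set z := H.d k • y + H.d l • y + H.d r • y with hz
  have hzF : Fx H z := by
    intro a b
    rw [hz, smul_add, smul_add, hy.d k a b, hy.d l a b, hy.d r a b]
  -- the relation for functionals
  have rel : ∀ (f : P →+ ZMod 2), (∀ a b m, f (H.u a b • m) = f m) → ∀ s : Fˣ,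
      f (H.d s • y) = f (H.w • H.d s • z) := by
    intro f hf s
    have key : ∀ b, b ≠ 0 → ∀ t : Fˣ, θ b = t → f (E b (H.d s • y)) = f (H.w • H.d s • H.d t • y) := by
      intro b hb t ht
      obtain ⟨a₁, b₁, k', hk', h⟩ := hE b hb (H.d s • y) (hy.d s)
      have h1 : k' = t := Units.ext (hk'.trans ht)
      rw [h, hf, h1, ← mul_smul (H.d t), H.d_mul, mul_comm t s, ← H.d_mul, mul_smul (H.d s)]
    have h3 := congrArg f (hE' b c hb0 hc0 hbc _ (hy.d s))
    rw [map_add, map_add, key b hb0 k hb, key c hc0 l hc, key (b + c) hbc0 r (by rw [map_add, hb, hc, hkl])] at h3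
    rw [h3, hz, smul_add, smul_add, smul_add, smul_add, map_add, map_add]
  have hconj : ∀ s, H.d s * H.w = H.w * H.d s⁻¹ := by
    intro s
    have := H.w_mul_d s⁻¹
    rw [inv_inv] at this
    exact this.symm
  -- `d s z = d s⁻¹ z`
  have hz2 : ∀ s, H.d s • z = H.d s⁻¹ • z := by
    intro s
    obtain ⟨f, hf0, hf⟩ := h.exists_f
    by_contra hne
    apply hf0
    have hF1 : Fx H (H.d s • z - H.d s⁻¹ • z) := by
      intro a b
      rw [smul_sub, hzF.d s a b, hzF.d s⁻¹ a b]
    refine h.fun_eq hf hF1 (sub_ne_zero.2 hne) fun t => ?_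
    -- the functional `f ∘ d t⁻¹`
    obtain ⟨f', hf'0⟩ : ∃ f' : P →+ ZMod 2, ∀ m, f' m = f (H.d s • m) :=
      ⟨{ toFun := fun m => f (H.d s • m), map_zero' := by rw [smul_zero, map_zero]
         map_add' := fun x y => by rw [smul_add, map_add] }, fun _ => rfl⟩
    have hf' : ∀ a b m, f' (H.u a b • m) = f' m := by
      intro a b m
      rw [hf'0, hf'0, ← mul_smul, H.d_mul_u, mul_smul, hf]
    have h1 := rel f hf (s * t)
    have h2 := rel f' hf' t
    have h3 : f' (H.d t • y) = f (H.d (s * t) • y) := by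
      rw [hf'0, ← mul_smul, H.d_mul]
    have h4 : f' (H.w • H.d t • z) = f (H.w • H.d t • H.d s⁻¹ • z) := by
      rw [hf'0, ← mul_smul, hconj, mul_smul, ← mul_smul (H.d s⁻¹), H.d_mul, mul_comm, ← H.d_mul, mul_smul (H.d t)]
    rw [h3, h1, h4, mul_comm s t, ← H.d_mul, mul_smul] at h2
    rw [smul_sub, smul_sub, map_sub, h2, sub_self]
  -- so `z` is fixed by the torus
  have hz3 : ∀ s, H.d s • z = z := by
    intro s
    obtain ⟨t, ht⟩ : ∃ t : Fˣ, t * t = s := by
      have hinj : Function.Injective (fun t : Fˣ => t * t) := by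
        intro x y hxy
        have h1 : (x : F) * x = y * y := congrArg Units.val hxy
        have h2 : ((x : F) - y) ^ 2 = 0 := by
          have := H.two
          linear_combination h1 + ((y : F) ^ 2 - x * y) * this
        exact Units.ext (sub_eq_zero.1 (pow_eq_zero_iff two_ne_zero |>.1 h2))
      exact Finite.surjective_of_injective hinj s
    have h1 := congrArg (fun m => H.d t • m) (hz2 t)
    have h2 : H.d t • H.d t • z = H.d t • H.d t⁻¹ • z := h1
    rw [← mul_smul, ← mul_smul, H.d_mul, H.d_mul, ht, mul_inv_cancel, H.d_one, one_smul] at h2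
    exact h2
  have h5 := h.no_borel hzF hz3
  have h6 := h.two (H.d r • y)
  rw [hz] at h5
  calc H.d k • y + H.d l • y = (H.d k • y + H.d l • y + H.d r • y) + H.d r • y - (H.d r • y + H.d r • y) := by abel
    _ = H.d r • y := by rw [h5, h6, sub_zero, zero_add]




end irr

end module2

end Cfsg.Agent.Omega.TwoFFour
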