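import Cfsg.Agent.Omega.TwoFFour.SzNatB

/-!
# Quadratic modules of `Sz(q)` are natural: the identification

`Hy.exists_nat`: the graph of an isomorphism with `F⁴`.
-/

set_option autoImplicit false
set_option linter.unusedSectionVars false

namespace Cfsg.Agent.Omega.TwoFFour

open Matrix
open Cfsg.Agent.LieRecognition.SzMatrix Cfsg.Agent.ThreePrime.SzRel

variable {F : Type*} [Field F] {θ : F →+* F} {e : ℕ} {H : Good F θ e}

/-- the natural module -/
def NN (F : Type*) : Type _ := Fin 4 → F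

instance : AddCommGroup (NN F) := inferInstanceAs (AddCommGroup (Fin 4 → F))

/-- the action of `Sz(q)` on the natural module -/
instance instNN : DistribMulAction (LS F e) (NN F) where
  smul g v := mv g.1 v
  one_smul v := mv_one v
  mul_smul g h v := mv_mul g.1 h.1 v
  smul_zero g := mv_zero g.1
  smul_add g v w := mv_add g.1 v w

theorem NN.smul_def (g : LS F e) (v : NN F) : g • v = (mv g.1 v : Fin 4 → F) := rfl

/-- the vector `c e₀` -/
def NN.s (c : F) : NN F := (Pi.single 0 c : Fin 4 → F)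

theorem NN.s_add (a b : F) : NN.s (a + b) = NN.s a + NN.s b := by
  have h1 : (Pi.single 0 (a + b) : Fin 4 → F) = Pi.single 0 a + Pi.single 0 b := by
    apply ext4 <;> simp
  exact h1

theorem NN.s_zero : NN.s (0 : F) = 0 := by
  have h1 : (Pi.single 0 0 : Fin 4 → F) = 0 := by
    apply ext4 <;> simp
  exact h1

theorem NN.s_neg (a : F) : NN.s (-a) = -NN.s a := by
  have h1 : (Pi.single 0 (-a) : Fin 4 → F) = -Pi.single 0 a := by
    apply ext4 <;> simp
  exact h1

theorem NN.two (H : Good F θ e) (v : NN F) : v + v = 0 := by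
  funext i
  exact H.add_self _

theorem NN.quad (H : Good F θ e) : Qd H (NN F) := by
  intro b c m
  by_cases hb : b = 0
  · subst hb
    rw [H.u_zero, one_smul]
  · have h1 : ∀ m : Fin 4 → F, mv (H.U 0 b) (mv (H.U 0 c) m - m) = mv (H.U 0 c) m - m := by
      intro m
      rw [fix_Z H hb]
      constructor
      · rw [mv_U]
        show m 2 + 0 * m 3 - m 2 = 0
        ring
      · rw [mv_U]
        show m 3 - m 3 = 0
        ring
    exact h1 m

theorem NN.fx (H : Good F θ e) (c : F) : Fx H (NN.s c) := by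
  intro a b
  have h1 : mv (H.U a b) (Pi.single 0 c) = Pi.single 0 c := by
    refine (fix_T H).2 ?_ a b
    simp
  exact h1

theorem NN.d_s (H : Good F θ e) (k : Fˣ) (c : F) : H.d k • NN.s c = NN.s (k * c) := by
  have h1 : mv (H.D k) (Pi.single 0 c) = Pi.single 0 (k * c) := by
    rw [mv_D]
    apply ext4 <;> simp
  exact h1

section irr

variable {P : Type*} [AddCommGroup P] [DistribMulAction (LS F e) P] [Finite F] [Finite P]

open scoped Classical in
/-- the vectors `d c y` -/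
noncomputable def sc (H : Good F θ e) (y : P) (c : F) : P := if hc : c = 0 then 0 else H.d (Units.mk0 c hc) • y

theorem sc_zero (y : P) : sc H y 0 = 0 := dif_pos rfl

theorem sc_unit (y : P) (k : Fˣ) : sc H y k = H.d k • y := by
  unfold sc
  rw [dif_neg k.ne_zero]
  congr 2
  exact Units.ext rfl

theorem sc_fx {y : P} (hy : Fx H y) (c : F) : Fx H (sc H y c) := by
  by_cases hc : c = 0
  · rw [hc, sc_zero]; exact Fx.zero
  · have h1 := sc_unit (H := H) y (Units.mk0 c hc)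
    rw [Units.val_mk0] at h1
    rw [h1]
    exact hy.d _

theorem d_sc (y : P) (k : Fˣ) (c : F) : H.d k • sc H y c = sc H y (k * c) := by
  by_cases hc : c = 0
  · rw [hc, mul_zero, sc_zero, smul_zero]
  · have h1 := sc_unit (H := H) y (Units.mk0 c hc)
    have h2 := sc_unit (H := H) y (k * Units.mk0 c hc)
    rw [Units.val_mk0] at h1
    rw [Units.val_mul, Units.val_mk0] at h2
    rw [h1, h2, ← mul_smul, H.d_mul]

theorem Hy.sc_add (h : Hy H P) {y : P} (hy : Fx H y) (a b : F) : sc H y (a + b) = sc H y a + sc H y b := by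
  by_cases ha : a = 0
  · rw [ha, sc_zero, zero_add, zero_add]
  by_cases hb : b = 0
  · rw [hb, sc_zero, add_zero, add_zero]
  by_cases hab : a + b = 0
  · have h1 : a = b := by linear_combination hab - H.add_self b
    rw [hab, sc_zero, h1, h.two]
  · have h1 := sc_unit (H := H) y (Units.mk0 a ha)
    have h2 := sc_unit (H := H) y (Units.mk0 b hb)
    have h3 := sc_unit (H := H) y (Units.mk0 (a + b) hab)
    rw [Units.val_mk0] at h1 h2 h3
    rw [h1, h2, h3]
    exact (h.add hy rfl).symm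

theorem Hy.sc_neg (h : Hy H P) {y : P} (hy : Fx H y) (a : F) : sc H y (-a) = -sc H y a := by
  have h1 := h.sc_add hy (-a) a
  rw [neg_add_cancel, sc_zero] at h1
  exact eq_neg_of_add_eq_zero_left h1.symm

/-- the diagonal subgroup -/
noncomputable def Hy.Δ (h : Hy H P) {y : P} (hy : Fx H y) : AddSubgroup (P × NN F) where
  carrier := {m | ∃ c : F, m = (sc H y c, NN.s c)}
  zero_mem' := ⟨0, by rw [sc_zero, NN.s_zero]; rfl⟩
  add_mem' := by
    rintro _ _ ⟨a, rfl⟩ ⟨b, rfl⟩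
    exact ⟨a + b, by rw [h.sc_add hy, NN.s_add]; rfl⟩
  neg_mem' := by
    rintro _ ⟨a, rfl⟩
    exact ⟨-a, by rw [h.sc_neg hy, NN.s_neg]; rfl⟩

theorem Hy.mem_Δ (h : Hy H P) {y : P} (hy : Fx H y) {m : P × NN F} :
    m ∈ h.Δ hy ↔ ∃ c : F, m = (sc H y c, NN.s c) := Iff.rfl

theorem two_prod (h : Hy H P) (m : P × NN F) : m + m = 0 := Prod.ext (h.two _) (NN.two H _)

theorem quad_prod (h : Hy H P) : Qd H (P × NN F) := fun b c m => Prod.ext (h.quad b c m.1) (NN.quad H b c m.2)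

theorem Hy.Δ_fx (h : Hy H P) {y : P} (hy : Fx H y) : ∀ δ ∈ h.Δ hy, Fx H δ := by
  rintro _ ⟨c, rfl⟩ a b
  exact Prod.ext (sc_fx hy c a b) (NN.fx H c a b)

theorem Hy.Δ_d (h : Hy H P) {y : P} (hy : Fx H y) (k : Fˣ) : ∀ δ ∈ h.Δ hy, H.d k • δ ∈ h.Δ hy := by
  rintro _ ⟨c, rfl⟩
  exact ⟨k * c, Prod.ext (d_sc y k c) (NN.d_s H k c)⟩

/-- the graph -/
noncomputable def Hy.S (h : Hy H P) {y : P} (hy : Fx H y) : AddSubgroup (P × NN F) := sp H (h.Δ hy)

theorem Hy.S_smul (h : Hy H P) {y : P} (hy : Fx H y) (g : LS F e) {m : P} {v : NN F} (hm : (m, v) ∈ h.S hy) :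
    (g • m, g • v) ∈ h.S hy :=
  sp_inv h.three (two_prod h) (quad_prod h) (h.Δ_fx hy) (h.Δ_d hy) g hm

theorem Hy.S_sc (h : Hy H P) {y : P} (hy : Fx H y) (c : F) : (sc H y c, NN.s c) ∈ h.S hy :=
  le_sp h.three (two_prod h) (quad_prod h) (h.Δ_fx hy) (h.Δ_d hy) ⟨c, rfl⟩

theorem Hy.S_add (h : Hy H P) {y : P} (hy : Fx H y) {m m' : P} {v v' : NN F} (hm : (m, v) ∈ h.S hy)
    (hm' : (m', v') ∈ h.S hy) : (m + m', v + v') ∈ h.S hy := (h.S hy).add_mem hm hm'

theorem Hy.S_sub (h : Hy H P) {y : P} (hy : Fx H y) {m m' : P} {v v' : NN F} (hm : (m, v) ∈ h.S hy)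
    (hm' : (m', v') ∈ h.S hy) : (m - m', v - v') ∈ h.S hy := (h.S hy).sub_mem hm hm'

theorem Hy.S_neg (h : Hy H P) {y : P} (hy : Fx H y) {m : P} {v : NN F} (hm : (m, v) ∈ h.S hy) :
    (-m, -v) ∈ h.S hy := (h.S hy).neg_mem hm

theorem Hy.S_zero (h : Hy H P) {y : P} (hy : Fx H y) : ((0 : P), (0 : NN F)) ∈ h.S hy := (h.S hy).zero_mem

theorem Hy.S_snd (h : Hy H P) {y : P} (hy : Fx H y) (v : NN F) : ∃ m, (m, v) ∈ h.S hy := by
  let X : AddSubgroup (Fin 4 → F) :=
    { carrier := {v | ∃ m, (m, (v : NN F)) ∈ h.S hy}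
      zero_mem' := ⟨0, h.S_zero hy⟩
      add_mem' := by
        rintro _ _ ⟨m, hm⟩ ⟨m', hm'⟩
        exact ⟨_, h.S_add hy hm hm'⟩
      neg_mem' := by
        rintro _ ⟨m, hm⟩
        exact ⟨_, h.S_neg hy hm⟩ }
  have h1 : X = ⊤ := by
    refine span_lines H X fun A hA c => ?_
    exact ⟨_, h.S_smul hy ⟨A, hA⟩ (h.S_sc hy c)⟩
  have h2 : (v : Fin 4 → F) ∈ X := by rw [h1]; exact AddSubgroup.mem_top _
  exact h2

theorem Hy.S_fst (h : Hy H P) {y : P} (hy : Fx H y) (hy0 : y ≠ 0) (m : P) : ∃ v, (m, v) ∈ h.S hy := by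
  let X : AddSubgroup P :=
    { carrier := {m | ∃ v, (m, v) ∈ h.S hy}
      zero_mem' := ⟨0, h.S_zero hy⟩
      add_mem' := by
        rintro _ _ ⟨m, hm⟩ ⟨m', hm'⟩
        exact ⟨_, h.S_add hy hm hm'⟩
      neg_mem' := by
        rintro _ ⟨m, hm⟩
        exact ⟨_, h.S_neg hy hm⟩ }
  have h1 : X = ⊤ := by
    refine (h.irr X ?_).resolve_left ?_
    · rintro g x ⟨v, hv⟩
      exact ⟨_, h.S_smul hy g hv⟩
    · intro h2
      have h3 : sc H y ((1 : Fˣ) : F) ∈ X := ⟨_, h.S_sc hy _⟩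
      rw [h2, sc_unit, H.d_one, one_smul] at h3
      exact hy0 h3
  have h2 : m ∈ X := by rw [h1]; exact AddSubgroup.mem_top _
  exact h2

theorem Hy.exists_notMem (h : Hy H P) {y : P} (hy : Fx H y) : ∃ m : P, (m, (0 : NN F)) ∉ h.S hy := by
  obtain ⟨f, hf0, hf⟩ := h.exists_f
  obtain ⟨m, hm⟩ : ∃ m, f m ≠ 0 := by
    by_contra hcon
    push Not at hcon
    exact hf0 (AddMonoidHom.ext hcon)
  refine ⟨m, fun hmem => hm ?_⟩
  -- the functional
  have key : ∀ x : P × NN F, x ∈ h.S hy → f x.1 = f (H.w • sc H y ((x.2 : Fin 4 → F) 3)) := by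
    intro x hx
    refine clos_ind (fun x : P × NN F => f x.1 = f (H.w • sc H y ((x.2 : Fin 4 → F) 3))) ?_ ?_ ?_ ?_ hx
    · show f 0 = f (H.w • sc H y 0)
      rw [sc_zero, smul_zero]
    · intro x z hx hz
      show f (x.1 + z.1) = f (H.w • sc H y ((x.2 : Fin 4 → F) 3 + (z.2 : Fin 4 → F) 3))
      rw [h.sc_add hy, smul_add, map_add, map_add, hx, hz]
    · intro x hx
      show f (-x.1) = f (H.w • sc H y (-(x.2 : Fin 4 → F) 3))
      rw [h.sc_neg hy, smul_neg, map_neg, map_neg, hx]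
    · rintro _ ⟨a, b, _, ⟨c, rfl⟩, rfl⟩
      have h1 : mv (H.U a b) (mv (W F) (Pi.single 0 c)) 3 = c := by
        rw [mv_U, mv_W]
        simp
      show f (H.u a b • H.w • sc H y c) = f (H.w • sc H y (mv (H.U a b) (mv (W F) (Pi.single 0 c)) 3))
      rw [h1, hf]
  have h2 := key _ hmem
  have h3 : f m = f (H.w • sc H y 0) := h2
  rw [h3, sc_zero, smul_zero, map_zero]

theorem Hy.J1 (h : Hy H P) {y : P} (hy : Fx H y) {m : P} (hm : (m, (0 : NN F)) ∈ h.S hy) : m = 0 := by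
  let X : AddSubgroup P :=
    { carrier := {m | (m, (0 : NN F)) ∈ h.S hy}
      zero_mem' := h.S_zero hy
      add_mem' := by
        intro m m' hm hm'
        have h1 := h.S_add hy hm hm'
        rwa [add_zero] at h1
      neg_mem' := by
        intro m hm
        have h1 := h.S_neg hy hm
        rwa [neg_zero] at h1 }
  rcases h.irr X (fun g x hx => by
    have h1 := h.S_smul hy g hx
    rw [smul_zero] at h1
    exact h1) with h1 | h1
  · have h2 : m ∈ X := hm
    rw [h1] at h2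
    exact h2
  · exfalso
    obtain ⟨m', hm'⟩ := h.exists_notMem hy
    apply hm'
    have h2 : m' ∈ X := by rw [h1]; exact AddSubgroup.mem_top _
    exact h2

theorem Hy.J2 (h : Hy H P) {y : P} (hy : Fx H y) (hy0 : y ≠ 0) {v : NN F} (hv : ((0 : P), v) ∈ h.S hy) : v = 0 := by
  -- the line `F e₀`
  have h0 : ∀ c : F, ((0 : P), NN.s c) ∈ h.S hy → c = 0 := by
    intro c hc
    by_contra hc0
    have h1 := h.S_sub hy (h.S_sc hy c) hc
    rw [sub_zero, sub_self] at h1
    have h2 := h.J1 hy h1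
    have h3 := sc_unit (H := H) y (Units.mk0 c hc0)
    rw [Units.val_mk0, h2] at h3
    apply hy0
    have h4 : (H.d (Units.mk0 c hc0))⁻¹ • H.d (Units.mk0 c hc0) • y = y := by
      rw [← mul_smul, inv_mul_cancel, one_smul]
    rw [← h4, ← h3, smul_zero]
  have hact : ∀ (A : LS F e) (v : Fin 4 → F), ((0 : P), (v : NN F)) ∈ h.S hy →
      ((0 : P), ((mv A.1 v - v : Fin 4 → F) : NN F)) ∈ h.S hy := by
    intro A v hv
    have h1 := h.S_sub hy (h.S_smul hy A hv) hv
    rw [smul_zero, sub_zero] at h1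
    exact h1
  have h1 : ∀ v : Fin 4 → F, ((0 : P), (v : NN F)) ∈ h.S hy → v 2 = 0 → v 3 = 0 → v = 0 := by
    intro v hv h2 h3
    have h4 := hact (H.u 1 0) v hv
    have h5 : (mv (H.u 1 0).1 v - v : Fin 4 → F) = NN.s (v 1) := by
      show mv (H.U 1 0) v - v = Pi.single 0 (v 1)
      rw [mv_U]
      apply ext4 <;> simp [h2, h3]
    rw [h5] at h4
    have h6 := h0 _ h4
    have h7 : (v : NN F) = NN.s (v 0) := by
      show v = Pi.single 0 (v 0)
      apply ext4 <;> simp [h2, h3, h6]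
    rw [h7] at hv
    have h8 := h0 _ hv
    apply ext4
    · exact h8
    · exact h6
    · exact h2
    · exact h3
  have h2 : ∀ v : Fin 4 → F, ((0 : P), (v : NN F)) ∈ h.S hy → v = 0 := by
    intro v hv
    have h4 := hact (H.u 0 1) v hv
    have h5 := h1 _ h4 (by
      show mv (H.U 0 1) v 2 - v 2 = 0
      rw [mv_U]; simp) (by
      show mv (H.U 0 1) v 3 - v 3 = 0
      rw [mv_U]; simp)
    have h6 : v 3 = 0 := by
      have h7 := congrFun h5 1
      have h8 : mv (H.U 0 1) v 1 - v 1 = 0 := h7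
      rw [mv_U] at h8
      simpa using h8
    have h9 : v 2 = 0 := by
      have h7 := congrFun h5 0
      have h8 : mv (H.U 0 1) v 0 - v 0 = 0 := h7
      rw [mv_U] at h8
      simpa [h6] using h8
    exact h1 v hv h9 h6
  exact h2 v hv

/-- **quadratic modules of `Sz(q)` are natural** -/
theorem Hy.exists_nat (h : Hy H P) : ∃ f : P → (Fin 4 → F), Function.Bijective f ∧
    (∀ x y, f (x + y) = f x + f y) ∧ ∀ (g : LS F e) (m : P), f (g • m) = mv g.1 (f m) := by
  obtain ⟨y, hy0, hy⟩ := h.exists_y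
  choose f hf using h.S_fst hy hy0
  have huniq : ∀ {m : P} {v w : NN F}, (m, v) ∈ h.S hy → (m, w) ∈ h.S hy → v = w := by
    intro m v w hv hw
    have h1 := h.S_sub hy hv hw
    rw [sub_self] at h1
    exact sub_eq_zero.1 (h.J2 hy hy0 h1)
  refine ⟨f, ⟨?_, ?_⟩, ?_, ?_⟩
  · intro x z hxz
    have h1 := h.S_sub hy (hf x) (hf z)
    have hxz' : f x - f z = 0 := sub_eq_zero.2 hxz
    rw [hxz'] at h1
    exact sub_eq_zero.1 (h.J1 hy h1)
  · intro v
    obtain ⟨m, hm⟩ := h.S_snd hy v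
    exact ⟨m, huniq (hf m) hm⟩
  · intro x z
    exact huniq (hf (x + z)) (h.S_add hy (hf x) (hf z))
  · intro g m
    exact huniq (hf (g • m)) (h.S_smul hy g (hf m))

end irr

end Cfsg.Agent.Omega.TwoFFour
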