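import Cfsg.Agent.Omega.TwoFFour.SzNatC
import Cfsg.Agent.Omega.TwoFFour.SzMod

/-!
# Quadratic modules of `Sz(q)`: sections of groups

* `SzAct H L W Z ψ` : `L` acts on the elementary abelian `W / Z` through `ψ : L → Sz(q)` (onto), and the centre
  `{U 0 b}` of a Sylow subgroup acts quadratically;
* `SzAct.exists_szMod` : if the action is irreducible and nontrivial then `W / Z` is natural (`SzMod H C W Z` for every
  `C` which normalises `L`, `W`, `Z`);
* `SzAct.irr_of`, `SzAct.irr_of_card` : irreducibility from `|W/Z : C(A)| < q⁴`.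
-/

set_option autoImplicit false
set_option linter.unusedSectionVars false

namespace Cfsg.Agent.Omega.TwoFFour

open Matrix Subgroup
open Cfsg.Agent.LieRecognition.SzMatrix Cfsg.Agent.ThreePrime.SzRel

section perf

variable {F : Type*} [Field F] {θ : F →+* F} {e : ℕ} (H : Good F θ e)

include H in
/-- `Sz(q)` is perfect -/
theorem sz_perf [Finite F] (h3 : 3 ≤ Nat.card F) (N : Subgroup (LS F e)) (hN : ∀ g h, g * h * g⁻¹ * h⁻¹ ∈ N) :
    N = ⊤ := by
  have hconj : ∀ g, ∀ n ∈ N, g * n * g⁻¹ ∈ N := by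
    intro g n hn
    have := mul_mem (hN g n) hn
    rwa [inv_mul_cancel_right] at this
  obtain ⟨k, hk0, hk1⟩ := exists_ne_ne h3
  have hθ1 : θ k + 1 ≠ 0 := by
    intro h
    apply hk1
    apply θ.injective
    rw [map_one]
    linear_combination h - H.add_self (1 : F)
  have hθ0 : θ k ≠ 0 := (map_ne_zero θ).2 hk0
  have hk2 : k ^ 2 * (θ k)⁻¹ + 1 ≠ 0 := by
    intro h
    have h1 : k ^ 2 = θ k := by
      have h2 : k ^ 2 * (θ k)⁻¹ = 1 := by linear_combination h - H.add_self (1 : F)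
      field_simp at h2
      exact h2
    have h2 : (θ k) ^ 2 = k ^ 2 := by
      rw [← map_pow, h1, H.sq, h1]
    have h3 : (θ k - k) ^ 2 = 0 := by
      have := H.two
      linear_combination h2 + (k ^ 2 - θ k * k) * this
    have h4 : θ k = k := sub_eq_zero.1 (pow_eq_zero_iff two_ne_zero |>.1 h3)
    apply hk1
    rw [h4] at h1
    have h5 : k * (k - 1) = 0 := by linear_combination h1
    exact sub_eq_zero.1 ((mul_eq_zero.1 h5).resolve_left hk0)
  have hu0 : ∀ b, H.u 0 b ∈ N := by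
    intro b
    have h1 := hN (H.d (Units.mk0 k hk0)) (H.u 0 (b * (θ k + 1)⁻¹))
    have e1 : H.d (Units.mk0 k hk0) * H.u 0 (b * (θ k + 1)⁻¹) * (H.d (Units.mk0 k hk0))⁻¹ *
        (H.u 0 (b * (θ k + 1)⁻¹))⁻¹ = H.u 0 b := by
      rw [H.d_mul_u, mul_inv_cancel_right, mul_inv_eq_iff_eq_mul, H.u_mul, Units.val_mk0]
      congr 1
      · simp
      · have h2 := H.two
        have h5 : b * (θ k + 1)⁻¹ * (θ k + 1) = b := inv_mul_cancel_right₀ hθ1 b
        rw [zero_mul, add_zero]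
        linear_combination h5 - b * (θ k + 1)⁻¹ * h2
    rwa [e1] at h1
  have hu : ∀ a b, H.u a b ∈ N := by
    intro a b
    set a₀ := a * (k ^ 2 * (θ k)⁻¹ + 1)⁻¹ with ha₀
    have h1 := hN (H.d (Units.mk0 k hk0)) (H.u a₀ 0)
    obtain ⟨c, hc⟩ : ∃ c, H.d (Units.mk0 k hk0) * H.u a₀ 0 * (H.d (Units.mk0 k hk0))⁻¹ *
        (H.u a₀ 0)⁻¹ = H.u a c := by
      refine ⟨a * θ a₀, ?_⟩
      rw [H.d_mul_u, mul_inv_cancel_right, mul_inv_eq_iff_eq_mul, H.u_mul, Units.val_mk0]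
      have h5 : a₀ * (k ^ 2 * (θ k)⁻¹ + 1) = a := by rw [ha₀]; exact inv_mul_cancel_right₀ hk2 a
      have h2 := H.two
      congr 1
      · linear_combination h5 - a₀ * h2
      · rw [zero_mul, add_zero]
        linear_combination -(a * θ a₀) * h2
    rw [hc] at h1
    have h2 := mul_mem h1 (hu0 (b + c))
    rw [H.u_mul] at h2
    have e1 : c + (b + c) + a * θ 0 = b := by
      rw [map_zero, mul_zero, add_zero]
      linear_combination H.add_self c
    rwa [add_zero, e1] at h2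
  have hd : ∀ k, H.d k ∈ N := by
    intro k
    obtain ⟨t, ht⟩ : ∃ t : Fˣ, t * t = k := by
      have hinj : Function.Injective (fun t : Fˣ => t * t) := by
        intro x y hxy
        have h1 : (x : F) * x = y * y := congrArg Units.val hxy
        have h2 : ((x : F) - y) ^ 2 = 0 := by
          have := H.two
          linear_combination h1 + ((y : F) ^ 2 - x * y) * this
        exact Units.ext (sub_eq_zero.1 (pow_eq_zero_iff two_ne_zero |>.1 h2))
      exact Finite.surjective_of_injective hinj k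
    have h1 := hN H.w (H.d t⁻¹)
    have e1 : H.w * H.d t⁻¹ * H.w⁻¹ * (H.d t⁻¹)⁻¹ = H.d k := by
      rw [H.w_mul_d, mul_inv_cancel_right, mul_inv_eq_iff_eq_mul, H.d_mul, inv_inv]
      congr 1
      rw [← ht, mul_inv_cancel_right]
    rwa [e1] at h1
  have hw : H.w ∈ N := by
    obtain ⟨a₁, b₁, a₂, b₂, k, -, h⟩ := wuw H (one_ne_zero (α := F))
    have h1 := hconj H.w _ (hu0 1)
    rw [H.w_inv, h] at h1
    have h2 := mul_mem (mul_mem (inv_mem (hu a₁ b₁)) h1) (inv_mem (mul_mem (hu a₂ b₂) (hd k)))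
    have e1 : (H.u a₁ b₁)⁻¹ * (H.u a₁ b₁ * H.w * (H.u a₂ b₂ * H.d k)) * (H.u a₂ b₂ * H.d k)⁻¹ = H.w := by group
    rwa [e1] at h2
  rw [Subgroup.eq_top_iff']
  intro g
  rcases (ofGood H).bruhat g with ⟨a, b, k, h⟩ | ⟨a, b, c, d, k, h⟩
  · rw [h]
    exact mul_mem (hu _ _) (hd _)
  · rw [h]
    exact mul_mem (mul_mem (hu _ _) hw) (mul_mem (hu _ _) (hd _))

end perf

universe u

variable {G : Type u} [Group G] {F : Type*} [Field F] {θ : F →+* F} {e : ℕ}

/-- `L` acts on the elementary abelian section `W / Z` through `ψ : L → Sz(q)`; `{U 0 b}` is quadratic -/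
structure SzAct (H : Good F θ e) (L W Z : Subgroup G) (ψ : L →* LS F e) : Prop where
  Z_le : Z ≤ W
  conjW : ∀ {g x : G}, g ∈ L → x ∈ W → g * x * g⁻¹ ∈ W
  conjZ : ∀ {g x : G}, g ∈ L → x ∈ Z → g * x * g⁻¹ ∈ Z
  nZ : ∀ {x z : G}, x ∈ W → z ∈ Z → x * z * x⁻¹ ∈ Z
  sq : ∀ x ∈ W, x * x ∈ Z
  surj : Function.Surjective ψ
  ker : ∀ g : L, ψ g = 1 → ∀ x ∈ W, (g : G) * x * (g : G)⁻¹ * x⁻¹ ∈ Z
  quad : ∀ (b c : F) (g g' : L), ψ g = H.u 0 b → ψ g' = H.u 0 c → ∀ x ∈ W,
    (g : G) * ((g' : G) * x * (g' : G)⁻¹ * x⁻¹) * (g : G)⁻¹ * ((g' : G) * x * (g' : G)⁻¹ * x⁻¹)⁻¹ ∈ Z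

namespace SzAct

variable {H : Good F θ e} {L W Z : Subgroup G} {ψ : L →* LS F e}

/-- restriction to a section -/
theorem res (h : SzAct H L W Z ψ) {X Y : Subgroup G} (hZX : Z ≤ X) (hXY : X ≤ Y) (hYW : Y ≤ W)
    (hX : ∀ g ∈ L, ∀ x ∈ X, g * x * g⁻¹ ∈ X) (hY : ∀ g ∈ L, ∀ x ∈ Y, g * x * g⁻¹ ∈ Y) : SzAct H L Y X ψ where
  Z_le := hXY
  conjW hg hx := hY _ hg _ hx
  conjZ hg hx := hX _ hg _ hx
  nZ {x z} hx hz := by
    -- `W / Z` is abelian
    have h1 : x * z * x⁻¹ * z⁻¹ ∈ Z := by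
      have e1 : x * z * x⁻¹ * z⁻¹ = (x * z) * (x * z) * ((x * z)⁻¹ * (x⁻¹ * x⁻¹) * (x * z)) *
          ((z * (z⁻¹ * z⁻¹) * z⁻¹)) := by group
      have hxW := hYW hx
      have hzW := hYW (hXY hz)
      rw [e1]
      refine mul_mem (mul_mem (h.sq _ (mul_mem hxW hzW)) ?_) ?_
      · have := h.nZ (inv_mem (mul_mem hxW hzW)) (h.sq _ (inv_mem hxW))
        rwa [inv_inv] at this
      · exact h.nZ hzW (h.sq _ (inv_mem hzW))
    have := mul_mem (hZX h1) hz
    rwa [inv_mul_cancel_right] at this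
  sq x hx := hZX (h.sq x (hYW hx))
  surj := h.surj
  ker g hg x hx := hZX (h.ker g hg x (hYW hx))
  quad b c g g' hg hg' x hx := hZX (h.quad b c g g' hg hg' x (hYW hx))

/-- `W / Z` is abelian -/
theorem comm (h : SzAct H L W Z ψ) {x y : G} (hx : x ∈ W) (hy : y ∈ W) : x * y * x⁻¹ * y⁻¹ ∈ Z := by
  have e1 : x * y * x⁻¹ * y⁻¹ = (x * y) * (x * y) * ((x * y)⁻¹ * (x⁻¹ * x⁻¹) * (x * y)) *
      ((y * (y⁻¹ * y⁻¹) * y⁻¹)) := by group
  rw [e1]
  refine mul_mem (mul_mem (h.sq _ (mul_mem hx hy)) ?_) ?_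
  · have := h.nZ (inv_mem (mul_mem hx hy)) (h.sq _ (inv_mem hx))
    rwa [inv_inv] at this
  · exact h.nZ hy (h.sq _ (inv_mem hy))

/-- **the module** -/
theorem exists_mod (h : SzAct H L W Z ψ) : ∃ (P : Type u) (_ : AddCommGroup P) (_ : DistribMulAction (LS F e) P)
    (π : G → P), (∀ x ∈ W, ∀ y ∈ W, π (x * y) = π x + π y) ∧ (∀ p, ∃ x ∈ W, π x = p) ∧
      (∀ x ∈ W, π x = 0 ↔ x ∈ Z) ∧ ∀ (l : L), ∀ x ∈ W, ψ l • π x = π (l * x * (l : G)⁻¹) := by
  classical
  have hN : (Z.subgroupOf W).Normal := by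
    refine ⟨fun n hn g => ?_⟩
    rw [mem_subgroupOf] at hn ⊢
    exact h.nZ g.2 hn
  let : CommGroup (W ⧸ Z.subgroupOf W) :=
    { (inferInstance : Group (W ⧸ Z.subgroupOf W)) with
      mul_comm := by
        intro a b
        obtain ⟨x, rfl⟩ := QuotientGroup.mk_surjective a
        obtain ⟨y, rfl⟩ := QuotientGroup.mk_surjective b
        show ((x * y : W) : W ⧸ Z.subgroupOf W) = ((y * x : W) : W ⧸ Z.subgroupOf W)
        rw [QuotientGroup.eq, mem_subgroupOf]
        have h1 := h.comm (inv_mem y.2) (inv_mem x.2)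
        have e1 : (((x * y)⁻¹ * (y * x) : W) : G) = (y : G)⁻¹ * (x : G)⁻¹ * (y : G)⁻¹⁻¹ * (x : G)⁻¹⁻¹ := by
          push_cast
          group
        rw [e1]
        exact h1 }
  -- conjugation
  let cw (l : L) : W →* W :=
    { toFun := fun x => ⟨l * x * (l : G)⁻¹, h.conjW l.2 x.2⟩
      map_one' := Subtype.ext (by simp)
      map_mul' := fun x y => Subtype.ext (by
        show (l : G) * (x * y) * (l : G)⁻¹ = l * x * (l : G)⁻¹ * (l * y * (l : G)⁻¹)
        group) }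
  let cq (l : L) : (W ⧸ Z.subgroupOf W) →* (W ⧸ Z.subgroupOf W) :=
    QuotientGroup.map _ _ (cw l) (by
      intro x hx
      rw [mem_subgroupOf] at hx
      show cw l x ∈ Z.subgroupOf W
      rw [mem_subgroupOf]
      exact h.conjZ l.2 hx)
  have hcq : ∀ (l : L) (x : W), cq l (x : W ⧸ Z.subgroupOf W) = ((cw l x : W) : W ⧸ Z.subgroupOf W) :=
    fun l x => rfl
  -- independence
  have hind : ∀ l l' : L, ψ l = ψ l' → cq l = cq l' := by
    intro l l' hl
    refine MonoidHom.ext fun a => ?_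
    obtain ⟨x, rfl⟩ := QuotientGroup.mk_surjective a
    have h0 : cq l (x : W ⧸ Z.subgroupOf W) = cq l' (x : W ⧸ Z.subgroupOf W) := by
      rw [hcq, hcq, eq_comm, QuotientGroup.eq, mem_subgroupOf]
      have h1 : ψ (l'⁻¹ * l) = 1 := by rw [map_mul, map_inv, hl, inv_mul_cancel]
      have h2 := h.conjZ l'.2 (h.ker _ h1 x x.2)
      have h4 := h.nZ (inv_mem (h.conjW l'.2 x.2)) h2
      have e1 : (((cw l' x)⁻¹ * cw l x : W) : G) = ((l' : G) * (x : G) * (l' : G)⁻¹)⁻¹ *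
          ((l' : G) * (((l'⁻¹ * l : L) : G) * x * ((l'⁻¹ * l : L) : G)⁻¹ * (x : G)⁻¹) * (l' : G)⁻¹) *
          ((l' : G) * (x : G) * (l' : G)⁻¹)⁻¹⁻¹ := by
        show ((l' : G) * (x : G) * (l' : G)⁻¹)⁻¹ * ((l : G) * (x : G) * (l : G)⁻¹) = _
        push_cast
        group
      rw [e1]
      exact h4
    exact h0
  choose s hs using h.surj
  let act (A : LS F e) (p : Additive (W ⧸ Z.subgroupOf W)) : Additive (W ⧸ Z.subgroupOf W) :=
    Additive.ofMul (cq (s A) p.toMul)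
  have hact : ∀ (l : L) (x : W), act (ψ l) (Additive.ofMul (x : W ⧸ Z.subgroupOf W)) =
      Additive.ofMul ((cw l x : W) : W ⧸ Z.subgroupOf W) := by
    intro l x
    show Additive.ofMul (cq (s (ψ l)) (x : W ⧸ Z.subgroupOf W)) = _
    rw [hind _ l (hs _), hcq]
  let : DistribMulAction (LS F e) (Additive (W ⧸ Z.subgroupOf W)) :=
    { smul := act
      one_smul := by
        intro p
        obtain ⟨x, hx⟩ := QuotientGroup.mk_surjective p.toMul
        have hp : p = Additive.ofMul (x : W ⧸ Z.subgroupOf W) := congrArg Additive.ofMul hx.symm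
        show act 1 p = p
        rw [hp, ← map_one ψ, hact]
        congr 2
        exact Subtype.ext (by show (1 : G) * x * (1 : G)⁻¹ = x; group)
      mul_smul := by
        intro A B p
        obtain ⟨x, hx⟩ := QuotientGroup.mk_surjective p.toMul
        have hp : p = Additive.ofMul (x : W ⧸ Z.subgroupOf W) := congrArg Additive.ofMul hx.symm
        show act (A * B) p = act A (act B p)
        rw [hp, ← hs A, ← hs B, ← map_mul, hact, hact, hact]
        congr 2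
        exact Subtype.ext (by
          show ((s A * s B : L) : G) * x * ((s A * s B : L) : G)⁻¹ = s A * (s B * x * (s B : G)⁻¹) * (s A : G)⁻¹
          push_cast
          group)
      smul_zero := by
        intro A
        show Additive.ofMul (cq (s A) 1) = Additive.ofMul 1
        rw [map_one]
      smul_add := by
        intro A p q
        show Additive.ofMul (cq (s A) (p.toMul * q.toMul)) = Additive.ofMul (cq (s A) p.toMul * cq (s A) q.toMul)
        rw [map_mul] }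
  let π : G → Additive (W ⧸ Z.subgroupOf W) := fun x =>
    if hx : x ∈ W then Additive.ofMul ((⟨x, hx⟩ : W) : W ⧸ Z.subgroupOf W) else 0
  have hπ : ∀ x : W, π x = Additive.ofMul (x : W ⧸ Z.subgroupOf W) := fun x => dif_pos x.2
  refine ⟨Additive (W ⧸ Z.subgroupOf W), inferInstance, inferInstance, π, ?_, ?_, ?_, ?_⟩
  · intro x hx y hy
    have h1 := hπ ⟨x, hx⟩
    have h2 := hπ ⟨y, hy⟩
    have h4 := hπ ⟨x * y, mul_mem hx hy⟩
    simp only at h1 h2 h4
    rw [h1, h2, h4]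
    rfl
  · intro p
    obtain ⟨x, hx⟩ := QuotientGroup.mk_surjective p.toMul
    exact ⟨x, x.2, (hπ x).trans (congrArg Additive.ofMul hx)⟩
  · intro x hx
    have h1 := hπ ⟨x, hx⟩
    simp only at h1
    rw [h1]
    have h2 : Additive.ofMul (((⟨x, hx⟩ : W) : W ⧸ Z.subgroupOf W)) = 0 ↔ ((⟨x, hx⟩ : W) : W ⧸ Z.subgroupOf W) = 1 :=
      Iff.rfl
    rw [h2, QuotientGroup.eq_one_iff, mem_subgroupOf]
  · intro l x hx
    have h1 := hπ ⟨x, hx⟩
    have h2 := hπ ⟨l * x * (l : G)⁻¹, h.conjW l.2 hx⟩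
    simp only at h1 h2
    rw [h1, h2]
    exact hact l ⟨x, hx⟩

end SzAct

end Cfsg.Agent.Omega.TwoFFour
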