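import Cfsg.Agent.Omega.TwoFFour.SzNatD

/-!
# Quadratic sections of `Sz(q)` are natural

* `SzAct.exists_f`, `SzAct.exists_szMod` : irreducible and nontrivial sections are natural;
* `SzAct.two` : two natural sections cost `q⁴` of the index of the centraliser of `{U 0 b}`;
* `SzAct.irr_of` : irreducibility from `|W/Z : C(A)| < q⁴`, `C_{W/Z}(L) = 1` and `W/Z = [W/Z, L]`;
* `SzAct.irr_of_card` : irreducibility from `|W/Z| < q⁸`... in the form `|W/Z| ≤ q⁴`.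
-/

set_option autoImplicit false
set_option linter.unusedSectionVars false

namespace Cfsg.Agent.Omega.TwoFFour

open Matrix Subgroup
open Cfsg.Agent.LieRecognition.SzMatrix Cfsg.Agent.ThreePrime.SzRel

universe u

variable {G : Type u} [Group G] {F : Type*} [Field F] {θ : F →+* F} {e : ℕ}

/-- `L` is irreducible on `W / Z` -/
def IrrS (L W Z : Subgroup G) : Prop :=
  ∀ X : Subgroup G, Z ≤ X → X ≤ W → (∀ g ∈ L, ∀ x ∈ X, g * x * g⁻¹ ∈ X) → X = Z ∨ X = W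

/-- `L` is trivial on `W / Z` -/
def TrivS (L W Z : Subgroup G) : Prop := ∀ g ∈ L, ∀ x ∈ W, g * x * g⁻¹ * x⁻¹ ∈ Z

namespace SzAct

variable {H : Good F θ e} {L W Z : Subgroup G} {ψ : L →* LS F e}

/-- **irreducible nontrivial quadratic sections of `Sz(q)` are natural** -/
theorem exists_f [Finite G] [Finite F] (h3 : 3 ≤ Nat.card F) (h : SzAct H L W Z ψ) (hirr : IrrS L W Z)
    (hnt : ¬ TrivS L W Z) : ∃ f : G → (Fin 4 → F), (∀ x ∈ W, ∀ y ∈ W, f (x * y) = f x + f y) ∧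
      (∀ v, ∃ x ∈ W, f x = v) ∧ (∀ x ∈ W, f x = 0 ↔ x ∈ Z) ∧
      ∀ l : L, ∀ x ∈ W, f (l * x * (l : G)⁻¹) = mv (ψ l).1 (f x) := by
  obtain ⟨P, _, _, π, hmul, hsurj, hker, hact⟩ := h.exists_mod
  have hone : π 1 = 0 := (hker 1 (one_mem _)).2 (one_mem _)
  have hinv : ∀ x ∈ W, π x⁻¹ = -π x := by
    intro x hx
    have h1 := hmul _ (inv_mem hx) _ hx
    rw [inv_mul_cancel, hone] at h1
    exact eq_neg_of_add_eq_zero_left h1.symm
  have hsub : ∀ x ∈ W, ∀ y ∈ W, π (x * y⁻¹) = π x - π y := by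
    intro x hx y hy
    rw [hmul _ hx _ (inv_mem hy), hinv y hy, sub_eq_add_neg]
  have hfin : Finite P := by
    refine Finite.of_surjective (fun x : W => π x) fun p => ?_
    obtain ⟨x, hx, hxp⟩ := hsurj p
    exact ⟨⟨x, hx⟩, hxp⟩
  have hHy : Hy H P := by
    refine ⟨h3, ?_, ?_, ?_, ?_⟩
    · intro p
      obtain ⟨x, hx, rfl⟩ := hsurj p
      rw [← hmul x hx x hx, hker _ (mul_mem hx hx)]
      exact h.sq x hx
    · intro b c p
      obtain ⟨x, hx, rfl⟩ := hsurj p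
      obtain ⟨g, hg⟩ := h.surj (H.u 0 b)
      obtain ⟨g', hg'⟩ := h.surj (H.u 0 c)
      have hy : (g' : G) * x * (g' : G)⁻¹ ∈ W := h.conjW g'.2 hx
      rw [← hg, ← hg', hact g' x hx, ← hsub _ hy x hx, hact g _ (mul_mem hy (inv_mem hx)), ← sub_eq_zero,
        ← hsub _ (h.conjW g.2 (mul_mem hy (inv_mem hx))) _ (mul_mem hy (inv_mem hx)),
        hker _ (mul_mem (h.conjW g.2 (mul_mem hy (inv_mem hx))) (inv_mem (mul_mem hy (inv_mem hx))))]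
      exact h.quad b c g g' hg hg' x hx
    · intro X hX
      let X' : Subgroup G :=
        { carrier := {x | x ∈ W ∧ π x ∈ X}
          one_mem' := ⟨one_mem _, by rw [hone]; exact X.zero_mem⟩
          mul_mem' := by
            rintro x y ⟨hx, hx'⟩ ⟨hy, hy'⟩
            exact ⟨mul_mem hx hy, by rw [hmul x hx y hy]; exact X.add_mem hx' hy'⟩
          inv_mem' := by
            rintro x ⟨hx, hx'⟩
            exact ⟨inv_mem hx, by rw [hinv x hx]; exact X.neg_mem hx'⟩ }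
      have hX' : ∀ x, x ∈ X' ↔ x ∈ W ∧ π x ∈ X := fun x => Iff.rfl
      rcases hirr X' (fun x hx => (hX' x).2 ⟨h.Z_le hx, by
          rw [(hker x (h.Z_le hx)).2 hx]; exact X.zero_mem⟩) (fun x hx => ((hX' x).1 hx).1) (by
          intro g hg x hx
          obtain ⟨h1, h2⟩ := (hX' x).1 hx
          refine (hX' _).2 ⟨h.conjW hg h1, ?_⟩
          have h4 := hact ⟨g, hg⟩ x h1
          have h5 := hX (ψ ⟨g, hg⟩) _ h2
          rw [h4] at h5
          exact h5) with h1 | h1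
      · left
        rw [eq_bot_iff]
        intro p hp
        obtain ⟨x, hx, rfl⟩ := hsurj p
        have h2 : x ∈ X' := (hX' x).2 ⟨hx, hp⟩
        rw [h1] at h2
        exact AddSubgroup.mem_bot.2 ((hker x hx).2 h2)
      · right
        rw [AddSubgroup.eq_top_iff']
        intro p
        obtain ⟨x, hx, rfl⟩ := hsurj p
        have h2 : x ∈ X' := by rw [h1]; exact hx
        exact ((hX' x).1 h2).2
    · by_contra hcon
      push Not at hcon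
      apply hnt
      intro g hg x hx
      have h1 := hact ⟨g, hg⟩ x hx
      rw [hcon] at h1
      have h2 : π (g * x * g⁻¹ * x⁻¹) = 0 := by
        rw [hsub _ (h.conjW hg hx) x hx]
        exact sub_eq_zero.2 h1.symm
      exact (hker _ (mul_mem (h.conjW hg hx) (inv_mem hx))).1 h2
  obtain ⟨φ, hbij, hadd, hφ⟩ := hHy.exists_nat
  refine ⟨fun x => φ (π x), ?_, ?_, ?_, ?_⟩
  · intro x hx y hy
    show φ (π (x * y)) = φ (π x) + φ (π y)
    rw [hmul x hx y hy, hadd]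
  · intro v
    obtain ⟨p, hp⟩ := hbij.2 v
    obtain ⟨x, hx, rfl⟩ := hsurj p
    exact ⟨x, hx, hp⟩
  · intro x hx
    have h0 : φ 0 = 0 := by
      have := hadd 0 0
      rw [add_zero] at this
      exact left_eq_add.1 this
    rw [← hker x hx, ← h0]
    exact hbij.1.eq_iff
  · intro l x hx
    show φ (π (l * x * (l : G)⁻¹)) = mv (ψ l).1 (φ (π x))
    rw [← hact l x hx, hφ]

/-- `SzMod` -/
theorem exists_szMod [Finite G] [Finite F] (h3 : 3 ≤ Nat.card F) (h : SzAct H L W Z ψ) (hirr : IrrS L W Z)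
    (hnt : ¬ TrivS L W Z) {C : Subgroup G} (hLC : L ≤ C) (hCL : ∀ g ∈ C, ∀ l ∈ L, g * l * g⁻¹ ∈ L)
    (hCW : ∀ g ∈ C, ∀ x ∈ W, g * x * g⁻¹ ∈ W) (hCZ : ∀ g ∈ C, ∀ x ∈ Z, g * x * g⁻¹ ∈ Z) :
    ∃ M : SzMod H C W Z, ∀ l : L, ∀ x ∈ W, M.f (l * x * (l : G)⁻¹) = mv (ψ l).1 (M.f x) := by
  obtain ⟨f, hmul, hsurj, hker, hact⟩ := h.exists_f h3 hirr hnt
  have hinv : ∀ x ∈ W, f x⁻¹ = -f x := by
    intro x hx
    have h1 := hmul _ (inv_mem hx) _ hx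
    rw [inv_mul_cancel, (hker 1 (one_mem _)).2 (one_mem _)] at h1
    exact eq_neg_of_add_eq_zero_left h1.symm
  have hfeq : ∀ x ∈ W, ∀ y ∈ W, f x = f y ↔ x⁻¹ * y ∈ Z := by
    intro x hx y hy
    rw [← hker _ (mul_mem (inv_mem hx) hy), hmul _ (inv_mem hx) _ hy, hinv x hx]
    constructor
    · intro h1
      rw [h1, neg_add_cancel]
    · intro h1
      exact neg_add_eq_zero.1 h1
  refine ⟨{ f := f
            f_mul := fun hx hy => hmul _ hx _ hy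
            f_surj := hsurj
            f_ker := fun hx => hker _ hx
            Z_le := h.Z_le
            conjW := fun hg hx => hCW _ hg _ hx
            conjZ := fun hg hx => hCZ _ hg _ hx
            lift := ?_
            norm := ?_ }, hact⟩
  · intro A hA
    obtain ⟨l, hl⟩ := h.surj ⟨A, hA⟩
    refine ⟨l, hLC l.2, fun x hx => ?_⟩
    rw [hact l x hx, hl]
  · intro g hg k hk A hA hkA
    obtain ⟨l, hl⟩ := h.surj ⟨A, hA⟩
    refine ⟨_, (ψ ⟨g * l * g⁻¹, hCL g hg l l.2⟩).2, fun x hx => ?_⟩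
    have h1 := hact ⟨g * l * g⁻¹, hCL g hg l l.2⟩ x hx
    rw [← h1]
    -- `g k g⁻¹` and `g l g⁻¹` act in the same way
    have hy : g⁻¹ * x * g ∈ W := by
      have := hCW g⁻¹ (inv_mem hg) x hx
      rwa [inv_inv] at this
    have h2 : f (k * (g⁻¹ * x * g) * k⁻¹) = f (l * (g⁻¹ * x * g) * (l : G)⁻¹) := by
      rw [hkA _ hy, hact l _ hy, hl]
    have h4 := (hfeq _ (hCW k hk _ hy) _ (hCW l (hLC l.2) _ hy)).1 h2
    rw [hfeq _ (hCW _ (mul_mem (mul_mem hg hk) (inv_mem hg)) x hx) _ (h.conjW (hCL g hg l l.2) hx)]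
    have h5 := hCZ g hg _ h4
    have e1 : (g * k * g⁻¹ * x * (g * k * g⁻¹)⁻¹)⁻¹ * (g * l * g⁻¹ * x * (g * l * g⁻¹)⁻¹) =
        g * ((k * (g⁻¹ * x * g) * k⁻¹)⁻¹ * (l * (g⁻¹ * x * g) * (l : G)⁻¹)) * g⁻¹ := by group
    rw [e1]
    exact h5

/-- trivial on two factors implies trivial -/
theorem triv_trans [Finite F] (h3 : 3 ≤ Nat.card F) (h : SzAct H L W Z ψ) {X : Subgroup G} (hXW : X ≤ W)
    (h1 : TrivS L W X) (h2 : TrivS L X Z) : TrivS L W Z := by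
  -- the elements acting trivially
  let K : Subgroup L :=
    { carrier := {l | ∀ x ∈ W, (l : G) * x * (l : G)⁻¹ * x⁻¹ ∈ Z}
      one_mem' := fun x _ => by
        have e1 : ((1 : L) : G) * x * ((1 : L) : G)⁻¹ * x⁻¹ = 1 := by push_cast; group
        rw [e1]
        exact one_mem _
      mul_mem' := by
        intro a b ha hb x hx
        have e1 : ((a * b : L) : G) * x * ((a * b : L) : G)⁻¹ * x⁻¹ =
            a * (b * x * (b : G)⁻¹ * x⁻¹) * (a : G)⁻¹ * ((a : G) * x * (a : G)⁻¹ * x⁻¹) := by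
          push_cast
          group
        rw [e1]
        exact mul_mem (h.conjZ a.2 (hb x hx)) (ha x hx)
      inv_mem' := by
        intro a ha x hx
        have h5 := h.conjW (inv_mem a.2) hx
        have h4 := ha _ h5
        have e1 : ((a⁻¹ : L) : G) * x * ((a⁻¹ : L) : G)⁻¹ * x⁻¹ =
            x * (x⁻¹ * ((a : G) * ((a : G)⁻¹ * x * (a : G)⁻¹⁻¹) * (a : G)⁻¹ * ((a : G)⁻¹ * x * (a : G)⁻¹⁻¹)⁻¹)⁻¹ *
              x⁻¹⁻¹) * x⁻¹ := by
          push_cast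
          group
        rw [e1]
        exact h.nZ hx (h.nZ (inv_mem hx) (inv_mem h4)) }
  have hK : ∀ l : L, l ∈ K ↔ ∀ x ∈ W, (l : G) * x * (l : G)⁻¹ * x⁻¹ ∈ Z := fun l => Iff.rfl
  have hcomm : ∀ a b : L, a * b * a⁻¹ * b⁻¹ ∈ K := by
    intro a b x hx
    set y := ((b : G) * a)⁻¹ * x * ((b : G) * a) with hy
    have hyW : y ∈ W := by
      have := h.conjW (inv_mem (mul_mem b.2 a.2)) hx
      rwa [inv_inv] at this
    have hα := h1 a a.2 y hyW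
    have hβ := h1 b b.2 y hyW
    set α := (a : G) * y * (a : G)⁻¹ * y⁻¹ with hαd
    set β := (b : G) * y * (b : G)⁻¹ * y⁻¹ with hβd
    have e1 : ((a * b * a⁻¹ * b⁻¹ : L) : G) * x * ((a * b * a⁻¹ * b⁻¹ : L) : G)⁻¹ * x⁻¹ =
        ((a : G) * β * (a : G)⁻¹ * β⁻¹) * ((β * α * β⁻¹ * α⁻¹) * (α * ((b : G) * α⁻¹ * (b : G)⁻¹ * α⁻¹⁻¹) * α⁻¹)) := by
      rw [hαd, hβd, hy]
      push_cast
      group
    rw [e1]
    exact mul_mem (h2 a a.2 β hβ) (mul_mem (h.comm (hXW hβ) (hXW hα))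
      (h.nZ (hXW hα) (h2 b b.2 _ (inv_mem hα))))
  have htop : K.map ψ = ⊤ := by
    refine sz_perf H h3 _ fun g k => ?_
    obtain ⟨a, rfl⟩ := h.surj g
    obtain ⟨b, rfl⟩ := h.surj k
    exact ⟨_, hcomm a b, by rw [map_mul, map_mul, map_mul, map_inv, map_inv]⟩
  intro g hg
  have h4 : ψ ⟨g, hg⟩ ∈ K.map ψ := by rw [htop]; exact mem_top _
  obtain ⟨k, hk, hkg⟩ := h4
  have h5 : k⁻¹ * ⟨g, hg⟩ ∈ K := by
    refine (hK _).2 (h.ker _ ?_)
    rw [map_mul, map_inv, hkg, inv_mul_cancel]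
  have h6 := mul_mem hk h5
  rw [mul_inv_cancel_left] at h6
  exact (hK _).1 h6

/-- the order of a natural section -/
theorem card_of_irr [Finite G] [Finite F] (h3 : 3 ≤ Nat.card F) (h : SzAct H L W Z ψ) (hirr : IrrS L W Z)
    (hnt : ¬ TrivS L W Z) : Z.relIndex W = Nat.card F ^ 4 := by
  obtain ⟨f, hmul, hsurj, hker, hact⟩ := h.exists_f h3 hirr hnt
  let φ : W →* Multiplicative (Fin 4 → F) :=
    MonoidHom.mk' (fun x => Multiplicative.ofAdd (f x)) fun x y =>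
      congrArg Multiplicative.ofAdd (hmul x x.2 y y.2)
  have hφ : ∀ x : W, φ x = Multiplicative.ofAdd (f x) := fun _ => rfl
  have hk : φ.ker = Z.subgroupOf W := by
    ext x
    rw [MonoidHom.mem_ker, mem_subgroupOf, ← hker x x.2]
    exact Iff.rfl
  have hr : φ.range = ⊤ := by
    rw [MonoidHom.range_eq_top]
    intro v
    obtain ⟨x, hx, hxv⟩ := hsurj v.toAdd
    exact ⟨⟨x, hx⟩, congrArg Multiplicative.ofAdd hxv⟩
  have h1 := Subgroup.index_ker φ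
  rw [hk, hr, Subgroup.card_top] at h1
  rw [Subgroup.relIndex, h1]
  have h2 : Nat.card (Multiplicative (Fin 4 → F)) = Nat.card (Fin 4 → F) := rfl
  rw [h2, Nat.card_pi]
  simp

/-- `D` is centralised by `{U 0 b}` in a natural section -/
theorem count [Finite G] [Finite F] (h3 : 3 ≤ Nat.card F) (h : SzAct H L W Z ψ) (hirr : IrrS L W Z)
    (hnt : ¬ TrivS L W Z) {D : Subgroup G}
    (hD : ∀ x ∈ W, x ∈ D → ∀ (b : F) (g : L), ψ g = H.u 0 b → (g : G) * x * (g : G)⁻¹ * x⁻¹ ∈ Z) :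
    Nat.card F ^ 2 * D.relIndex Z ≤ D.relIndex W := by
  obtain ⟨f, hmul, hsurj, hker, hact⟩ := h.exists_f h3 hirr hnt
  have hinv : ∀ x ∈ W, f x⁻¹ = -f x := by
    intro x hx
    have h1 := hmul _ (inv_mem hx) _ hx
    rw [inv_mul_cancel, (hker 1 (one_mem _)).2 (one_mem _)] at h1
    exact eq_neg_of_add_eq_zero_left h1.symm
  let φ : W →* Multiplicative (F × F) :=
    MonoidHom.mk' (fun x => Multiplicative.ofAdd (f x 2, f x 3)) fun x y => by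
      show Multiplicative.ofAdd (f (x * y) 2, f (x * y) 3) = _
      rw [hmul x x.2 y y.2]
      rfl
  have hφ : ∀ x : W, φ x = Multiplicative.ofAdd (f x 2, f x 3) := fun _ => rfl
  have hr : φ.range = ⊤ := by
    rw [MonoidHom.range_eq_top]
    intro v
    obtain ⟨x, hx, hxv⟩ := hsurj ![0, 0, v.toAdd.1, v.toAdd.2]
    refine ⟨⟨x, hx⟩, ?_⟩
    rw [hφ]
    simp only [hxv]
    rfl
  set K : Subgroup G := (D ⊓ W) ⊔ Z with hKdef
  have hKW : K ≤ W := sup_le inf_le_right h.Z_le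
  have hKker : K.subgroupOf W ≤ φ.ker := by
    have hle : K ≤ φ.ker.map W.subtype := by
      refine sup_le ?_ ?_
      · intro x hx
        obtain ⟨hxD, hxW⟩ := mem_inf.1 hx
        refine ⟨⟨x, hxW⟩, ?_, rfl⟩
        obtain ⟨g, hg⟩ := h.surj (H.u 0 1)
        have h5 := hD x hxW hxD 1 g hg
        have h6 := (hker _ (mul_mem (h.conjW g.2 hxW) (inv_mem hxW))).2 h5
        rw [hmul _ (h.conjW g.2 hxW) _ (inv_mem hxW), hinv x hxW, hact g x hxW, hg] at h6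
        have h7 : mv (H.U 0 1) (f x) = f x := by
          have h8 : mv (H.U 0 1) (f x) + -f x = 0 := h6
          rw [← sub_eq_add_neg] at h8
          exact sub_eq_zero.1 h8
        obtain ⟨h8, h9⟩ := (fix_Z H one_ne_zero).1 h7
        show φ ⟨x, hxW⟩ = 1
        rw [hφ]
        simp only [h8, h9]
        rfl
      · intro x hx
        refine ⟨⟨x, h.Z_le hx⟩, ?_, rfl⟩
        show φ ⟨x, _⟩ = 1
        rw [hφ]
        simp only [(hker x (h.Z_le hx)).2 hx]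
        rfl
    intro x hx
    rw [mem_subgroupOf] at hx
    obtain ⟨y, hy, hyx⟩ := hle hx
    have : y = x := Subtype.ext hyx
    rwa [← this]
  have hq : Nat.card F ^ 2 ≤ K.relIndex W := by
    have h1 := Subgroup.index_ker φ
    rw [hr, Subgroup.card_top] at h1
    have h2 : Nat.card (Multiplicative (F × F)) = Nat.card (F × F) := rfl
    rw [h2, Nat.card_prod] at h1
    have h4 := Subgroup.index_dvd_of_le hKker
    rw [h1] at h4
    rw [_root_.sq]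
    exact Nat.le_of_dvd (Nat.pos_of_ne_zero Subgroup.index_ne_zero_of_finite) h4
  have h1 := Subgroup.relIndex_mul_relIndex (D ⊓ W) K W (le_sup_left) hKW
  rw [Subgroup.inf_relIndex_right] at h1
  have h2 : D.relIndex Z ≤ (D ⊓ W).relIndex K := by
    have h4 : (D ⊓ W).relIndex Z ≤ (D ⊓ W).relIndex K :=
      Subgroup.relIndex_le_of_le_right le_sup_right Subgroup.index_ne_zero_of_finite
    have h5 : (D ⊓ W).relIndex Z = D.relIndex Z := by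
      rw [← Subgroup.inf_relIndex_right, inf_assoc, inf_eq_right.2 h.Z_le, Subgroup.inf_relIndex_right]
    rwa [h5] at h4
  calc Nat.card F ^ 2 * D.relIndex Z ≤ K.relIndex W * (D ⊓ W).relIndex K := Nat.mul_le_mul hq h2
    _ = D.relIndex W := by rw [mul_comm, h1]

/-- a minimal section at the bottom -/
theorem exists_bot [Finite G] {X : Subgroup G} (hZX : Z ≤ X) (hne : X ≠ Z)
    (hX : ∀ g ∈ L, ∀ x ∈ X, g * x * g⁻¹ ∈ X) : ∃ Y : Subgroup G, Z ≤ Y ∧ Y ≠ Z ∧ Y ≤ X ∧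
      (∀ g ∈ L, ∀ x ∈ Y, g * x * g⁻¹ ∈ Y) ∧ IrrS L Y Z := by
  obtain ⟨Y, hYX, hmin⟩ := exists_minimal_le_of_wellFoundedLT
    (fun Y : Subgroup G => (Z ≤ Y ∧ Y ≠ Z) ∧ ∀ g ∈ L, ∀ x ∈ Y, g * x * g⁻¹ ∈ Y) X ⟨⟨hZX, hne⟩, hX⟩
  refine ⟨Y, hmin.1.1.1, hmin.1.1.2, hYX, hmin.1.2, fun X' hZ hY hX' => ?_⟩
  by_cases h1 : X' = Z
  · exact Or.inl h1
  · exact Or.inr (le_antisymm hY (hmin.2 ⟨⟨hZ, h1⟩, hX'⟩ hY))

/-- a nontrivial irreducible section above `X` -/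
theorem exists_top [Finite G] [Finite F] (h3 : 3 ≤ Nat.card F) (h : SzAct H L W Z ψ) {X : Subgroup G}
    (hZX : Z ≤ X) (hXW : X ≤ W) (hX : ∀ g ∈ L, ∀ x ∈ X, g * x * g⁻¹ ∈ X) (hnt : ¬ TrivS L W X) :
    ∃ X₁ Y₁ : Subgroup G, X ≤ X₁ ∧ X₁ ≤ Y₁ ∧ Y₁ ≤ W ∧ (∀ g ∈ L, ∀ x ∈ X₁, g * x * g⁻¹ ∈ X₁) ∧
      (∀ g ∈ L, ∀ x ∈ Y₁, g * x * g⁻¹ ∈ Y₁) ∧ IrrS L Y₁ X₁ ∧ ¬ TrivS L Y₁ X₁ := by
  obtain ⟨Y₁, hYW, hmin⟩ := exists_minimal_le_of_wellFoundedLT
    (fun Y : Subgroup G => X ≤ Y ∧ (∀ g ∈ L, ∀ x ∈ Y, g * x * g⁻¹ ∈ Y) ∧ ¬ TrivS L Y X) W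
    ⟨hXW, fun g hg x hx => h.conjW hg hx, hnt⟩
  obtain ⟨hXY, hY, hYnt⟩ := hmin.1
  have hne : X ≠ Y₁ := by
    rintro rfl
    exact hYnt fun g hg x hx => mul_mem (hX g hg x hx) (inv_mem hx)
  obtain ⟨X₁, hXX, hmax⟩ := exists_maximal_ge_of_wellFoundedGT
    (fun X' : Subgroup G => (X' ≤ Y₁ ∧ X' ≠ Y₁) ∧ ∀ g ∈ L, ∀ x ∈ X', g * x * g⁻¹ ∈ X') X ⟨⟨hXY, hne⟩, hX⟩
  obtain ⟨⟨hX1Y, hX1ne⟩, hX1⟩ := hmax.1
  refine ⟨X₁, Y₁, hXX, hX1Y, hYW, hX1, hY, fun X' h1 h2 hX' => ?_, fun htriv => ?_⟩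
  · by_cases h4 : X' = Y₁
    · exact Or.inr h4
    · exact Or.inl (le_antisymm (hmax.2 ⟨⟨h2, h4⟩, hX'⟩ h1) h1)
  · have h4 : TrivS L X₁ X := by
      by_contra hcon
      exact hX1ne (le_antisymm hX1Y (hmin.2 ⟨hXX, hX1, hcon⟩ hX1Y))
    exact hYnt ((h.res hZX hXY hYW hX hY).triv_trans h3 hX1Y htriv h4)

/-- **irreducibility from the index of the centraliser** -/
theorem irr_of [Finite G] [Finite F] (h3 : 3 ≤ Nat.card F) (h : SzAct H L W Z ψ)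
    (hbot : ∀ X : Subgroup G, Z ≤ X → X ≤ W → TrivS L X Z → X = Z)
    (htop : ∀ X : Subgroup G, Z ≤ X → X ≤ W → (∀ g ∈ L, ∀ x ∈ X, g * x * g⁻¹ ∈ X) → TrivS L W X → X = W)
    {D : Subgroup G}
    (hD : ∀ x ∈ W, x ∈ D → ∀ (b : F) (g : L), ψ g = H.u 0 b → (g : G) * x * (g : G)⁻¹ * x⁻¹ ∈ Z)
    (hidx : D.relIndex W < Nat.card F ^ 4) : IrrS L W Z := by
  intro X hZX hXW hX
  by_contra hcon
  push Not at hcon
  obtain ⟨hne1, hne2⟩ := hcon
  obtain ⟨Y₀, hZY, hY0ne, hY0X, hY0, hY0irr⟩ := exists_bot hZX hne1 hX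
  obtain ⟨X₁, Y₁, hXX, hXY, hYW, hX1, hY1, hirr1, hnt1⟩ := h.exists_top h3 hZX hXW hX
    (fun hc => hne2 (htop X hZX hXW hX hc))
  have hpos : ∀ X : Subgroup G, D.relIndex X ≠ 0 := fun X => Subgroup.index_ne_zero_of_finite
  have c1 := (h.res le_rfl hZY (hY0X.trans hXW) (fun g hg x hx => h.conjZ hg hx) hY0).count h3 hY0irr
    (fun hc => hY0ne (hbot Y₀ hZY (hY0X.trans hXW) hc)) (D := D) (fun x hx hxD b g hg =>
      hD x (hXW (hY0X hx)) hxD b g hg)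
  have c2 := (h.res (hZX.trans hXX) hXY hYW hX1 hY1).count h3 hirr1 hnt1 (D := D) (fun x hx hxD b g hg =>
      hZX.trans hXX (hD x (hYW hx) hxD b g hg))
  have c4 : D.relIndex Y₁ ≤ D.relIndex W := Subgroup.relIndex_le_of_le_right hYW (hpos _)
  have c5 : D.relIndex Y₀ ≤ D.relIndex X₁ := Subgroup.relIndex_le_of_le_right (hY0X.trans hXX) (hpos _)
  have c6 : 1 ≤ D.relIndex Z := Nat.one_le_iff_ne_zero.2 (hpos _)
  have c7 : Nat.card F ^ 2 * 1 ≤ Nat.card F ^ 2 * D.relIndex Z := Nat.mul_le_mul_left _ c6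
  have c8 : Nat.card F ^ 2 * (Nat.card F ^ 2 * 1) ≤ Nat.card F ^ 2 * D.relIndex X₁ :=
    Nat.mul_le_mul_left _ (c7.trans (c1.trans c5))
  have c9 : Nat.card F ^ 2 * (Nat.card F ^ 2 * 1) = Nat.card F ^ 4 := by ring
  omega

/-- **irreducibility from the order** -/
theorem irr_of_card [Finite G] [Finite F] (h3 : 3 ≤ Nat.card F) (h : SzAct H L W Z ψ)
    (hnt : ¬ TrivS L W Z) (hW : Z.relIndex W ≤ Nat.card F ^ 4) : IrrS L W Z := by
  obtain ⟨X₁, Y₁, hXX, hXY, hYW, hX1, hY1, hirr1, hnt1⟩ := h.exists_top h3 le_rfl h.Z_le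
    (fun g hg x hx => h.conjZ hg hx) hnt
  have hc := (h.res hXX hXY hYW hX1 hY1).card_of_irr h3 hirr1 hnt1
  have h1 := Subgroup.relIndex_mul_relIndex X₁ Y₁ W hXY hYW
  have h2 := Subgroup.relIndex_mul_relIndex Z X₁ W hXX (hXY.trans hYW)
  have hpos : ∀ X Y : Subgroup G, 0 < X.relIndex Y := fun X Y =>
    Nat.pos_of_ne_zero Subgroup.index_ne_zero_of_finite
  have hF : 0 < Nat.card F ^ 4 := by positivity
  rw [hc] at h1
  have p1 := hpos Y₁ W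
  have p2 := hpos Z X₁
  rw [← h2, ← h1] at hW
  have h4 : Y₁.relIndex W = 1 := by
    by_contra hne
    have : 2 ≤ Y₁.relIndex W := by omega
    have h5 : Nat.card F ^ 4 * 2 ≤ Nat.card F ^ 4 * Y₁.relIndex W := Nat.mul_le_mul_left _ this
    have h6 : Nat.card F ^ 4 * Y₁.relIndex W ≤ Z.relIndex X₁ * (Nat.card F ^ 4 * Y₁.relIndex W) :=
      Nat.le_mul_of_pos_left _ p2
    omega
  have h5 : Z.relIndex X₁ = 1 := by
    by_contra hne
    have : 2 ≤ Z.relIndex X₁ := by omega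
    rw [h4, mul_one] at hW
    have h5 : 2 * Nat.card F ^ 4 ≤ Z.relIndex X₁ * Nat.card F ^ 4 := Nat.mul_le_mul_right _ this
    omega
  have e1 : X₁ = Z := le_antisymm (Subgroup.relIndex_eq_one.1 h5) hXX
  have e2 : Y₁ = W := le_antisymm hYW (Subgroup.relIndex_eq_one.1 h4)
  rw [← e1, ← e2]
  exact hirr1

/-- the centraliser of `L` in `W / Z` -/
def fix (h : SzAct H L W Z ψ) : Subgroup G where
  carrier := {x | x ∈ W ∧ ∀ g ∈ L, g * x * g⁻¹ * x⁻¹ ∈ Z}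
  one_mem' := ⟨one_mem _, fun g _ => by
    have e1 : g * 1 * g⁻¹ * 1⁻¹ = 1 := by group
    rw [e1]
    exact one_mem _⟩
  mul_mem' := by
    rintro x y ⟨hx, hx'⟩ ⟨hy, hy'⟩
    refine ⟨mul_mem hx hy, fun g hg => ?_⟩
    have e1 : g * (x * y) * g⁻¹ * (x * y)⁻¹ = (g * x * g⁻¹) * (g * y * g⁻¹ * y⁻¹) * (g * x * g⁻¹)⁻¹ *
        (g * x * g⁻¹ * x⁻¹) := by group
    rw [e1]
    exact mul_mem (h.nZ (h.conjW hg hx) (hy' g hg)) (hx' g hg)
  inv_mem' := by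
    rintro x ⟨hx, hx'⟩
    refine ⟨inv_mem hx, fun g hg => ?_⟩
    have e1 : g * x⁻¹ * g⁻¹ * x⁻¹⁻¹ = x⁻¹ * (g * x * g⁻¹ * x⁻¹)⁻¹ * x⁻¹⁻¹ := by group
    rw [e1]
    exact h.nZ (inv_mem hx) (inv_mem (hx' g hg))

theorem mem_fix (h : SzAct H L W Z ψ) {x : G} : x ∈ h.fix ↔ x ∈ W ∧ ∀ g ∈ L, g * x * g⁻¹ * x⁻¹ ∈ Z := Iff.rfl

theorem fix_le (h : SzAct H L W Z ψ) : h.fix ≤ W := fun _ hx => (h.mem_fix.1 hx).1

theorem le_fix (h : SzAct H L W Z ψ) : Z ≤ h.fix := fun x hx =>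
  h.mem_fix.2 ⟨h.Z_le hx, fun _ hg => mul_mem (h.conjZ hg hx) (inv_mem hx)⟩

theorem triv_fix (h : SzAct H L W Z ψ) : TrivS L h.fix Z := fun g hg _ hx => (h.mem_fix.1 hx).2 g hg

theorem conj_fix (h : SzAct H L W Z ψ) {g x : G} (hg : g ∈ L) (hx : x ∈ h.fix) : g * x * g⁻¹ ∈ h.fix := by
  have := mul_mem (h.le_fix ((h.mem_fix.1 hx).2 g hg)) hx
  rwa [inv_mul_cancel_right] at this

/-- `fix` is normalised by everything which normalises `L`, `W`, `Z` -/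
theorem conj_fix' (h : SzAct H L W Z ψ) {C : Subgroup G} (hCL : ∀ g ∈ C, ∀ l ∈ L, g * l * g⁻¹ ∈ L)
    (hCW : ∀ g ∈ C, ∀ x ∈ W, g * x * g⁻¹ ∈ W) (hCZ : ∀ g ∈ C, ∀ x ∈ Z, g * x * g⁻¹ ∈ Z) {g x : G} (hg : g ∈ C)
    (hx : x ∈ h.fix) : g * x * g⁻¹ ∈ h.fix := by
  obtain ⟨hx1, hx2⟩ := h.mem_fix.1 hx
  refine h.mem_fix.2 ⟨hCW g hg x hx1, fun l hl => ?_⟩
  have h1 : g⁻¹ * l * g ∈ L := by
    have := hCL g⁻¹ (inv_mem hg) l hl
    rwa [inv_inv] at this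
  have h2 := hCZ g hg _ (hx2 _ h1)
  have e1 : l * (g * x * g⁻¹) * l⁻¹ * (g * x * g⁻¹)⁻¹ =
      g * ((g⁻¹ * l * g) * x * (g⁻¹ * l * g)⁻¹ * x⁻¹) * g⁻¹ := by group
  rw [e1]
  exact h2

/-- **the head is natural** -/
theorem irr_head [Finite G] [Finite F] (h3 : 3 ≤ Nat.card F) (h : SzAct H L W Z ψ)
    (htop : ∀ X : Subgroup G, Z ≤ X → X ≤ W → (∀ g ∈ L, ∀ x ∈ X, g * x * g⁻¹ ∈ X) → TrivS L W X → X = W)
    {D : Subgroup G}
    (hD : ∀ x ∈ W, x ∈ D → ∀ (b : F) (g : L), ψ g = H.u 0 b → (g : G) * x * (g : G)⁻¹ * x⁻¹ ∈ Z)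
    (hidx : D.relIndex W < Nat.card F ^ 4) : SzAct H L W h.fix ψ ∧ IrrS L W h.fix := by
  have h1 := h.res h.le_fix h.fix_le le_rfl (fun g hg x hx => h.conj_fix hg hx) (fun g hg x hx => h.conjW hg hx)
  refine ⟨h1, h1.irr_of h3 ?_ ?_ (D := D) ?_ hidx⟩
  · intro X hX1 hX2 hX3
    have hX : ∀ g ∈ L, ∀ x ∈ X, g * x * g⁻¹ ∈ X := by
      intro g hg x hx
      have := mul_mem (hX1 (hX3 g hg x hx)) hx
      rwa [inv_mul_cancel_right] at this
    have h2 := (h.res le_rfl (h.le_fix.trans hX1) hX2 (fun g hg x hx => h.conjZ hg hx) hX).triv_trans h3 hX1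
      hX3 h.triv_fix
    exact le_antisymm (fun x hx => h.mem_fix.2 ⟨hX2 hx, fun g hg => h2 g hg x hx⟩) hX1
  · intro X hX1 hX2 hX hX3
    exact htop X (h.le_fix.trans hX1) hX2 hX hX3
  · intro x hx hxD b g hg
    exact h.le_fix (hD x hx hxD b g hg)

/-- `L` is nontrivial on the head -/
theorem ntriv_head [Finite F] (h3 : 3 ≤ Nat.card F) (h : SzAct H L W Z ψ) (hnt : ¬ TrivS L W Z) :
    ¬ TrivS L W h.fix := fun hc => hnt (h.triv_trans h3 h.fix_le hc h.triv_fix)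

end SzAct

end Cfsg.Agent.Omega.TwoFFour
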