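import Cfsg.Agent.ThreePrime.SzDataExists

/-!
# The normaliser of `Sz(q)` in the additive automorphisms of its natural module `F⁴`

`mv A v` is the matrix action on `Fin 4 → F`. `Nrm H γ`: `γ` is an injective additive map normalising `Sz F e`.

* `Nrm.exists_semi`: `γ v = mu • A (σ v)` with `mu ∈ Fˣ`, `A ∈ Sz`, `σ` a field automorphism;
* `Nrm.exists_of_two`: if a power `γ ^ (2 ^ n)` is the identity then `γ ∈ Sz`;
* `fix_T`, `fix_Z`: fixed points of `T` and of the elements of `Z(T)`.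
-/

set_option autoImplicit false
set_option linter.unusedSectionVars false

namespace Cfsg.Agent.Omega.TwoFFour

open Matrix Cfsg.Agent.LieRecognition.SzMatrix Cfsg.Agent.ThreePrime.SzRel

variable {F : Type*} [Field F] {θ : F →+* F} {e : ℕ}

/-- the action of matrices on `F⁴` -/
def mv (A : GL (Fin 4) F) (v : Fin 4 → F) : Fin 4 → F := A.1 *ᵥ v

theorem mv_mul (A B : GL (Fin 4) F) (v : Fin 4 → F) : mv (A * B) v = mv A (mv B v) := by
  unfold mv
  rw [Units.val_mul, Matrix.mulVec_mulVec]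

theorem mv_one (v : Fin 4 → F) : mv 1 v = v := by
  unfold mv
  rw [Units.val_one, Matrix.one_mulVec]

theorem mv_inv_mv (A : GL (Fin 4) F) (v : Fin 4 → F) : mv A⁻¹ (mv A v) = v := by
  rw [← mv_mul, inv_mul_cancel, mv_one]

theorem mv_mv_inv (A : GL (Fin 4) F) (v : Fin 4 → F) : mv A (mv A⁻¹ v) = v := by
  rw [← mv_mul, mul_inv_cancel, mv_one]

theorem mv_add (A : GL (Fin 4) F) (v w : Fin 4 → F) : mv A (v + w) = mv A v + mv A w :=
  Matrix.mulVec_add _ _ _

theorem mv_sub (A : GL (Fin 4) F) (v w : Fin 4 → F) : mv A (v - w) = mv A v - mv A w :=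
  Matrix.mulVec_sub _ _ _

theorem mv_zero (A : GL (Fin 4) F) : mv A 0 = 0 := Matrix.mulVec_zero _

theorem mv_smul (A : GL (Fin 4) F) (c : F) (v : Fin 4 → F) : mv A (c • v) = c • mv A v :=
  Matrix.mulVec_smul _ _ _

theorem mv_inj {A B : GL (Fin 4) F} (h : ∀ v, mv A v = mv B v) : A = B := by
  apply Units.ext
  ext i j
  have h1 := congrFun (h (Pi.single j 1)) i
  unfold mv at h1
  rw [Matrix.mulVec_single_one, Matrix.mulVec_single_one] at h1
  exact h1

theorem mv_injective (A : GL (Fin 4) F) : Function.Injective (mv A) := by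
  intro v w h
  rw [← mv_inv_mv A v, h, mv_inv_mv]

theorem ext4 {v w : Fin 4 → F} (h0 : v 0 = w 0) (h1 : v 1 = w 1) (h2 : v 2 = w 2) (h3 : v 3 = w 3) : v = w := by
  funext i
  fin_cases i
  · exact h0
  · exact h1
  · exact h2
  · exact h3

theorem mv_U (H : Good F θ e) (a b : F) (v : Fin 4 → F) : mv (H.U a b) v =
    ![v 0 + a * v 1 + b * v 2 + (a * b + a ^ 2 * θ a + θ b) * v 3,
      v 1 + θ a * v 2 + (b + a * θ a) * v 3, v 2 + a * v 3, v 3] := by
  unfold mv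
  rw [H.U_val, Umat_def]
  apply ext4 <;> simp [Matrix.mulVec, dotProduct, Fin.sum_univ_four]

theorem mv_D (H : Good F θ e) (k : Fˣ) (v : Fin 4 → F) : mv (H.D k) v =
    ![k * v 0, θ k * (k : F)⁻¹ * v 1, k * (θ k)⁻¹ * v 2, (k : F)⁻¹ * v 3] := by
  unfold mv
  rw [H.D_val, Dmat_def]
  apply ext4 <;> simp [Matrix.mulVec, dotProduct, Fin.sum_univ_four]

theorem mv_W (v : Fin 4 → F) : mv (W F) v = ![v 3, v 2, v 1, v 0] := by
  unfold mv
  rw [W_val]
  unfold Cfsg.Agent.LieRecognition.SzMatrix.J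
  apply ext4 <;> simp [Matrix.mulVec, dotProduct, Fin.sum_univ_four]

/-- the fixed points of `T` -/
theorem fix_T (H : Good F θ e) {v : Fin 4 → F} : (∀ a b, mv (H.U a b) v = v) ↔ v 1 = 0 ∧ v 2 = 0 ∧ v 3 = 0 := by
  constructor
  · intro h
    have h3 := congrFun (h 1 0) 2
    rw [mv_U] at h3
    have h3 : v 2 + 1 * v 3 = v 2 := h3
    have h3 : v 3 = 0 := by linear_combination h3
    have h2 := congrFun (h 0 1) 0
    rw [mv_U] at h2
    have h2 : v 0 + 0 * v 1 + 1 * v 2 + (0 * 1 + 0 ^ 2 * θ 0 + θ 1) * v 3 = v 0 := h2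
    rw [h3] at h2
    have h2 : v 2 = 0 := by linear_combination h2
    have h1 := congrFun (h 1 0) 0
    rw [mv_U] at h1
    have h1 : v 0 + 1 * v 1 + 0 * v 2 + (1 * 0 + 1 ^ 2 * θ 1 + θ 0) * v 3 = v 0 := h1
    rw [h3] at h1
    have h1 : v 1 = 0 := by linear_combination h1
    exact ⟨h1, h2, h3⟩
  · rintro ⟨h1, h2, h3⟩ a b
    rw [mv_U]
    apply ext4
    · show v 0 + a * v 1 + b * v 2 + (a * b + a ^ 2 * θ a + θ b) * v 3 = v 0
      rw [h1, h2, h3]; ring
    · show v 1 + θ a * v 2 + (b + a * θ a) * v 3 = v 1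
      rw [h2, h3]; ring
    · show v 2 + a * v 3 = v 2
      rw [h3]; ring
    · rfl

/-- the fixed points of an involution of `T` -/
theorem fix_Z (H : Good F θ e) {b : F} (hb : b ≠ 0) {v : Fin 4 → F} :
    mv (H.U 0 b) v = v ↔ v 2 = 0 ∧ v 3 = 0 := by
  constructor
  · intro h
    have h3 := congrFun h 1
    rw [mv_U] at h3
    have h3 : v 1 + θ 0 * v 2 + (b + 0 * θ 0) * v 3 = v 1 := h3
    rw [map_zero] at h3
    have h3 : b * v 3 = 0 := by linear_combination h3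
    have h3 : v 3 = 0 := (mul_eq_zero.1 h3).resolve_left hb
    have h2 := congrFun h 0
    rw [mv_U] at h2
    have h2 : v 0 + 0 * v 1 + b * v 2 + (0 * b + 0 ^ 2 * θ 0 + θ b) * v 3 = v 0 := h2
    rw [h3] at h2
    have h2 : b * v 2 = 0 := by linear_combination h2
    exact ⟨(mul_eq_zero.1 h2).resolve_left hb, h3⟩
  · rintro ⟨h2, h3⟩
    rw [mv_U]
    apply ext4
    · show v 0 + 0 * v 1 + b * v 2 + (0 * b + 0 ^ 2 * θ 0 + θ b) * v 3 = v 0
      rw [h2, h3]; ring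
    · show v 1 + θ 0 * v 2 + (b + 0 * θ 0) * v 3 = v 1
      rw [h2, h3]; ring
    · show v 2 + 0 * v 3 = v 2
      ring
    · rfl

/-- `γ` is an injective additive map of `F⁴` normalising `Sz F e` -/
structure Nrm (H : Good F θ e) (γ : (Fin 4 → F) → (Fin 4 → F)) : Prop where
  add : ∀ v w, γ (v + w) = γ v + γ w
  inj : Function.Injective γ
  nrm : ∀ A ∈ Cfsg.Lie.Sz F e, ∃ B ∈ Cfsg.Lie.Sz F e, ∀ v, γ (mv A v) = mv B (γ v)

namespace Nrm

variable {H : Good F θ e} {γ : (Fin 4 → F) → (Fin 4 → F)}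

theorem zero (h : Nrm H γ) : γ 0 = 0 := by
  have := h.add 0 0
  rw [add_zero] at this
  exact left_eq_add.1 this

theorem mv_comp (h : Nrm H γ) {A : GL (Fin 4) F} (hA : A ∈ Cfsg.Lie.Sz F e) : Nrm H (fun v => mv A (γ v)) where
  add v w := by rw [h.add, mv_add]
  inj := (mv_injective A).comp h.inj
  nrm X hX := by
    obtain ⟨B, hB, hXB⟩ := h.nrm X hX
    refine ⟨A * B * A⁻¹, mul_mem (mul_mem hA hB) (inv_mem hA), fun v => ?_⟩
    show mv A (γ (mv X v)) = mv (A * B * A⁻¹) (mv A (γ v))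
    rw [hXB, mv_mul, mv_mul, mv_inv_mv]

/-- the automorphism induced on `Sz` -/
theorem exists_aut [Finite F] (h : Nrm H γ) : ∃ α : MulAut ↥(Cfsg.Lie.Sz F e),
    ∀ (A : ↥(Cfsg.Lie.Sz F e)) v, γ (mv A.1 v) = mv (α A).1 (γ v) := by
  have hsurj : Function.Surjective γ := Finite.surjective_of_injective h.inj
  choose f hf hfv using fun A : ↥(Cfsg.Lie.Sz F e) => h.nrm A.1 A.2
  have huniq : ∀ (A B : ↥(Cfsg.Lie.Sz F e)), (∀ v, γ (mv A.1 v) = mv B.1 (γ v)) → B = ⟨f A, hf A⟩ := by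
    intro A B hB
    apply Subtype.ext
    apply mv_inj
    intro v
    obtain ⟨w, rfl⟩ := hsurj v
    rw [← hB, hfv]
  let φ : ↥(Cfsg.Lie.Sz F e) →* ↥(Cfsg.Lie.Sz F e) :=
    { toFun := fun A => ⟨f A, hf A⟩
      map_one' := by
        refine (huniq 1 1 fun v => ?_).symm
        show γ (mv 1 v) = mv 1 (γ v)
        rw [mv_one, mv_one]
      map_mul' := fun A B => by
        refine (huniq (A * B) (⟨f A, hf A⟩ * ⟨f B, hf B⟩) fun v => ?_).symm
        show γ (mv (A.1 * B.1) v) = mv (f A * f B) (γ v)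
        rw [mv_mul, mv_mul, hfv, hfv] }
  have hinj : Function.Injective φ := by
    intro A B hAB
    have h1 : f A = f B := congrArg Subtype.val hAB
    apply Subtype.ext
    apply mv_inj
    intro v
    apply h.inj
    rw [hfv, hfv, h1]
  have : Finite ↥(Cfsg.Lie.Sz F e) := inferInstance
  refine ⟨MulEquiv.ofBijective φ ⟨hinj, Finite.surjective_of_injective hinj⟩, fun A v => ?_⟩
  exact hfv A v

end Nrm

/-- `γ` normalises `Sz`, inducing `α`, which normalises `T` and `T^w` -/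
structure Std (H : Good F θ e) (γ : (Fin 4 → F) → (Fin 4 → F)) (α : MulAut ↥(Cfsg.Lie.Sz F e)) : Prop where
  nrm : Nrm H γ
  eq : ∀ (A : ↥(Cfsg.Lie.Sz F e)) v, γ (mv A.1 v) = mv (α A).1 (γ v)
  T : ∀ a b, ∃ c d, α (H.u a b) = H.u c d
  w : ∃ a b k, α H.w = H.w * (H.u a b * H.d k)

open scoped Pointwise in
theorem Nrm.exists_std [Fintype F] {m : ℕ} (hm : 1 ≤ m) (hF : Fintype.card F = 2 ^ (2 * m + 1))
    {H : Good F θ e} {γ : (Fin 4 → F) → (Fin 4 → F)} (h : Nrm H γ) :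
    ∃ A : ↥(Cfsg.Lie.Sz F e), ∃ α, Std H (fun v => mv A.1 (γ v)) α := by
  classical
  have : Fact (Nat.Prime 2) := ⟨Nat.prime_two⟩
  have : Finite ↥(Cfsg.Lie.Sz F e) := inferInstance
  obtain ⟨α, hα⟩ := h.exists_aut
  let R := ofGood H
  obtain ⟨P, hP⟩ := R.exists_sylow_eq hm hF
  obtain ⟨g, hg⟩ := MulAction.exists_smul_eq ↥(Cfsg.Lie.Sz F e) (α • P) P
  let β : MulAut ↥(Cfsg.Lie.Sz F e) := MulAut.conj g * α
  have hβP : β • P = P := by
    rw [show β • P = MulAut.conj g • (α • P) from mul_smul _ _ _]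
    exact hg
  have hβT : ∀ x ∈ R.T, β x ∈ R.T := R.map_conj_T β P hP hβP
  have hwT : ¬ ∃ a b k, β H.w = H.u a b * H.d k := by
    rintro ⟨a, b, k, hw⟩
    -- `w` would normalise `T`
    have h1 : β H.w ∈ Subgroup.normalizer (R.T : Set ↥(Cfsg.Lie.Sz F e)) := by
      rw [hw]; exact R.ud_mem_normalizer a b k
    have hbij : ∀ x ∈ R.T, ∃ y ∈ R.T, β y = x := by
      intro x hx
      have h2 : x ∈ (P : Subgroup ↥(Cfsg.Lie.Sz F e)) := by rw [hP]; exact hx
      rw [← hβP, Sylow.pointwise_smul_def, Subgroup.mem_smul_pointwise_iff_exists] at h2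
      obtain ⟨y, hy, rfl⟩ := h2
      exact ⟨y, by rw [← hP]; exact hy, rfl⟩
    apply R.w_not_mem_normalizer
    refine R.ti (R.u_mem 0 1) (R.u_ne_one one_ne_zero) ?_
    obtain ⟨y, hy, hy'⟩ := hbij _ ((Subgroup.mem_normalizer_iff.1 h1 _).1 (hβT _ (R.u_mem 0 1)))
    have h3 : β (R.w * R.u 0 1 * R.w⁻¹) = β y := by
      rw [hy', map_mul, map_mul, map_inv]
      rfl
    rw [β.injective h3]
    exact hy
  have hbr : ∃ (a b c d : F) (k : Fˣ), β H.w = H.u a b * H.w * (H.u c d * H.d k) := by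
    rcases H.bruhat (β H.w).2 with ⟨a, b, k, h1⟩ | ⟨a, b, c, d, k, h1⟩
    · exact absurd ⟨a, b, k, Subtype.ext h1⟩ hwT
    · exact ⟨a, b, c, d, k, Subtype.ext h1⟩
  obtain ⟨a, b, c, d, k, hw⟩ := hbr
  refine ⟨(H.u a b)⁻¹ * g, MulAut.conj (H.u a b)⁻¹ * β, ?_, ?_, ?_, ?_⟩
  · exact h.mv_comp ((H.u a b)⁻¹ * g).2
  · intro A v
    show mv ((H.u a b)⁻¹ * g).1 (γ (mv A.1 v)) = mv ((H.u a b)⁻¹ * (g * α A * g⁻¹) * (H.u a b)⁻¹⁻¹).1
      (mv ((H.u a b)⁻¹ * g).1 (γ v))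
    rw [hα, ← mv_mul, ← mv_mul, ← Subgroup.coe_mul, ← Subgroup.coe_mul]
    congr 2
    group
  · intro x y
    have h1 := mul_mem (mul_mem (inv_mem (R.u_mem a b)) (hβT _ (R.u_mem x y))) (inv_mem (inv_mem (R.u_mem a b)))
    obtain ⟨c, d, h2⟩ := h1
    exact ⟨c, d, h2⟩
  · obtain ⟨a', b', k', h2⟩ : ∃ (a' b' : F) (k' : Fˣ), H.u c d * H.d k * H.u a b = H.u a' b' * H.d k' := by
      have h3 := H.u_mul c d (a * k ^ 2 * (θ k)⁻¹) (b * θ k)
      exact ⟨_, _, k, by rw [mul_assoc, H.d_mul_u, ← mul_assoc, h3]⟩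
    refine ⟨a', b', k', ?_⟩
    show (H.u a b)⁻¹ * β H.w * (H.u a b)⁻¹⁻¹ = _
    rw [hw, ← h2]
    group

namespace Std

variable {H : Good F θ e} {γ : (Fin 4 → F) → (Fin 4 → F)} {α : MulAut ↥(Cfsg.Lie.Sz F e)}

theorem T' [Finite F] (h : Std H γ α) (a b : F) : ∃ c d, α (H.u c d) = H.u a b := by
  choose f g hfg using h.T
  have hinj : Function.Injective (fun p : F × F => (f p.1 p.2, g p.1 p.2)) := by
    rintro ⟨x, y⟩ ⟨x', y'⟩ hxy
    have h1 : f x y = f x' y' := congrArg Prod.fst hxy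
    have h2 : g x y = g x' y' := congrArg Prod.snd hxy
    have h3 : H.u x y = H.u x' y' := by
      apply α.injective
      rw [hfg, hfg, h1, h2]
    obtain ⟨rfl, rfl⟩ := H.u_inj h3
    rfl
  obtain ⟨⟨c, d⟩, hcd⟩ := Finite.surjective_of_injective hinj (a, b)
  refine ⟨c, d, ?_⟩
  rw [hfg]
  have h1 : f c d = a := congrArg Prod.fst hcd
  have h2 : g c d = b := congrArg Prod.snd hcd
  rw [h1, h2]

theorem sq_iff (H : Good F θ e) (a b : F) : H.u a b * H.u a b = 1 ↔ a = 0 :=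
  (ofGood H).u_sq_iff a b

/-- `α` normalises `Z(T)` -/
theorem Z' (h : Std H γ α) (b : F) : ∃ d, α (H.u 0 b) = H.u 0 d := by
  obtain ⟨c, d, hcd⟩ := h.T 0 b
  have h1 : H.u c d * H.u c d = 1 := by
    rw [← hcd, ← map_mul, (sq_iff H 0 b).2 rfl, map_one]
  rw [sq_iff] at h1
  subst h1
  exact ⟨d, hcd⟩

theorem ne_zero_of (h : Std H γ α) {b d : F} (hb : b ≠ 0) (hd : α (H.u 0 b) = H.u 0 d) : d ≠ 0 := by
  rintro rfl
  rw [H.u_zero] at hd
  have h1 : H.u 0 b = 1 := by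
    apply α.injective
    rw [hd, map_one]
  rw [← H.u_zero] at h1
  exact hb (H.u_inj h1).2

theorem eqU (h : Std H γ α) {a b c d : F} (hcd : α (H.u a b) = H.u c d) (v : Fin 4 → F) :
    γ (mv (H.U a b) v) = mv (H.U c d) (γ v) := by
  have := h.eq (H.u a b) v
  rw [hcd] at this
  exact this

/-- `C_M(T)` is invariant -/
theorem line0 [Finite F] (h : Std H γ α) {v : Fin 4 → F} (hv : v 1 = 0 ∧ v 2 = 0 ∧ v 3 = 0) :
    γ v 1 = 0 ∧ γ v 2 = 0 ∧ γ v 3 = 0 := by
  rw [← fix_T H] at hv ⊢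
  intro a b
  obtain ⟨c, d, hcd⟩ := h.T' a b
  rw [← h.eqU hcd, hv]

/-- `C_M(Z(T))` is invariant -/
theorem plane (h : Std H γ α) {v : Fin 4 → F} (hv : v 2 = 0 ∧ v 3 = 0) : γ v 2 = 0 ∧ γ v 3 = 0 := by
  obtain ⟨d, hd⟩ := h.Z' 1
  have hd0 := h.ne_zero_of one_ne_zero hd
  rw [← fix_Z H hd0, ← h.eqU hd, (fix_Z H one_ne_zero).2 hv]

theorem ud_inv (H : Good F θ e) (a b : F) (k : Fˣ) : ∃ c d l, (H.u a b * H.d k)⁻¹ = H.u c d * H.d l := by
  have h1 : (H.u a b * H.d k)⁻¹ ∈ H.borel := inv_mem ((H.mem_borel_iff' _).2 ⟨a, b, k, rfl⟩)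
  exact (H.mem_borel_iff' _).1 h1

/-- conjugation with `w` -/
theorem flip (h : Std H γ α) :
    Std H (fun v => mv (W F) (γ (mv (W F) v))) (MulAut.conj H.w * α * MulAut.conj H.w) where
  nrm :=
    { add := fun v w => by
        show mv (W F) (γ (mv (W F) (v + w))) = _
        rw [mv_add, h.nrm.add, mv_add]
      inj := (mv_injective _).comp (h.nrm.inj.comp (mv_injective _))
      nrm := fun A hA => by
        obtain ⟨B, hB, hAB⟩ := h.nrm.nrm (W F * A * W F) (mul_mem (mul_mem H.W_mem hA) H.W_mem)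
        refine ⟨W F * B * W F, mul_mem (mul_mem H.W_mem hB) H.W_mem, fun v => ?_⟩
        show mv (W F) (γ (mv (W F) (mv A v))) = mv (W F * B * W F) (mv (W F) (γ (mv (W F) v)))
        have h1 : mv (W F) (mv A v) = mv (W F * A * W F) (mv (W F) v) := by
          rw [← mv_mul, ← mv_mul, mul_assoc _ (W F) (W F), W_mul_W, mul_one]
        rw [h1, hAB, ← mv_mul, ← mv_mul, mul_assoc _ (W F) (W F), W_mul_W, mul_one] }
  eq A v := by
    show mv (W F) (γ (mv (W F) (mv A.1 v))) =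
      mv (H.w * α (H.w * A * H.w⁻¹) * H.w⁻¹).1 (mv (W F) (γ (mv (W F) v)))
    have h1 : mv (W F) (mv A.1 v) = mv (H.w * A * H.w⁻¹).1 (mv (W F) v) := by
      rw [H.w_inv]
      show _ = mv (W F * A.1 * W F) (mv (W F) v)
      rw [← mv_mul, ← mv_mul, mul_assoc _ (W F) (W F), W_mul_W, mul_one]
    rw [h1, h.eq, H.w_inv]
    show mv (W F) (mv (α (H.w * A * H.w)).1 (γ (mv (W F) v))) =
      mv (W F * (α (H.w * A * H.w)).1 * W F) (mv (W F) (γ (mv (W F) v)))
    rw [← mv_mul, ← mv_mul, mul_assoc _ (W F) (W F), W_mul_W, mul_one]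
  T a b := by
    obtain ⟨x, y, k, hw⟩ := h.w
    obtain ⟨c, d, hcd⟩ := h.T a b
    have h1 : H.u x y * H.d k * H.u c d * (H.u x y * H.d k)⁻¹ ∈ H.unip :=
      H.borel_normalizes _ ((H.mem_borel_iff' _).2 ⟨x, y, k, rfl⟩) _ (H.u_mem_unip c d)
    obtain ⟨c', d', h2⟩ := (H.mem_unip_iff _).1 h1
    refine ⟨c', d', ?_⟩
    show H.w * α (H.w * H.u a b * H.w⁻¹) * H.w⁻¹ = _
    rw [map_mul, map_mul, map_inv, hw, hcd, ← h2]
    have h3 := H.w_mul_w
    have h4 : H.w * (H.w * (H.u x y * H.d k) * H.u c d * (H.w * (H.u x y * H.d k))⁻¹) * H.w⁻¹ =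
        (H.w * H.w) * (H.u x y * H.d k) * H.u c d * (H.u x y * H.d k)⁻¹ * (H.w * H.w)⁻¹ := by group
    rw [h4, h3]
    group
  w := by
    obtain ⟨x, y, k, hw⟩ := h.w
    obtain ⟨c, d, l, hcd⟩ := ud_inv H x y k
    refine ⟨c, d, l, ?_⟩
    show H.w * α (H.w * H.w * H.w⁻¹) * H.w⁻¹ = _
    have h1 : α H.w = (α H.w)⁻¹ := by
      rw [← map_inv, H.w_inv]
    rw [mul_inv_cancel_right, h1, hw, ← hcd]
    have h4 : H.w * (H.w * (H.u x y * H.d k))⁻¹ * H.w⁻¹ =
        H.w * (H.u x y * H.d k)⁻¹ * (H.w * H.w)⁻¹ := by group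
    rw [h4, H.w_mul_w]
    group

theorem α_flip (h : Std H γ α) (b : F) : ∃ d, α (H.w * H.u 0 b * H.w) = H.w * H.u 0 d * H.w := by
  obtain ⟨d, hd⟩ := h.flip.Z' b
  refine ⟨d, ?_⟩
  rw [← hd]
  show _ = H.w * (H.w * α (H.w * H.u 0 b * H.w⁻¹) * H.w⁻¹) * H.w
  rw [H.w_inv]
  have h4 : H.w * (H.w * α (H.w * H.u 0 b * H.w) * H.w) * H.w =
      (H.w * H.w) * α (H.w * H.u 0 b * H.w) * (H.w * H.w) := by group
  rw [h4, H.w_mul_w, one_mul, mul_one]

theorem mv_wuw (H : Good F θ e) (b : F) (v : Fin 4 → F) : mv (H.w * H.u 0 b * H.w).1 v =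
    ![v 0, v 1, v 2 + b * v 0, v 3 + b * v 1 + θ b * v 0] := by
  show mv (W F * H.U 0 b * W F) v = _
  rw [mv_mul, mv_mul, mv_W v, mv_U, mv_W]
  apply ext4 <;> simp

/-- the line `F e₃` is invariant -/
theorem line3 [Finite F] (h : Std H γ α) {v : Fin 4 → F} (hv : v 0 = 0 ∧ v 1 = 0 ∧ v 2 = 0) :
    γ v 0 = 0 ∧ γ v 1 = 0 ∧ γ v 2 = 0 := by
  have h1 := h.flip.line0 (v := mv (W F) v) (by rw [mv_W]; exact ⟨hv.2.2, hv.2.1, hv.1⟩)
  have h2 : mv (W F) (mv (W F) v) = v := by rw [← mv_mul, W_mul_W, mv_one]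
  simp only [h2] at h1
  rw [mv_W] at h1
  exact ⟨h1.2.2, h1.2.1, h1.1⟩

/-- the line `F e₁` is invariant -/
theorem line1 [Finite F] (h : Std H γ α) {v : Fin 4 → F} (hv : v 0 = 0 ∧ v 2 = 0 ∧ v 3 = 0) :
    γ v 0 = 0 ∧ γ v 2 = 0 ∧ γ v 3 = 0 := by
  obtain ⟨h2, h3⟩ := h.plane hv.2
  refine ⟨?_, h2, h3⟩
  obtain ⟨d, hd⟩ := h.α_flip 1
  have hd0 : d ≠ 0 := by
    rintro rfl
    have h4 : H.w * H.u 0 1 * H.w = 1 := by
      apply α.injective
      rw [hd, map_one, H.u_zero, mul_one, H.w_mul_w]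
    have h5 : H.u 0 1 = H.u 0 0 := by
      have h6 : H.w * (H.w * H.u 0 1 * H.w) * H.w = 1 := by rw [h4, mul_one, H.w_mul_w]
      have h7 : H.w * (H.w * H.u 0 1 * H.w) * H.w = (H.w * H.w) * H.u 0 1 * (H.w * H.w) := by group
      rw [h7, H.w_mul_w, one_mul, mul_one] at h6
      rw [h6, H.u_zero]
    exact one_ne_zero (H.u_inj h5).2
  have h4 := h.eq (H.w * H.u 0 1 * H.w) v
  rw [hd, mv_wuw, mv_wuw] at h4
  have h5 : (![v 0, v 1, v 2 + 1 * v 0, v 3 + 1 * v 1 + θ 1 * v 0] : Fin 4 → F) = v + Pi.single 3 (v 1) := by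
    apply ext4 <;> simp [hv.1]
  rw [h5, h.nrm.add] at h4
  have h6 := h.line3 (v := Pi.single 3 (v 1)) (by simp)
  have h7 := congrFun h4 2
  rw [Pi.add_apply, h6.2.2, add_zero] at h7
  have h7 : γ v 2 = γ v 2 + d * γ v 0 := h7
  have h8 : d * γ v 0 = 0 := by linear_combination -h7
  exact (mul_eq_zero.1 h8).resolve_left hd0

/-- the line `F e₂` is invariant -/
theorem line2 [Finite F] (h : Std H γ α) {v : Fin 4 → F} (hv : v 0 = 0 ∧ v 1 = 0 ∧ v 3 = 0) :
    γ v 0 = 0 ∧ γ v 1 = 0 ∧ γ v 3 = 0 := by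
  have h1 := h.flip.line1 (v := mv (W F) v) (by rw [mv_W]; exact ⟨hv.2.2, hv.2.1, hv.1⟩)
  have h2 : mv (W F) (mv (W F) v) = v := by rw [← mv_mul, W_mul_W, mv_one]
  simp only [h2] at h1
  rw [mv_W] at h1
  exact ⟨h1.2.2, h1.2.1, h1.1⟩

theorem single_eq [Finite F] (h : Std H γ α) (i : Fin 4) (x : F) :
    γ (Pi.single i x) = Pi.single i (γ (Pi.single i x) i) := by
  fin_cases i
  · have h1 := h.line0 (v := Pi.single 0 x) (by simp)
    apply ext4
    · simp
    · simpa using h1.1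
    · simpa using h1.2.1
    · simpa using h1.2.2
  · have h1 := h.line1 (v := Pi.single 1 x) (by simp)
    apply ext4
    · simpa using h1.1
    · simp
    · simpa using h1.2.1
    · simpa using h1.2.2
  · have h1 := h.line2 (v := Pi.single 2 x) (by simp)
    apply ext4
    · simpa using h1.1
    · simpa using h1.2.1
    · simp
    · simpa using h1.2.2
  · have h1 := h.line3 (v := Pi.single 3 x) (by simp)
    apply ext4
    · simpa using h1.1
    · simpa using h1.2.1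
    · simpa using h1.2.2
    · simp

/-- the diagonal characters of the torus -/
def ch (θ : F →+* F) (k : Fˣ) : Fin 4 → F := ![k, θ k * (k : F)⁻¹, k * (θ k)⁻¹, (k : F)⁻¹]

theorem mv_D_single (H : Good F θ e) (k : Fˣ) (i : Fin 4) (x : F) :
    mv (H.D k) (Pi.single i x) = Pi.single i (ch θ k i * x) := by
  rw [mv_D]
  fin_cases i <;> apply ext4 <;> simp [ch]

theorem exists_d [Finite F] (h : Std H γ α) (k : Fˣ) : ∃ l, α (H.d k) = H.d l := by
  let R := ofGood H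
  have h1 : ∀ x ∈ R.T, α x ∈ R.T := by
    rintro _ ⟨a, b, rfl⟩
    obtain ⟨c, d, hcd⟩ := h.T a b
    exact ⟨c, d, hcd⟩
  have h2 : R.w * α R.w ∈ Subgroup.normalizer (R.T : Set ↥(Cfsg.Lie.Sz F e)) := by
    obtain ⟨a, b, l, hw⟩ := h.w
    show H.w * α H.w ∈ _
    rw [hw, ← mul_assoc, H.w_mul_w, one_mul]
    exact R.ud_mem_normalizer a b l
  obtain ⟨l, hl⟩ := R.map_D h1 h2 k
  exact ⟨l, hl⟩

theorem theta_comm (H : Good F θ e) (σ : F →+* F) (x : F) : σ (θ x) = θ (σ x) := by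
  rw [← H.pow, ← H.pow, map_pow]

theorem exists_div [Finite F] (H : Good F θ e) (x : Fˣ) : ∃ k : Fˣ, θ k * (k : F)⁻¹ = x := by
  let f : Fˣ →* Fˣ :=
    { toFun := fun k => Units.map (θ : F →* F) k * k⁻¹
      map_one' := by simp
      map_mul' := by
        intro k l
        rw [map_mul, _root_.mul_inv_rev, mul_comm l⁻¹]
        exact mul_mul_mul_comm _ _ _ _ }
  have hf : Function.Injective f := by
    rw [injective_iff_map_eq_one]
    intro k hk
    have h1 : θ k * (k : F)⁻¹ = 1 := by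
      have := congrArg Units.val hk
      simpa [f] using this
    rw [mul_inv_eq_one₀ k.ne_zero] at h1
    rcases (ofGood H).fix_theta h1 with h2 | h2
    · exact absurd h2 k.ne_zero
    · exact Units.ext h2
  obtain ⟨k, hk⟩ := Finite.surjective_of_injective hf x
  refine ⟨k, ?_⟩
  have := congrArg Units.val hk
  simpa [f] using this

/-- **The standard form**: `γ` is a scalar times a torus element times a field automorphism. -/
theorem exists_form [Finite F] (h : Std H γ α) : ∃ (mu k : Fˣ) (σ : F ≃+* F),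
    ∀ v, γ v = (mu : F) • mv (H.D k) (fun i => σ (v i)) := by
  choose κ hκ using h.exists_d
  -- coordinates
  have hγ : ∀ (i : Fin 4) (k : Fˣ) (x : F), γ (Pi.single i (ch θ k i * x)) i = ch θ (κ k) i * γ (Pi.single i x) i := by
    intro i k x
    have h1 := h.eq (H.d k) (Pi.single i x)
    rw [hκ] at h1
    have h2 : mv (H.d k).1 (Pi.single i x) = Pi.single i (ch θ k i * x) := mv_D_single H k i x
    rw [h2, h.single_eq i x] at h1
    have h3 : mv (H.d (κ k)).1 (Pi.single i (γ (Pi.single i x) i)) = Pi.single i (ch θ (κ k) i * γ (Pi.single i x) i) :=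
      mv_D_single H (κ k) i _
    rw [h3] at h1
    have h4 := congrFun h1 i
    rw [Pi.single_eq_same] at h4
    exact h4
  have hadd : ∀ (i : Fin 4) (x y : F), γ (Pi.single i (x + y)) i = γ (Pi.single i x) i + γ (Pi.single i y) i := by
    intro i x y
    rw [Pi.single_add, h.nrm.add]
    rfl
  have hne : ∀ (i : Fin 4) (x : F), x ≠ 0 → γ (Pi.single i x) i ≠ 0 := by
    intro i x hx h0
    have h1 := h.single_eq i x
    rw [h0, Pi.single_zero, ← h.nrm.zero] at h1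
    have h2 := h.nrm.inj h1
    exact hx (Pi.single_eq_zero_iff.1 h2)
  -- the field automorphism
  set c : Fin 4 → F := fun i => γ (Pi.single i 1) i with hc
  have hc0 : ∀ i, c i ≠ 0 := fun i => hne i 1 one_ne_zero
  let s : F → F := fun x => γ (Pi.single 0 x) 0 * (c 0)⁻¹
  have hs1 : s 1 = 1 := mul_inv_cancel₀ (hc0 0)
  have hsk : ∀ (k : Fˣ) (x : F), s (k * x) = κ k * s x := by
    intro k x
    show γ (Pi.single 0 (k * x)) 0 * (c 0)⁻¹ = κ k * (γ (Pi.single 0 x) 0 * (c 0)⁻¹)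
    have h1 : γ (Pi.single 0 (k * x)) 0 = κ k * γ (Pi.single 0 x) 0 := hγ 0 k x
    rw [h1]; ring
  have hsκ : ∀ k : Fˣ, s k = κ k := by
    intro k
    have := hsk k 1
    rw [mul_one, hs1, mul_one] at this
    exact this
  have hsadd : ∀ x y, s (x + y) = s x + s y := by
    intro x y
    show γ (Pi.single 0 (x + y)) 0 * (c 0)⁻¹ = _
    rw [hadd]; show _ = γ (Pi.single 0 x) 0 * (c 0)⁻¹ + γ (Pi.single 0 y) 0 * (c 0)⁻¹
    ring
  have hs0 : s 0 = 0 := by
    have := hsadd 0 0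
    rw [add_zero] at this
    exact left_eq_add.1 this
  have hsmul : ∀ x y, s (x * y) = s x * s y := by
    intro x y
    by_cases hx : x = 0
    · rw [hx, zero_mul, hs0, zero_mul]
    · have := hsk (Units.mk0 x hx) y
      rw [← hsκ] at this
      exact this
  let σ₀ : F →+* F := { toFun := s, map_one' := hs1, map_mul' := hsmul, map_zero' := hs0, map_add' := hsadd }
  let σ : F ≃+* F := RingEquiv.ofBijective σ₀ ⟨σ₀.injective, Finite.surjective_of_injective σ₀.injective⟩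
  have hσ : ∀ x, σ x = s x := fun _ => rfl
  have hσκ : ∀ k : Fˣ, σ k = κ k := hsκ
  have hσθ : ∀ x, σ (θ x) = θ (σ x) := theta_comm H (σ : F →+* F)
  have hch : ∀ (i : Fin 4) (k : Fˣ), σ (ch θ k i) = ch θ (κ k) i := by
    intro i k
    fin_cases i
    · exact hσκ k
    · show σ (θ k * (k : F)⁻¹) = θ (κ k) * (κ k : F)⁻¹
      rw [map_mul, map_inv₀, hσθ, hσκ]
    · show σ (k * (θ k : F)⁻¹) = (κ k) * (θ (κ k) : F)⁻¹
      rw [map_mul, map_inv₀, hσθ, hσκ]
    · show σ ((k : F)⁻¹) = (κ k : F)⁻¹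
      rw [map_inv₀, hσκ]
  have hchs : ∀ (i : Fin 4) (x : Fˣ), ∃ k : Fˣ, ch θ k i = x := by
    intro i x
    fin_cases i
    · exact ⟨x, rfl⟩
    · exact exists_div H x
    · obtain ⟨k, hk⟩ := exists_div H x⁻¹
      refine ⟨k, ?_⟩
      show (k : F) * (θ k : F)⁻¹ = x
      have h1 : ((x⁻¹ : Fˣ) : F) = (x : F)⁻¹ := Units.val_inv_eq_inv_val x
      rw [h1] at hk
      have h2 : (θ k * (k : F)⁻¹)⁻¹ = ((x : F)⁻¹)⁻¹ := by rw [hk]
      rw [inv_inv, _root_.mul_inv_rev, inv_inv] at h2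
      exact h2
    · refine ⟨x⁻¹, ?_⟩
      show ((x⁻¹ : Fˣ) : F)⁻¹ = x
      rw [Units.val_inv_eq_inv_val, inv_inv]
  have hform : ∀ (i : Fin 4) (x : F), γ (Pi.single i x) i = c i * σ x := by
    intro i x
    by_cases hx : x = 0
    · rw [hx, map_zero, mul_zero, Pi.single_zero, h.nrm.zero]
      rfl
    · obtain ⟨k, hk⟩ := hchs i (Units.mk0 x hx)
      have h1 := hγ i k 1
      rw [mul_one, hk, ← hch, hk] at h1
      rw [Units.val_mk0] at h1
      rw [h1, mul_comm]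
  have hv : ∀ v, γ v = fun i => c i * σ (v i) := by
    intro v
    have h1 : v = Pi.single 0 (v 0) + Pi.single 1 (v 1) + Pi.single 2 (v 2) + Pi.single 3 (v 3) := by
      apply ext4 <;> simp
    have h2 : γ v = Pi.single 0 (c 0 * σ (v 0)) + Pi.single 1 (c 1 * σ (v 1)) + Pi.single 2 (c 2 * σ (v 2)) +
        Pi.single 3 (c 3 * σ (v 3)) := by
      conv_lhs => rw [h1]
      rw [h.nrm.add, h.nrm.add, h.nrm.add, h.single_eq 0, h.single_eq 1, h.single_eq 2, h.single_eq 3, hform, hform,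
        hform, hform]
    rw [h2]
    apply ext4 <;> simp
  -- the scalars
  obtain ⟨a', b', hab⟩ := h.T 1 0
  have hE : ∀ v, γ (mv (H.U 1 0) v) = mv (H.U a' b') (γ v) := h.eqU hab
  have e01 : c 0 = a' * c 1 := by
    have h1 := congrFun (hE (Pi.single 1 1)) 0
    rw [hv, mv_U, hv, mv_U] at h1
    simpa using h1
  have e12 : c 1 = θ a' * c 2 := by
    have h1 := congrFun (hE (Pi.single 2 1)) 1
    rw [hv, mv_U, hv, mv_U] at h1
    simpa using h1
  have e23 : c 2 = a' * c 3 := by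
    have h1 := congrFun (hE (Pi.single 3 1)) 2
    rw [hv, mv_U, hv, mv_U] at h1
    simpa using h1
  have ha' : a' ≠ 0 := by
    rintro rfl
    rw [zero_mul] at e01
    exact hc0 0 e01
  obtain ⟨k, hk⟩ := (ofGood H).exists_sq_div (Units.mk0 a' ha')
  have hk : (k : F) ^ 2 * (θ k)⁻¹ = a' := hk
  have hθk := theta_ne_zero θ k
  have hk0 := k.ne_zero
  have hk1 : (k : F) ^ 2 = a' * θ k := by
    rw [← hk]; field_simp
  have hk2 : θ k = a' * θ a' := by
    have h1 : θ (k : F) ^ 2 = θ a' * θ (θ k) := by rw [← map_pow, hk1, map_mul]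
    rw [H.sq, hk1] at h1
    have h2 : θ (k : F) * θ k = θ k * (a' * θ a') := by linear_combination h1
    exact mul_left_cancel₀ hθk h2
  refine ⟨Units.mk0 (c 3) (hc0 3) * k, k, σ, fun v => ?_⟩
  rw [hv, mv_D, Units.val_mul, Units.val_mk0]
  apply ext4
  · show c 0 * σ (v 0) = c 3 * k * (k * σ (v 0))
    rw [e01, e12, e23]
    have : c 3 * k * (k * σ (v 0)) = c 3 * (k : F) ^ 2 * σ (v 0) := by ring
    rw [this, hk1, hk2]
    ring
  · show c 1 * σ (v 1) = c 3 * k * (θ k * (k : F)⁻¹ * σ (v 1))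
    rw [e12, e23]
    have : c 3 * k * (θ k * (k : F)⁻¹ * σ (v 1)) = c 3 * θ k * σ (v 1) := by field_simp
    rw [this, hk2]
    ring
  · show c 2 * σ (v 2) = c 3 * k * (k * (θ k)⁻¹ * σ (v 2))
    rw [e23]
    have : c 3 * k * (k * (θ k)⁻¹ * σ (v 2)) = c 3 * ((k : F) ^ 2 * (θ k)⁻¹) * σ (v 2) := by ring
    rw [this, hk]
    ring
  · show c 3 * σ (v 3) = c 3 * k * ((k : F)⁻¹ * σ (v 3))
    field_simp

end Std

/-- **Lemma N**: the normaliser of `Sz(q)` on the natural module is `(Fˣ × Sz(q)) . Aut(F)`. -/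
theorem Nrm.exists_semi [Fintype F] {m : ℕ} (hm : 1 ≤ m) (hF : Fintype.card F = 2 ^ (2 * m + 1))
    {H : Good F θ e} {γ : (Fin 4 → F) → (Fin 4 → F)} (h : Nrm H γ) :
    ∃ mu : Fˣ, ∃ A ∈ Cfsg.Lie.Sz F e, ∃ σ : F ≃+* F, ∀ v, γ v = (mu : F) • mv A (fun i => σ (v i)) := by
  obtain ⟨A, α, hS⟩ := h.exists_std hm hF
  obtain ⟨mu, k, σ, hv⟩ := hS.exists_form
  refine ⟨mu, A.1⁻¹ * H.D k, mul_mem (inv_mem A.2) (H.D_mem k), σ, fun v => ?_⟩
  have h1 := hv v
  have h2 : mv A.1⁻¹ (mv A.1 (γ v)) = mv A.1⁻¹ ((mu : F) • mv (H.D k) (fun i => σ (v i))) := by rw [← h1]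
  rw [mv_inv_mv, mv_smul, ← mv_mul] at h2
  exact h2

theorem eq_one_of_sq (H : Good F θ e) {s : F} (h : s ^ 2 = 1) : s = 1 := by
  have h1 : (s - 1) ^ 2 = 0 := by linear_combination h + (1 - s) * H.two
  exact sub_eq_zero.1 (pow_eq_zero_iff two_ne_zero |>.1 h1)

/-- `Sz` contains no scalars -/
theorem scalar_eq_one (H : Good F θ e) {A : GL (Fin 4) F} (hA : A ∈ Cfsg.Lie.Sz F e) {s : F}
    (h : ∀ v, mv A v = s • v) : s = 1 ∧ A = 1 := by
  have hs : s = 1 := by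
    apply eq_one_of_sq H
    have h1 := (H.mem_Sz.1 hA).1 (Pi.single 0 1) (Pi.single 3 1)
    have h2 : ∀ v, (Units.coeHom (Matrix (Fin 4) (Fin 4) F) A) *ᵥ v = s • v := h
    rw [h2, h2] at h1
    simp [Cfsg.Lie.altForm4] at h1
    linear_combination h1
  refine ⟨hs, mv_inj fun v => ?_⟩
  rw [h, hs, one_smul, mv_one]

theorem mv_ne (A : GL (Fin 4) F) {v : Fin 4 → F} (hv : v ≠ 0) : mv A v ≠ 0 := by
  intro h
  rw [← mv_zero A] at h
  exact hv (mv_injective A h)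

/-- uniqueness of the semilinear form -/
theorem semi_unique (H : Good F θ e) {mu mu' : Fˣ} {A A' : GL (Fin 4) F} (hA : A ∈ Cfsg.Lie.Sz F e)
    (hA' : A' ∈ Cfsg.Lie.Sz F e) {σ σ' : F ≃+* F}
    (h : ∀ v : Fin 4 → F, (mu : F) • mv A (fun i => σ (v i)) = (mu' : F) • mv A' (fun i => σ' (v i))) :
    mu = mu' ∧ A = A' ∧ σ = σ' := by
  have hσ : σ = σ' := by
    ext c
    have h1 := h (c • Pi.single 0 1)
    have h2 := h (Pi.single 0 1)
    have e1 : ∀ τ : F ≃+* F, (fun i => τ ((c • (Pi.single 0 1 : Fin 4 → F)) i)) =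
        τ c • (fun i => τ ((Pi.single 0 1 : Fin 4 → F) i)) := by
      intro τ
      funext i
      simp only [Pi.smul_apply, smul_eq_mul, map_mul]
    rw [e1, e1, mv_smul, mv_smul, smul_comm, h2, smul_comm (mu' : F)] at h1
    have h3 : (mu' : F) • mv A' (fun i => σ' ((Pi.single 0 1 : Fin 4 → F) i)) ≠ 0 := by
      apply smul_ne_zero mu'.ne_zero
      apply mv_ne
      intro h4
      have h5 := congrFun h4 0
      simp at h5
    have h4 : (σ c - σ' c) • ((mu' : F) • mv A' (fun i => σ' ((Pi.single 0 1 : Fin 4 → F) i))) = 0 := by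
      rw [sub_smul, h1, sub_self]
    rcases smul_eq_zero.1 h4 with h5 | h5
    · exact sub_eq_zero.1 h5
    · exact absurd h5 h3
  subst hσ
  have h1 : ∀ v, mv (A'⁻¹ * A) v = ((mu : F)⁻¹ * mu') • v := by
    intro v
    have h2 := h (fun i => σ.symm (v i))
    simp only [RingEquiv.apply_symm_apply] at h2
    have h3 : mv A v = ((mu : F)⁻¹ * mu') • mv A' v := by
      rw [mul_smul, ← h2, smul_smul, inv_mul_cancel₀ mu.ne_zero, one_smul]
    rw [mv_mul, h3, mv_smul, mv_inv_mv]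
  obtain ⟨h2, h3⟩ := scalar_eq_one H (mul_mem (inv_mem hA') hA) h1
  refine ⟨?_, ?_, rfl⟩
  · apply Units.ext
    have := mu.ne_zero
    field_simp at h2
    exact h2.symm
  · exact (inv_mul_eq_one.1 h3).symm

/-- **2-elements of the normaliser lie in `Sz`.** -/
theorem Nrm.exists_of_two [Fintype F] {m : ℕ} (hm : 1 ≤ m) (hF : Fintype.card F = 2 ^ (2 * m + 1))
    {H : Good F θ e} {γ : (Fin 4 → F) → (Fin 4 → F)} (h : Nrm H γ) {n : ℕ} (hn : ∀ v, γ^[2 ^ n] v = v) :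
    ∃ A ∈ Cfsg.Lie.Sz F e, ∀ v, γ v = mv A v := by
  obtain ⟨mu, A, hA, σ, hγ⟩ := h.exists_semi hm hF
  have hsm : ∀ (c : F) (v : Fin 4 → F), γ (c • v) = σ c • γ v := by
    intro c v
    have e1 : (fun i => σ ((c • v) i)) = σ c • (fun i => σ (v i)) := by
      funext i
      simp
    rw [hγ, hγ, e1, mv_smul, smul_comm]
  have hit : ∀ (N : ℕ) (c : F) (v : Fin 4 → F), γ^[N] (c • v) = σ^[N] c • γ^[N] v := by
    intro N
    induction N with
    | zero => intro c v; rfl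
    | succ N ih =>
      intro c v
      rw [Function.iterate_succ_apply, hsm, ih, Function.iterate_succ_apply, Function.iterate_succ_apply]
  have hσ : ∀ x, σ x = x := by
    intro x
    apply fieldAut_eq hF σ n
    intro c
    have h1 := hit (2 ^ n) c (Pi.single 0 1)
    rw [hn, hn] at h1
    have h2 := congrFun h1 0
    simp at h2
    exact h2.symm
  have hγ' : ∀ v, γ v = (mu : F) • mv A v := by
    intro v
    rw [hγ]
    simp only [hσ]
  have hit' : ∀ (N : ℕ) (v : Fin 4 → F), γ^[N] v = (mu : F) ^ N • mv (A ^ N) v := by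
    intro N
    induction N with
    | zero => intro v; simp [mv_one]
    | succ N ih =>
      intro v
      rw [Function.iterate_succ_apply', ih, hγ', mv_smul, ← mv_mul, ← pow_succ', smul_smul, ← pow_succ']
  have h1 : ∀ v, mv (A ^ 2 ^ n) v = ((mu : F) ^ 2 ^ n)⁻¹ • v := by
    intro v
    have h2 := hit' (2 ^ n) v
    rw [hn] at h2
    conv_rhs => rw [h2]
    rw [smul_smul, inv_mul_cancel₀ (pow_ne_zero _ mu.ne_zero), one_smul]
  have h2 := (scalar_eq_one H (pow_mem hA _) h1).1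
  have h3 : (mu : F) = 1 := (ofGood H).pow_two_eq_one (inv_eq_one.1 h2)
  exact ⟨A, hA, fun v => by rw [hγ', h3, one_smul]⟩

/-- an element of `Sz` fixing the line `F e₀` -/
theorem exists_ud (H : Good F θ e) {A : GL (Fin 4) F} (hA : A ∈ Cfsg.Lie.Sz F e)
    (h : mv A (Pi.single 0 1) 3 = 0) : ∃ (a b : F) (k : Fˣ), A = H.U a b * H.D k := by
  apply H.eq_U_mul_D hA
  unfold mv at h
  rw [Matrix.mulVec_single_one] at h
  exact h

theorem mv_ud_zero (H : Good F θ e) (a b : F) (k : Fˣ) (c : F) :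
    mv (H.U a b * H.D k) (Pi.single 0 c) = Pi.single 0 (k * c) := by
  rw [mv_mul, mv_D, mv_U]
  apply ext4 <;> simp

/-- **(m3')** -/
theorem Nrm.exists_borel [Fintype F] {m : ℕ} (hm : 1 ≤ m) (hF : Fintype.card F = 2 ^ (2 * m + 1))
    {H : Good F θ e} {γ : (Fin 4 → F) → (Fin 4 → F)} (h : Nrm H γ) (h3 : γ (Pi.single 0 1) 3 = 0) :
    ∃ (mu : Fˣ) (a b : F) (k : Fˣ) (σ : F ≃+* F), ∀ v, γ v = (mu : F) • mv (H.U a b * H.D k) (fun i => σ (v i)) := by
  obtain ⟨mu, A, hA, σ, hγ⟩ := h.exists_semi hm hF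
  obtain ⟨a, b, k, rfl⟩ := exists_ud H hA (by
    rw [hγ] at h3
    have h4 : (fun i => σ ((Pi.single 0 1 : Fin 4 → F) i)) = Pi.single 0 1 := by
      apply ext4 <;> simp
    rw [h4] at h3
    have h5 : (mu : F) * mv A (Pi.single 0 1) 3 = 0 := h3
    exact (mul_eq_zero.1 h5).resolve_left mu.ne_zero)
  exact ⟨mu, a, b, k, σ, hγ⟩

/-- **(m3)** -/
theorem Nrm.exists_fix [Fintype F] {m : ℕ} (hm : 1 ≤ m) (hF : Fintype.card F = 2 ^ (2 * m + 1))
    {H : Good F θ e} {γ : (Fin 4 → F) → (Fin 4 → F)} (h : Nrm H γ) (h3 : ∀ c, γ (Pi.single 0 c) = Pi.single 0 c) :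
    ∃ (mu : Fˣ) (a b : F) (k : Fˣ), mu * k = 1 ∧ ∀ v, γ v = (mu : F) • mv (H.U a b * H.D k) v := by
  obtain ⟨mu, a, b, k, σ, hγ⟩ := h.exists_borel hm hF (by rw [h3]; simp)
  have h4 : ∀ c, mu * (k * σ c) = c := by
    intro c
    have h5 : (fun i => σ ((Pi.single 0 c : Fin 4 → F) i)) = Pi.single 0 (σ c) := by
      apply ext4 <;> simp
    have h6 := h3 c
    rw [hγ, h5, mv_ud_zero] at h6
    have h7 := congrFun h6 0
    simpa using h7
  have h5 : (mu : F) * k = 1 := by simpa using h4 1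
  have h6 : ∀ c, σ c = c := by
    intro c
    have := h4 c
    rw [← mul_assoc, h5, one_mul] at this
    exact this
  refine ⟨mu, a, b, k, Units.ext h5, fun v => ?_⟩
  rw [hγ]
  simp only [h6]

theorem zmod_two (c : ZMod 2) : c = 0 ∨ c = 1 := by revert c; decide

/-- **Galois lemma** -/
theorem exists_galois {F F' : Type*} [Field F] [Field F'] [Finite F] [Finite F'] [CharP F 2] [CharP F' 2]
    (hc : Nat.card F = Nat.card F') {ψ : F → F'} (hadd : ∀ x y, ψ (x + y) = ψ x + ψ y)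
    (hinj : Function.Injective ψ) {k : F} {k' : F'} (hk : ∀ x, ψ (k * x) = k' * ψ x) :
    ∃ τ : F ≃+* F', τ k = k' := by
  let : Algebra (ZMod 2) F := ZMod.algebra F 2
  let : Algebra (ZMod 2) F' := ZMod.algebra F' 2
  have : Fact (Nat.Prime 2) := ⟨Nat.prime_two⟩
  have h0 : ψ 0 = 0 := by
    have := hadd 0 0
    rw [add_zero] at this
    exact left_eq_add.1 this
  have hpow : ∀ (n : ℕ) (x : F), ψ (k ^ n * x) = k' ^ n * ψ x := by
    intro n
    induction n with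
    | zero => intro x; simp
    | succ n ih =>
      intro x
      rw [pow_succ', mul_assoc, hk, ih, pow_succ', mul_assoc]
  have hz : ∀ (c : ZMod 2) (x : F), ψ (algebraMap (ZMod 2) F c * x) = algebraMap (ZMod 2) F' c * ψ x := by
    intro c x
    rcases zmod_two c with rfl | rfl
    · simp [h0]
    · simp
  have hpol : ∀ (p : Polynomial (ZMod 2)) (x : F), ψ (Polynomial.aeval k p * x) = Polynomial.aeval k' p * ψ x := by
    intro p
    induction p using Polynomial.induction_on' with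
    | add p q hp hq => intro x; rw [map_add, map_add, add_mul, add_mul, hadd, hp, hq]
    | monomial n c =>
      intro x
      rw [Polynomial.aeval_monomial, Polynomial.aeval_monomial, mul_assoc, hz, hpow, mul_assoc]
  obtain ⟨τ₀⟩ : Nonempty (F ≃ₐ[ZMod 2] F') := by
    refine ⟨?_⟩
    have : Fintype F := Fintype.ofFinite F
    have : Fintype F' := Fintype.ofFinite F'
    exact FiniteField.algEquivOfCardEq 2 (by rwa [Nat.card_eq_fintype_card, Nat.card_eq_fintype_card] at hc)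
  have hint : IsIntegral (ZMod 2) k := IsIntegral.of_finite _ _
  have hmin : minpoly (ZMod 2) (τ₀.symm k') = minpoly (ZMod 2) k := by
    have h1 : Polynomial.aeval k' (minpoly (ZMod 2) k) = 0 := by
      have h2 := hpol (minpoly (ZMod 2) k) 1
      rw [minpoly.aeval, zero_mul, h0] at h2
      have h3 : ψ 1 ≠ 0 := by
        intro h4
        rw [← h0] at h4
        exact one_ne_zero (hinj h4)
      exact (mul_eq_zero.1 h2.symm).resolve_right h3
    symm
    apply minpoly.eq_of_irreducible_of_monic (minpoly.irreducible hint) _ (minpoly.monic hint)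
    refine (Polynomial.aeval_algHom_apply (τ₀.symm : F' →ₐ[ZMod 2] F) k' _).trans ?_
    rw [h1, map_zero]
  have hconj : IsConjRoot (ZMod 2) k (τ₀.symm k') := hmin.symm
  obtain ⟨σ, hσ⟩ := isConjRoot_iff_exists_algEquiv.1 hconj
  refine ⟨(σ.symm.trans τ₀).toRingEquiv, ?_⟩
  show τ₀ (σ.symm k) = k'
  rw [← hσ, AlgEquiv.symm_apply_apply, AlgEquiv.apply_symm_apply]

/-- `F⁴` is generated by the images of `F e₀` under `Sz` -/
theorem span_lines (H : Good F θ e) (X : AddSubgroup (Fin 4 → F))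
    (h : ∀ A ∈ Cfsg.Lie.Sz F e, ∀ c : F, mv A (Pi.single 0 c) ∈ X) : X = ⊤ := by
  have h0 : ∀ c : F, Pi.single 0 c ∈ X := by
    intro c
    have := h 1 (one_mem _) c
    rwa [mv_one] at this
  have h3 : ∀ c : F, Pi.single 3 c ∈ X := by
    intro c
    have := h (W F) H.W_mem c
    rw [mv_W] at this
    convert this using 1
    apply ext4 <;> simp
  have hU : ∀ a b c : F, mv (H.U a b) (Pi.single 3 c) ∈ X := by
    intro a b c
    have := h (H.U a b * W F) (mul_mem (H.U_mem a b) H.W_mem) c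
    rw [mv_mul, mv_W] at this
    convert this using 2
    apply ext4 <;> simp
  have h1 : ∀ c : F, Pi.single 1 c ∈ X := by
    intro c
    have h4 := X.sub_mem (X.sub_mem (hU 0 1 c) (h3 c)) (h0 c)
    rw [mv_U] at h4
    convert h4 using 1
    apply ext4 <;> simp only [Pi.sub_apply] <;> simp
  have h2 : ∀ c : F, Pi.single 2 c ∈ X := by
    intro c
    have h4 := X.sub_mem (X.sub_mem (X.sub_mem (hU 1 0 c) (h3 c)) (h0 c)) (h1 c)
    rw [mv_U] at h4
    convert h4 using 1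
    apply ext4 <;> simp only [Pi.sub_apply] <;> simp
  rw [AddSubgroup.eq_top_iff']
  intro v
  have h4 : v = Pi.single 0 (v 0) + Pi.single 1 (v 1) + Pi.single 2 (v 2) + Pi.single 3 (v 3) := by
    apply ext4 <;> simp
  rw [h4]
  exact X.add_mem (X.add_mem (X.add_mem (h0 _) (h1 _)) (h2 _)) (h3 _)

end Cfsg.Agent.Omega.TwoFFour
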