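import Cfsg.Agent.Omega.TwoFFour.Hal
import Cfsg.Agent.Omega.TwoFFour.SzTor
import Cfsg.Agent.Omega.TwoFFour.Oct

/-!
# THEOREM 2F4, (4): the weights

`dl : Fˣ → ZMod N`, `N = |Fˣ|`, the discrete logarithm; `xw h g = dl (aOf g)`, `yw h g = dl (lOf g)`.
The weight fields of `Oct`: `xw_mul`, `surj`, `inj`, `x₀`, `y₀`, `x₁`, `y₁`, `triv`, `free`, `Z_x`, `fixZ`, `split`.
-/

set_option autoImplicit false
set_option linter.unusedSectionVars false

namespace Cfsg.Agent.Omega.TwoFFour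

open Subgroup Matrix
open Cfsg.Agent.ZN Cfsg.Agent.MinSimple.VModule Cfsg.Agent.Lib.SL2Mat
open Cfsg.Agent.LieRecognition.SzMatrix (Good Umat Umat_def Dmat Dmat_def W_mul_W theta_ne_zero)
open Cfsg.Agent.Omega.NatPair (NatMod ap ext2)

section dlog

variable {F : Type*} [Field F] [Finite F]

/-- the discrete logarithm -/
noncomputable def dl (u : Fˣ) : ZMod (Nat.card Fˣ) :=
  Multiplicative.toAdd ((zmodCyclicMulEquiv (inferInstance : IsCyclic Fˣ)).symm u)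

theorem dl_mul (u v : Fˣ) : dl (u * v) = dl u + dl v := by
  unfold dl
  rw [map_mul]
  rfl

theorem dl_inj {u v : Fˣ} (h : dl u = dl v) : u = v := by
  unfold dl at h
  exact (zmodCyclicMulEquiv (inferInstance : IsCyclic Fˣ)).symm.injective (Multiplicative.toAdd.injective h)

theorem dl_surj (a : ZMod (Nat.card Fˣ)) : ∃ u : Fˣ, dl u = a := by
  refine ⟨(zmodCyclicMulEquiv (inferInstance : IsCyclic Fˣ)) (Multiplicative.ofAdd a), ?_⟩
  unfold dl
  rw [MulEquiv.symm_apply_apply]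
  rfl

theorem dl_one : dl (1 : Fˣ) = 0 := by
  have h := dl_mul (1 : Fˣ) 1
  rw [mul_one] at h
  exact left_eq_add.1 h

theorem dl_eq_zero {u : Fˣ} : dl u = 0 ↔ u = 1 := by
  constructor
  · intro h
    exact dl_inj (h.trans dl_one.symm)
  · rintro rfl
    exact dl_one

theorem dl_inv (u : Fˣ) : dl u⁻¹ = -dl u := by
  have h := dl_mul u⁻¹ u
  rw [inv_mul_cancel, dl_one] at h
  exact eq_neg_of_add_eq_zero_left h.symm

theorem dl_pow (u : Fˣ) (n : ℕ) : dl (u ^ n) = n * dl u := by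
  induction n with
  | zero => rw [pow_zero, dl_one, Nat.cast_zero, zero_mul]
  | succ n ih => rw [pow_succ, dl_mul, ih, Nat.cast_succ]; ring

end dlog

section th

variable {F : Type*} [Field F] {θ : F →+* F} {e : ℕ} (H : Good F θ e)

/-- `θ` on the units -/
def thU (θ : F →+* F) : Fˣ →* Fˣ := Units.map (θ : F →* F)

theorem thU_val (u : Fˣ) : ((thU θ u : Fˣ) : F) = θ u := rfl

include H in
theorem thU_pow (u : Fˣ) : thU θ u = u ^ e := by
  apply Units.ext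
  rw [thU_val, Units.val_pow_eq_pow_val, H.pow]

include H in
theorem thU_sq (u : Fˣ) : thU θ (thU θ u) = u ^ 2 := by
  apply Units.ext
  rw [thU_val, thU_val, H.sq, Units.val_pow_eq_pow_val]

variable [Finite F]

include H in
theorem dl_th (u : Fˣ) : dl (thU θ u) = (e : ZMod (Nat.card Fˣ)) * dl u := by
  rw [thU_pow H, dl_pow]

include H in
theorem e_sq : (e : ZMod (Nat.card Fˣ)) * e = 2 := by
  obtain ⟨u, hu⟩ := dl_surj (F := F) 1
  have h1 := dl_th H (thU θ u)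
  rw [thU_sq H, dl_th H, dl_pow, hu, mul_one, mul_one] at h1
  rw [← h1]; rfl

include H in
theorem sq_inj {u v : Fˣ} (h : u ^ 2 = v ^ 2) : u = v := by
  have h2 := H.two
  have h3 : ((u : F) - v) ^ 2 = 0 := by
    have h4 : (u : F) ^ 2 = (v : F) ^ 2 := by
      have := congrArg Units.val h
      simpa using this
    linear_combination h4 + (v : F) ^ 2 * h2 - u * v * h2
  exact Units.ext (sub_eq_zero.1 ((pow_eq_zero_iff two_ne_zero).1 h3))

end th

variable {G : Type*} [Group G]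

namespace Sit

variable {F : Type*} [Field F] [Finite F] {θ : F →+* F} {e : ℕ} {H : Good F θ e} {S : Sylow 2 G} {V Z W : Subgroup G}

/-- the weight of `Z` -/
noncomputable def xw (h : Sit F H S V Z W) (g : G) : ZMod (Nat.card Fˣ) := dl (h.aOf g)

/-- the weight of `V / Z` -/
noncomputable def yw (h : Sit F H S V Z W) (g : G) : ZMod (Nat.card Fˣ) := dl (h.lOf g)

variable {h : Sit F H S V Z W}

theorem Tor.xw_eq {g : G} {a l m k : Fˣ} (t : Tor h g a l m k) : h.xw g = dl a := by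
  unfold xw; rw [t.aOf_eq]

theorem Tor.yw_eq {g : G} {a l m k : Fˣ} (t : Tor h g a l m k) : h.yw g = dl l := by
  unfold yw; rw [t.lOf_eq]

theorem Tor.toSz {g : G} {a l m k : Fˣ} (t : Tor h g a l m k) : h.P.Tor g m k 1 := by
  intro v
  rw [fa_one]
  exact t.W v

variable {Hh : Subgroup G}

theorem Hall.mul_x (hH : Hall h Hh) : ∀ g ∈ Hh, ∀ g' ∈ Hh, h.xw (g * g') = h.xw g + h.xw g' := by
  intro g hg g' hg'
  obtain ⟨a, l, m, k, t⟩ := hH.le hg
  obtain ⟨a', l', m', k', t'⟩ := hH.le hg'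
  rw [(t.mul t').xw_eq, t.xw_eq, t'.xw_eq, dl_mul]

theorem Hall.mul_y (hH : Hall h Hh) : ∀ g ∈ Hh, ∀ g' ∈ Hh, h.yw (g * g') = h.yw g + h.yw g' := by
  intro g hg g' hg'
  obtain ⟨a, l, m, k, t⟩ := hH.le hg
  obtain ⟨a', l', m', k', t'⟩ := hH.le hg'
  rw [(t.mul t').yw_eq, t.yw_eq, t'.yw_eq, dl_mul]

variable [Finite G]

/-- representatives in `Hh` -/
theorem Hall.exists_rep (o : Out h) (hH : Hall h Hh) {g : G} {a l m k : Fˣ} (t : Tor h g a l m k) :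
    ∃ c ∈ centralizer (V : Set G), ∃ x ∈ Hh, g = c * x ∧ Tor h x a l m k ∧ c ∈ h.P.K := by
  obtain ⟨c, hc, x, hx, e1⟩ := hH.cover g ⟨_, _, _, _, t⟩
  obtain ⟨a', l', m', k', t'⟩ := hH.le hx
  have t₂ := t.mul t'.inv
  have e3 : g * x⁻¹ = c := by rw [e1]; group
  rw [e3] at t₂
  have h6 := t₂.V 1 1
  rw [h.e_of_mem_cen hc] at h6
  have h7 := h.e_inj h6
  rw [mul_one, mul_one] at h7
  have h8 : a * a'⁻¹ = 1 := Units.ext h7.1.symm
  have h9 : l * l'⁻¹ = 1 := Units.ext h7.2.symm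
  rw [h8, h9] at t₂
  obtain ⟨h10, h11⟩ := t₂.unip o
  rw [h10, h11] at t₂
  rw [mul_inv_eq_one] at h8 h9 h10 h11
  subst h8 h9 h10 h11
  refine ⟨c, hc, x, hx, e1, t', t₂.memB.2, fun v => ?_⟩
  rw [t₂.W, H.D_one, mv_one, Units.val_one, one_smul]

theorem Hall.surj (o : Out h) (hH : Hall h Hh) (a b : ZMod (Nat.card Fˣ)) :
    ∃ g ∈ Hh, h.xw g = a ∧ h.yw g = b := by
  obtain ⟨a, rfl⟩ := dl_surj a
  obtain ⟨b, rfl⟩ := dl_surj b
  obtain ⟨g, m, k, t, -⟩ := o.exists_tor a b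
  obtain ⟨c, hc, x, hx, -, t', -⟩ := hH.exists_rep o t
  exact ⟨x, hx, t'.xw_eq, t'.yw_eq⟩

theorem Hall.inj' (hH : Hall h Hh) : ∀ g ∈ Hh, ∀ g' ∈ Hh, h.xw g = h.xw g' → h.yw g = h.yw g' → g = g' := by
  intro g hg g' hg' h1 h2
  obtain ⟨a, l, m, k, t⟩ := hH.le hg
  obtain ⟨a', l', m', k', t'⟩ := hH.le hg'
  rw [t.xw_eq, t'.xw_eq] at h1
  rw [t.yw_eq, t'.yw_eq] at h2
  have h3 := dl_inj h1
  have h4 := dl_inj h2
  subst h3 h4
  have t₂ := t.inv.mul t'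
  rw [inv_mul_cancel, inv_mul_cancel] at t₂
  exact inv_mul_eq_one.1 (hH.inj _ (mul_mem (inv_mem hg) hg') t₂.cen)

/-! ### The reflections -/

omit [Finite F] [Finite G] in
theorem Tor.conj₁ {g n : G} {a l m k a' l' m' k' : Fˣ} (t : Tor h g a l m k) (hn : h.Sw n)
    (t' : Tor h (n⁻¹ * g * n) a' l' m' k') : a' = l ∧ l' = a := by
  have h1 := t'.V 1 1
  have e1 : n⁻¹ * g * n * h.N.e ![1, 1] * (n⁻¹ * g * n)⁻¹ = n⁻¹ * (g * (n * h.N.e ![1, 1] * n⁻¹) * g⁻¹) * n⁻¹⁻¹ := by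
    group
  rw [e1, hn, t.V, h.sw_inv hn] at h1
  have h2 := h.e_inj h1
  rw [mul_one, mul_one, mul_one, mul_one] at h2
  exact ⟨Units.ext h2.1.symm, Units.ext h2.2.symm⟩

theorem Tor.conj₀ (o : Out h) {g n : G} {a l m k a' l' m' k' : Fˣ} (t : Tor h g a l m k)
    (hn : n ∈ centralizer (Z : Set G)) (hnW : h.P.Ind n (Cfsg.Agent.LieRecognition.SzMatrix.W F))
    (t' : Tor h (n⁻¹ * g * n) a' l' m' k') : a' = a ∧ l' * l = thU θ a := by
  have hnC := h.cZ_le hn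
  have hz : ∀ {z : G}, z ∈ Z → n * z * n⁻¹ = z := by
    intro z hz
    rw [← mem_centralizer_iff.1 hn z hz, mul_inv_cancel_right]
  have hz' : ∀ {z : G}, z ∈ Z → n⁻¹ * z * n = z := by
    intro z hz
    rw [mul_assoc, mem_centralizer_iff.1 hn z hz, inv_mul_cancel_left]
  have h1 := t'.V 1 0
  have e1 : n⁻¹ * g * n * h.N.e ![1, 0] * (n⁻¹ * g * n)⁻¹ = n⁻¹ * (g * (n * h.N.e ![1, 0] * n⁻¹) * g⁻¹) * n := by
    group
  rw [e1, hz ((h.e_memZ _ _).2 rfl), t.V, mul_zero, hz' ((h.e_memZ _ _).2 rfl), mul_zero] at h1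
  have h2 := (h.e_inj h1).1
  rw [mul_one, mul_one] at h2
  have ha : a' = a := Units.ext h2.symm
  refine ⟨ha, ?_⟩
  have h3 : (m' : F) * k' = m * (k : F)⁻¹ := by
    have h4 := t'.W ![1, 0, 0, 0]
    rw [h.P.act_mul (mul_mem (inv_mem hnC) t.memB.2) hnC, h.P.act_mul (inv_mem hnC) t.memB.2, hnW,
      hnW.inv hnC, inv_eq_of_mul_eq_one_left (W_mul_W : Cfsg.Agent.LieRecognition.SzMatrix.W F * _ = 1),
      t.W, mv_smul, mv_W, mv_D, mv_W, mv_D] at h4
    have h5 := congrFun h4 0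
    have h6 : (m : F) * ((k : F)⁻¹ * 1) = m' * (k' * 1) := h5
    rw [mul_one, mul_one] at h6
    exact h6.symm
  have h4 := t.rel
  have h5 := t'.rel
  have h6 := o.rel2 t
  have hk := k.ne_zero
  have h7 : h.sig (l' * l) = h.sig (θ a) := by
    rw [map_mul, h4, h5, h3, ← h6]
    field_simp
  exact Units.ext (h.sig.injective h7)

theorem Hall.x₁ (hH : Hall h Hh) {n : G} (hn : h.Sw n) (hnH : n ∈ normalizer (Hh : Set G)) :
    ∀ g ∈ Hh, h.xw (n⁻¹ * g * n) = h.yw g ∧ h.yw (n⁻¹ * g * n) = h.xw g := by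
  intro g hg
  obtain ⟨a, l, m, k, t⟩ := hH.le hg
  obtain ⟨a', l', m', k', t'⟩ := hH.le ((mem_normalizer_iff''.1 hnH g).1 hg)
  obtain ⟨h1, h2⟩ := t.conj₁ hn t'
  rw [t.xw_eq, t.yw_eq, t'.xw_eq, t'.yw_eq, h1, h2]
  exact ⟨rfl, rfl⟩

theorem Hall.x₀ (o : Out h) (hH : Hall h Hh) {n : G} (hn : n ∈ centralizer (Z : Set G))
    (hnW : h.P.Ind n (Cfsg.Agent.LieRecognition.SzMatrix.W F)) (hnH : n ∈ normalizer (Hh : Set G)) :
    ∀ g ∈ Hh, h.xw (n⁻¹ * g * n) = h.xw g ∧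
      h.yw (n⁻¹ * g * n) = (e : ZMod (Nat.card Fˣ)) * h.xw g - h.yw g := by
  intro g hg
  obtain ⟨a, l, m, k, t⟩ := hH.le hg
  obtain ⟨a', l', m', k', t'⟩ := hH.le ((mem_normalizer_iff''.1 hnH g).1 hg)
  obtain ⟨h1, h2⟩ := t.conj₀ o hn hnW t'
  rw [t.xw_eq, t.yw_eq, t'.xw_eq, t'.yw_eq, h1, ← dl_th H, ← h2, dl_mul, add_sub_cancel_right]
  exact ⟨rfl, rfl⟩

/-! ### The panels -/

theorem Tor.k_one_iff (o : Out h) {g : G} {a l m k : Fˣ} (t : Tor h g a l m k) : k = 1 ↔ thU θ l = a := by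
  have h4 := t.rel
  have h6 := o.rel2 t
  constructor
  · rintro rfl
    rw [Units.val_one, mul_one] at h4
    rw [← h4, ← map_pow] at h6
    have h7 : l ^ 2 = thU θ a := Units.ext (by
      rw [Units.val_pow_eq_pow_val, thU_val]
      exact h.sig.injective h6)
    apply sq_inj H
    rw [← map_pow, h7, thU_sq H]
  · intro h7
    rw [← h7, thU_val, H.sq, map_pow, h4] at h6
    have h8 : k ^ 2 = 1 := by
      apply Units.ext
      rw [Units.val_pow_eq_pow_val, Units.val_one]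
      have hm : (m : F) ^ 2 ≠ 0 := pow_ne_zero 2 m.ne_zero
      apply mul_left_cancel₀ hm
      rw [mul_one]
      linear_combination -h6
    exact sq_inj H (by rw [h8, one_pow])

theorem fr_false_iff (o : Out h) {g : G} {a l m k : Fˣ} (t : Tor h g a l m k) :
    fr (e : ZMod (Nat.card Fˣ)) h.xw h.yw false g = 0 ↔ k = 1 := by
  rw [t.k_one_iff o]
  show (e : ZMod (Nat.card Fˣ)) * h.yw g - h.xw g = 0 ↔ _
  rw [t.xw_eq, t.yw_eq, ← dl_th H, sub_eq_zero]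
  exact ⟨dl_inj, fun h => by rw [h]⟩

theorem fr_true_iff {g : G} {a l m k : Fˣ} (t : Tor h g a l m k) :
    fr (e : ZMod (Nat.card Fˣ)) h.xw h.yw true g = 0 ↔ a = l := by
  show h.xw g - h.yw g = 0 ↔ _
  rw [t.xw_eq, t.yw_eq, sub_eq_zero]
  exact ⟨dl_inj, fun h => by rw [h]⟩

omit [Finite F] [Finite G] in
theorem Tor.conj_up {g s : G} {a l m k : Fˣ} (t : Tor h g a l m k) {b : F} (hs : h.Up s b) :
    h.Up (g * s * g⁻¹) (a * b * (l : F)⁻¹) := by
  intro x y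
  have e1 : g * s * g⁻¹ * h.N.e ![x, y] * (g * s * g⁻¹)⁻¹ = g * (s * (g⁻¹ * h.N.e ![x, y] * g⁻¹⁻¹) * s⁻¹) * g⁻¹ := by
    group
  rw [e1, t.inv.V, hs, t.V]
  congr 1
  have ha := a.ne_zero
  have hl := l.ne_zero
  rw [Units.val_inv_eq_inv_val, Units.val_inv_eq_inv_val]
  apply ext2
  · show (a : F) * ((a : F)⁻¹ * x + b * ((l : F)⁻¹ * y)) = x + a * b * (l : F)⁻¹ * y
    field_simp
  · show (l : F) * ((l : F)⁻¹ * y) = y
    field_simp

theorem Tor.triv_true (o : Out h) {g : G} {a m k : Fˣ} (t : Tor h g a a m k) {s : G} (hs : s ∈ S) :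
    g * s * g⁻¹ * s⁻¹ ∈ centralizer (V : Set G) := by
  obtain ⟨b, hb⟩ := h.exists_up hs
  apply h.cen_of_up
  have h1 := h.up_mul (t.conj_up hb) (h.up_inv hb)
  have ha := a.ne_zero
  have e1 : (a : F) * b * (a : F)⁻¹ + b = 0 := by
    have := H.add_self b
    field_simp
    linear_combination this
  rwa [e1] at h1

theorem Tor.free_true {g : G} {a l m k : Fˣ} (t : Tor h g a l m k) (hne : a ≠ l) {s : G} (hs : s ∈ S)
    (hc : g * s * g⁻¹ * s⁻¹ ∈ centralizer (V : Set G)) : s ∈ centralizer (V : Set G) := by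
  obtain ⟨b, hb⟩ := h.exists_up hs
  have h1 := h.up_mul (t.conj_up hb) (h.up_inv hb)
  have h2 := h.up_inj h1 (h.up_cen hc)
  have h3 : b = 0 := by
    by_contra hb0
    apply hne
    apply Units.ext
    have hl := l.ne_zero
    have h2' := H.two
    field_simp at h2
    have h4 : b * ((a : F) + l) = 0 := by linear_combination h2
    rcases mul_eq_zero.1 h4 with h5 | h5
    · exact absurd h5 hb0
    · linear_combination h5 - l * h2'
  rw [h3] at hb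
  exact h.cen_of_up hb

theorem Tor.triv_false {g : G} {a l m : Fˣ} (t : Tor h g a l m 1) {s : G} (hs : s ∈ S) :
    g * s * g⁻¹ * s⁻¹ ∈ h.P.K := by
  obtain ⟨b, c, hb⟩ := h.Ad.exists_U s hs
  have hsC := h.S_le_C hs
  have h1 := t.toSz.conj_U t.memB.2 hsC hb
  have h2 := SzMod.Ind.mul (mul_mem (mul_mem t.memB.2 hsC) (inv_mem t.memB.2)) (inv_mem hsC) h1 (hb.inv hsC)
  have e1 : H.U ((1 : F ≃+* F) b * ((1 : Fˣ) : F) ^ 2 * (θ ((1 : Fˣ) : F))⁻¹) ((1 : F ≃+* F) c * θ ((1 : Fˣ) : F)) *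
      (H.U b c)⁻¹ = 1 := by
    have e2 : (1 : F ≃+* F) b * ((1 : Fˣ) : F) ^ 2 * (θ ((1 : Fˣ) : F))⁻¹ = b := by
      show b * _ * _ = b
      simp
    have e3 : (1 : F ≃+* F) c * θ ((1 : Fˣ) : F) = c := by
      show c * _ = c
      simp
    rw [e2, e3, mul_inv_cancel]
  rw [e1] at h2
  exact (h.P.ind_one_iff (mul_mem (mul_mem (mul_mem t.memB.2 hsC) (inv_mem t.memB.2)) (inv_mem hsC))).1 h2

theorem Tor.free_false {g : G} {a l m k : Fˣ} (t : Tor h g a l m k) (hk : k ≠ 1) {s : G} (hs : s ∈ S)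
    (hc : g * s * g⁻¹ * s⁻¹ ∈ h.P.K) : s ∈ h.P.K := by
  obtain ⟨b, c, hb⟩ := h.Ad.exists_U s hs
  have hsC := h.S_le_C hs
  have h1 := t.toSz.conj_U t.memB.2 hsC hb
  have h2 := SzMod.Ind.mul (mul_mem (mul_mem t.memB.2 hsC) (inv_mem t.memB.2)) (inv_mem hsC) h1 (hb.inv hsC)
  have h3 := h2.unique ((h.P.ind_one_iff hc.1).2 hc)
  have h4 := mul_inv_eq_one.1 h3
  obtain ⟨h5, h6⟩ := H.U_inj h4
  have h5 : b * (k : F) ^ 2 * (θ k)⁻¹ = b := h5
  have h6 : c * θ k = c := h6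
  have hk1 : θ (k : F) ≠ 1 := by
    intro h7
    apply hk
    apply Units.ext
    exact θ.injective (h7.trans (map_one θ).symm)
  have hc0 : c = 0 := by
    by_contra hc0
    exact hk1 (mul_left_cancel₀ hc0 (h6.trans (mul_one c).symm))
  have hb0 : b = 0 := by
    by_contra hb0
    have hθ := theta_ne_zero θ k
    have h7 : (k : F) ^ 2 = θ k := by
      field_simp at h5
      exact h5
    -- `k⁴ = θ(k)² = θ(k²) = θ(θ k) = k²`
    have h8 : (k : F) ^ 2 * ((k : F) ^ 2 - 1) = 0 := by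
      have h9 : θ ((k : F) ^ 2) = θ (θ k) := by rw [h7]
      rw [H.sq, map_pow, ← h7] at h9
      linear_combination h9
    rcases mul_eq_zero.1 h8 with h9 | h9
    · exact k.ne_zero ((pow_eq_zero_iff two_ne_zero).1 h9)
    · apply hk1
      rw [← h7]
      linear_combination h9
  rw [hb0, hc0, H.U_zero] at hb
  exact (h.P.ind_one_iff hsC).1 hb

omit [Finite G] in
theorem Tor.Z_x {g : G} {l m k : Fˣ} (t : Tor h g 1 l m k) {z : G} (hz : z ∈ Z) : g * z = z * g := by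
  obtain ⟨c, rfl⟩ := (h.memZ z).1 hz
  have h1 := t.V c 0
  rw [Units.val_one, one_mul, mul_zero] at h1
  exact mul_inv_eq_iff_eq_mul.1 h1

theorem Tor.fixZ {g : G} {a l m k : Fˣ} (t : Tor h g a l m k) (hne : l ≠ a) {s : G} (hs : s ∈ S)
    (hc : g * s = s * g) : s ∈ centralizer (V : Set G) := by
  refine t.free_true hne.symm hs ?_
  rw [hc, mul_inv_cancel_right, mul_inv_cancel]
  exact one_mem _

end Sit

end Cfsg.Agent.Omega.TwoFFour
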